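import Cfsg.Agent.GLClass.SymplecticNumeric
import Mathlib

/-!
# The arithmetic for the classes of orthogonal groups

Degrees are weighted by `wt t n = t ^ ⌊n/2⌋ σ ^ (n mod 2)`, `σ ^ 2 ≥ 1/3 ≥ t`.
-/

set_option autoImplicit false
set_option linter.unusedSectionVars false

namespace CfsgLib.Geo.FormClasses

open CfsgLib.GLClass CfsgLib.GLClass.Symp

/-- An upper rational bound for `3 ^ (-1/2)`. -/
def sig : ℚ := 2887 / 5000

/-- The weight of degree `n`. -/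
def wt (t : ℚ) (n : ℕ) : ℚ := t ^ (n / 2) * (if Even n then 1 else sig)

theorem sig_pos : 0 < sig := by norm_num [sig]

theorem sig_sq : 1 / 3 ≤ sig * sig := by norm_num [sig]

theorem wt_nonneg {t : ℚ} (h0 : 0 ≤ t) (n : ℕ) : 0 ≤ wt t n := by
  have := sig_pos
  unfold wt; split_ifs <;> positivity

theorem wt_two_mul (t : ℚ) (n : ℕ) : wt t (n + n) = t ^ n := by
  rw [wt, if_pos ⟨n, rfl⟩, mul_one]; congr 1; omega

theorem wt_add {t : ℚ} (h0 : 0 ≤ t) (h3 : t ≤ 1 / 3) (a b : ℕ) : wt t (a + b) ≤ wt t a * wt t b := by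
  have hs := sig_sq
  rcases Nat.even_or_odd' a with ⟨i, rfl | rfl⟩ <;> rcases Nat.even_or_odd' b with ⟨j, rfl | rfl⟩
  · rw [wt, wt, wt, if_pos ⟨i + j, by ring⟩, if_pos ⟨i, by ring⟩, if_pos ⟨j, by ring⟩,
      show (2 * i + 2 * j) / 2 = i + j by omega, show 2 * i / 2 = i by omega, show 2 * j / 2 = j by omega, pow_add]
    exact le_of_eq (by ring)
  · rw [wt, wt, wt, if_neg (Nat.not_even_iff_odd.2 (show Odd (2 * i + (2 * j + 1)) from ⟨i + j, by ring⟩)),
      if_pos (show Even (2 * i) from ⟨i, by ring⟩),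
      if_neg (Nat.not_even_iff_odd.2 ⟨j, rfl⟩), show (2 * i + (2 * j + 1)) / 2 = i + j by omega,
      show 2 * i / 2 = i by omega, show (2 * j + 1) / 2 = j by omega, pow_add]
    exact le_of_eq (by ring)
  · rw [wt, wt, wt, if_pos (show Even (2 * j) from ⟨j, by ring⟩),
      if_neg (Nat.not_even_iff_odd.2 (show Odd (2 * i + 1) from ⟨i, rfl⟩)),
      if_neg (Nat.not_even_iff_odd.2 (show Odd (2 * i + 1 + 2 * j) from ⟨i + j, by ring⟩)), show (2 * i + 1 + 2 * j) / 2 = i + j by omega,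
      show (2 * i + 1) / 2 = i by omega, show 2 * j / 2 = j by omega, pow_add]
    exact le_of_eq (by ring)
  · rw [wt, wt, wt, if_pos ⟨i + j + 1, by ring⟩, if_neg (Nat.not_even_iff_odd.2 ⟨i, rfl⟩),
      if_neg (Nat.not_even_iff_odd.2 ⟨j, rfl⟩), show (2 * i + 1 + (2 * j + 1)) / 2 = i + j + 1 by omega,
      show (2 * i + 1) / 2 = i by omega, show (2 * j + 1) / 2 = j by omega, pow_succ, pow_add, mul_one]
    calc t ^ i * t ^ j * t ≤ t ^ i * t ^ j * (sig * sig) :=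
          mul_le_mul_of_nonneg_left (h3.trans hs) (by positivity)
      _ = t ^ i * sig * (t ^ j * sig) := by ring

theorem wt_mul {t : ℚ} (h0 : 0 ≤ t) (h3 : t ≤ 1 / 3) (k : ℕ) : ∀ d, wt t (k * d) ≤ wt t k ^ d
  | 0 => by simp [wt]
  | d + 1 => by
    rw [Nat.mul_succ, pow_succ]
    exact (wt_add h0 h3 _ _).trans (mul_le_mul_of_nonneg_right (wt_mul h0 h3 k d) (wt_nonneg h0 k))

theorem wt_sum {t : ℚ} (h0 : 0 ≤ t) (h3 : t ≤ 1 / 3) {ι : Type*} (s : Finset ι) (g : ι → ℕ) :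
    wt t (∑ i ∈ s, g i) ≤ ∏ i ∈ s, wt t (g i) := by
  classical
  induction s using Finset.induction_on with
  | empty => simp [wt]
  | insert a s ha ih =>
    rw [Finset.sum_insert ha, Finset.prod_insert ha]
    exact (wt_add h0 h3 _ _).trans (mul_le_mul_of_nonneg_left ih (wt_nonneg h0 _))

/-- Degrees of `J + 1` layers with total dimension `J + 1`. -/
def degs (J : ℕ) : Finset (Fin (J + 1) → Fin (J + 2)) :=
  Finset.univ.filter fun d => ∑ i : Fin (J + 1), ((i : ℕ) + 1) * (d i : ℕ) = J + 1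

theorem sum_degs_le {t : ℚ} (h0 : 0 ≤ t) (h3 : t ≤ 1 / 3) (cnt : ℕ → ℕ → ℕ) (C : ℚ) (f : ℕ → ℚ)
    (hhead : ∀ d, (cnt 1 d : ℚ) * wt t d ≤ C)
    (hf : ∀ k, 2 ≤ k → ∀ M, ∑ d ∈ Finset.range M, (cnt k d : ℚ) * wt t k ^ d ≤ f k) (J : ℕ) :
    ((∑ d ∈ degs J, ∏ i : Fin (J + 1), cnt ((i : ℕ) + 1) (d i : ℕ) : ℕ) : ℚ) * wt t (J + 1) ≤
      C * ∏ i : Fin J, f ((i : ℕ) + 2) := by
  classical
  have hC : 0 ≤ C := le_trans (by have := wt_nonneg h0 0; positivity) (hhead 0)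
  let a : Fin J → Fin (J + 2) → ℚ := fun i e => (cnt ((i : ℕ) + 2) (e : ℕ) : ℚ) * wt t ((i : ℕ) + 2) ^ (e : ℕ)
  have ha : ∀ i e, 0 ≤ a i e := fun i e => mul_nonneg (Nat.cast_nonneg _) (pow_nonneg (wt_nonneg h0 _) _)
  rw [Nat.cast_sum, Finset.sum_mul]
  have hstep : ∀ d ∈ degs J, ((∏ i : Fin (J + 1), cnt ((i : ℕ) + 1) (d i : ℕ) : ℕ) : ℚ) * wt t (J + 1) ≤
      C * ∏ i : Fin J, a i (d i.succ) := by
    intro d hd
    have hd' : ∑ i : Fin (J + 1), ((i : ℕ) + 1) * (d i : ℕ) = J + 1 := (Finset.mem_filter.1 hd).2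
    rw [show wt t (J + 1) = wt t (∑ i : Fin (J + 1), ((i : ℕ) + 1) * (d i : ℕ)) by rw [hd'], Fin.sum_univ_succ, Fin.prod_univ_succ, Nat.cast_mul, Nat.cast_prod]
    simp only [Fin.val_zero, zero_add, one_mul, Fin.val_succ]
    refine (mul_le_mul_of_nonneg_left ((wt_add h0 h3 _ _).trans (mul_le_mul_of_nonneg_left
      ((wt_sum h0 h3 _ _).trans (Finset.prod_le_prod (fun i _ => wt_nonneg h0 _) fun i _ => wt_mul h0 h3 _ _))
      (wt_nonneg h0 _))) (by positivity)).trans ?_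
    rw [mul_mul_mul_comm, ← Finset.prod_mul_distrib]
    exact mul_le_mul_of_nonneg_right (hhead _) (Finset.prod_nonneg fun i _ =>
      mul_nonneg (Nat.cast_nonneg _) (pow_nonneg (wt_nonneg h0 _) _))
  refine (Finset.sum_le_sum hstep).trans ?_
  rw [← Finset.mul_sum]
  refine mul_le_mul_of_nonneg_left ?_ hC
  have hinj : Set.InjOn (fun d : Fin (J + 1) → Fin (J + 2) => fun i : Fin J => d i.succ) (degs J : Set _) := by
    intro d hd d' hd' he
    have e1 : ∑ i : Fin (J + 1), ((i : ℕ) + 1) * (d i : ℕ) = J + 1 := (Finset.mem_filter.1 hd).2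
    have e2 : ∑ i : Fin (J + 1), ((i : ℕ) + 1) * (d' i : ℕ) = J + 1 := (Finset.mem_filter.1 hd').2
    rw [Fin.sum_univ_succ] at e1 e2
    have hs : ∀ i : Fin J, d i.succ = d' i.succ := fun i => congrFun he i
    simp only [Fin.val_zero, zero_add, one_mul, hs] at e1 e2
    funext i
    exact Fin.cases (Fin.ext (by omega)) hs i
  rw [← Finset.sum_image (f := fun e : Fin J → Fin (J + 2) => ∏ i, a i (e i))
    (g := fun d : Fin (J + 1) → Fin (J + 2) => fun i : Fin J => d i.succ) hinj]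
  refine (Finset.sum_le_sum_of_subset_of_nonneg (Finset.subset_univ _)
    fun e _ _ => Finset.prod_nonneg fun i _ => ha i _).trans ?_
  rw [← Fintype.prod_sum]
  refine Finset.prod_le_prod (fun i _ => Finset.sum_nonneg fun e _ => ha i e) fun i _ => ?_
  refine le_trans (le_of_eq ?_) (hf ((i : ℕ) + 2) (by omega) (J + 2))
  exact Fin.sum_univ_eq_sum_range (fun e => (cnt ((i : ℕ) + 2) e : ℚ) * wt t ((i : ℕ) + 2) ^ e) (J + 2)

/-! ## The two counts -/

/-- All data of exponent `k` and degree `d`. -/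
def cAll (q k d : ℕ) : ℕ := if Even k then (if Even d then q ^ (d / 2) else 0) else wgt q d

/-- Data of exponent `k` and degree `d` without blocks of odd size for `1` and `-1`. -/
def cFix (q d : ℕ) : ℕ := if Even d then q ^ (d / 2) else 0

theorem wgt_wt_le {q : ℕ} {t : ℚ} (hqt : (q : ℚ) * t = 1) (h0 : 0 ≤ t) (h3 : t ≤ 1 / 3) (d : ℕ) :
    (wgt q d : ℚ) * wt t d ≤ 28 / 9 := by
  have hpow : ∀ c, (q : ℚ) ^ c * t ^ c = 1 := fun c => by rw [← mul_pow, hqt, one_pow]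
  rcases Nat.even_or_odd' d with ⟨c, rfl | rfl⟩
  · rw [two_mul, wt_two_mul]
    rcases c with _ | _ | c
    · simp [wgt, nsd]; norm_num
    · simp only [wgt, nsd]
      norm_num [nsd]
      nlinarith [hpow 1]
    · have h : wgt q (c + 1 + 1 + (c + 1 + 1)) = q ^ (c + 2) + 6 * q ^ (c + 1) + q ^ c := by
        rw [wgt, if_pos (by omega), if_pos (by omega), show c + 1 + 1 + (c + 1 + 1) = 2 * (c + 1) + 2 by ring,
          nsd_even, show 2 * (c + 1) + 2 - 1 = 2 * (c + 1) + 1 by omega, nsd_odd,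
          show 2 * (c + 1) + 2 - 2 = 2 * c + 2 by omega, nsd_even]
        ring
      rw [h]
      push_cast
      have e2 := hpow (c + 2)
      have e1 := hpow (c + 1)
      have e0 := hpow c
      simp only [pow_succ] at e2 e1 ⊢
      nlinarith [e2, e1, e0, pow_nonneg h0 c, mul_le_mul h3 h3 h0 (by norm_num : (0:ℚ) ≤ 1 / 3)]
  · rw [wt, if_neg (Nat.not_even_iff_odd.2 ⟨c, rfl⟩), show (2 * c + 1) / 2 = c by omega]
    rcases c with _ | c
    · simp [wgt, nsd, sig]; norm_num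
    · have h : wgt q (2 * (c + 1) + 1) = 4 * q ^ (c + 1) + 4 * q ^ c := by
        rw [wgt, if_pos (by omega), if_pos (by omega), nsd_odd,
          show 2 * (c + 1) + 1 - 1 = 2 * c + 2 by omega, nsd_even,
          show 2 * (c + 1) + 1 - 2 = 2 * c + 1 by omega, nsd_odd]
        ring
      rw [h]
      push_cast
      have e1 := hpow (c + 1)
      have e0 := hpow c
      simp only [pow_succ] at e1 ⊢
      have : (4 * (↑q ^ c * ↑q) + 4 * (q : ℚ) ^ c) * (t ^ c * t * sig) =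
          4 * sig * ((q : ℚ) ^ c * ↑q * (t ^ c * t)) + 4 * sig * t * ((q : ℚ) ^ c * t ^ c) := by ring
      rw [this, e1, e0]
      nlinarith [show sig ≤ 2887 / 5000 from le_rfl, sig_pos]

theorem cFix_wt_le {q : ℕ} {t : ℚ} (hqt : (q : ℚ) * t = 1) (h0 : 0 ≤ t) (d : ℕ) :
    (cFix q d : ℚ) * wt t d ≤ 1 := by
  rw [cFix]
  split_ifs with hd
  · obtain ⟨c, rfl⟩ := hd
    rw [wt_two_mul, show (c + c) / 2 = c by omega, Nat.cast_pow, ← mul_pow, hqt, one_pow]
  · simp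

/-- `3 ^ (-k/2)`, rounded up. -/
def u0 (k : ℕ) : ℚ := wt (1 / 3) k

/-- The factor of exponent `k` for all data. -/
def fAll (k : ℕ) : ℚ := (if Even k then 1 else (1 + u0 k) ^ 4) / (1 - 3 * u0 k ^ 2)

/-- The factor of exponent `k` for the fixed data. -/
def fFix (k : ℕ) : ℚ := 1 / (1 - 3 * u0 k ^ 2)

theorem wt_le_u0 {t : ℚ} (h0 : 0 ≤ t) (h3 : t ≤ 1 / 3) (k : ℕ) : wt t k ≤ u0 k :=
  mul_le_mul_of_nonneg_right (pow_le_pow_left₀ h0 h3 _) (by split_ifs <;> norm_num [sig])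

theorem q_sq_le {q : ℕ} {t : ℚ} (hqt : (q : ℚ) * t = 1) (h0 : 0 ≤ t) (h3 : t ≤ 1 / 3) {k : ℕ} (hk : 2 ≤ k) :
    (q : ℚ) * wt t k ^ 2 ≤ 3 * u0 k ^ 2 := by
  have hk' : 1 ≤ k / 2 := by omega
  obtain ⟨i, hi⟩ : ∃ i, k / 2 = i + 1 := ⟨k / 2 - 1, by omega⟩
  rw [u0, wt, wt, hi, mul_pow, mul_pow, ← mul_assoc, ← mul_assoc]
  refine mul_le_mul_of_nonneg_right ?_ (sq_nonneg _)
  calc (q : ℚ) * (t ^ (i + 1)) ^ 2 = t ^ (2 * i + 1) := by
        rw [← pow_mul, show (i + 1) * 2 = 2 * i + 1 + 1 by ring, pow_succ' t (2 * i + 1), ← mul_assoc, hqt, one_mul]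
    _ ≤ (1 / 3 : ℚ) ^ (2 * i + 1) := pow_le_pow_left₀ h0 h3 _
    _ = 3 * ((1 / 3 : ℚ) ^ (i + 1)) ^ 2 := by
        rw [← pow_mul, show (i + 1) * 2 = 2 * i + 1 + 1 by ring, pow_succ' (1 / 3 : ℚ) (2 * i + 1)]; ring

theorem u0_small {k : ℕ} (hk : 2 ≤ k) : 0 ≤ u0 k ∧ u0 k ≤ 1 / 3 := by
  refine ⟨wt_nonneg (by norm_num) k, ?_⟩
  rw [u0, wt]
  have : (1 / 3 : ℚ) ^ (k / 2) ≤ 1 / 3 := pow_le_of_le_one (by norm_num) (by norm_num) (by omega)
  calc _ ≤ (1 / 3 : ℚ) ^ (k / 2) * 1 :=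
        mul_le_mul_of_nonneg_left (by split_ifs <;> norm_num [sig]) (by positivity)
    _ ≤ 1 / 3 := by rwa [mul_one]

theorem den_pos {k : ℕ} (hk : 2 ≤ k) : 0 < 1 - 3 * u0 k ^ 2 := by
  obtain ⟨h1, h2⟩ := u0_small hk
  nlinarith

theorem sum_cFix_le {q : ℕ} {t : ℚ} (hqt : (q : ℚ) * t = 1) (h0 : 0 ≤ t) (h3 : t ≤ 1 / 3) {k : ℕ} (hk : 2 ≤ k)
    (M : ℕ) : ∑ d ∈ Finset.range M, (cFix q d : ℚ) * wt t k ^ d ≤ fFix k := by
  set y := (q : ℚ) * wt t k ^ 2
  have hy0 : 0 ≤ y := by positivity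
  have hy : y ≤ 3 * u0 k ^ 2 := q_sq_le hqt h0 h3 hk
  have hden := den_pos hk
  refine le_trans (le_trans (le_of_eq ?_) ((Finset.sum_le_sum_of_subset_of_nonneg
    (s := ((Finset.range M).filter fun m => Even m).image fun m => m / 2) (t := Finset.range M) ?_
    (fun m _ _ => pow_nonneg hy0 m)).trans (geom_le hy0 (by linarith) M)))
    (div_le_div_of_nonneg_left zero_le_one hden (by linarith))
  · rw [Finset.sum_image, Finset.sum_filter]
    · refine Finset.sum_congr rfl fun m _ => ?_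
      rw [cFix]
      split_ifs with hm
      · obtain ⟨c, rfl⟩ := hm
        rw [show (c + c) / 2 = c by omega, Nat.cast_pow, mul_pow, ← pow_mul, two_mul]
      · simp
    · intro a ha b hb hab
      simp only [Finset.coe_filter, Set.mem_setOf_eq] at ha hb
      obtain ⟨x, rfl⟩ := ha.2
      obtain ⟨y', rfl⟩ := hb.2
      simp only at hab
      omega
  · intro x hx
    obtain ⟨m, hm, rfl⟩ := Finset.mem_image.1 hx
    have := Finset.mem_range.1 (Finset.mem_filter.1 hm).1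
    exact Finset.mem_range.2 (by omega)

theorem sum_cAll_le {q : ℕ} {t : ℚ} (hqt : (q : ℚ) * t = 1) (h0 : 0 ≤ t) (h3 : t ≤ 1 / 3) {k : ℕ} (hk : 2 ≤ k)
    (M : ℕ) : ∑ d ∈ Finset.range M, (cAll q k d : ℚ) * wt t k ^ d ≤ fAll k := by
  have hy := q_sq_le hqt h0 h3 hk
  have hden := den_pos hk
  by_cases hk2 : Even k
  · rw [fAll, if_pos hk2]
    exact le_trans (le_of_eq (Finset.sum_congr rfl fun d _ => by rw [cAll, if_pos hk2, cFix]))
      (sum_cFix_le hqt h0 h3 hk M)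
  · rw [fAll, if_neg hk2]
    refine le_trans (le_trans (le_of_eq (Finset.sum_congr rfl fun d _ => by rw [cAll, if_neg hk2]))
      (sum_wgt_le q (wt_nonneg h0 k) (by linarith) M)) ?_
    exact div_le_div₀ (by positivity) (pow_le_pow_left₀ (by have := wt_nonneg h0 k; linarith)
      (add_le_add le_rfl (wt_le_u0 h0 h3 k)) 4) hden (by linarith)

/-! ## The products -/

/-- The product over the exponents `2, …, J + 1`. -/
def gg (f : ℕ → ℚ) : ℕ → ℚ
  | 0 => 1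
  | J + 1 => gg f J * f (J + 2)

theorem prod_eq_gg (f : ℕ → ℚ) : ∀ J, ∏ i : Fin J, f ((i : ℕ) + 2) = gg f J
  | 0 => rfl
  | J + 1 => by rw [Fin.prod_univ_castSucc, gg, ← prod_eq_gg f J]; rfl

theorem u0_two (k : ℕ) : u0 (k + 2) = u0 k / 3 := by
  rw [u0, u0, wt, wt, show (k + 2) / 2 = k / 2 + 1 by omega, pow_succ]
  simp only [Nat.even_add, show Even 2 from even_two, iff_true]
  ring

theorem u0_tail {k : ℕ} (hk : 26 ≤ k) : u0 k ≤ 1 / 1000000 := by
  rw [u0, wt]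
  calc _ ≤ (1 / 3 : ℚ) ^ (k / 2) * 1 :=
        mul_le_mul_of_nonneg_left (by split_ifs <;> norm_num [sig]) (by positivity)
    _ ≤ (1 / 3 : ℚ) ^ 13 := by
        rw [mul_one]; exact pow_le_pow_of_le_one (by norm_num) (by norm_num) (by omega)
    _ ≤ 1 / 1000000 := by norm_num

theorem gg_le {f : ℕ → ℚ} (h1 : ∀ k, 2 ≤ k → 1 ≤ f k) (h5 : ∀ k, 26 ≤ k → f k ≤ 1 + 5 * u0 k) {G : ℚ}
    (hG : gg f 24 * (1 + 8 * (u0 26 + u0 27)) ≤ G) (J : ℕ) : gg f J ≤ G := by
  have hnn : ∀ J, 0 ≤ gg f J := fun J => by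
    induction J with
    | zero => exact zero_le_one
    | succ J ih => exact mul_nonneg ih (zero_le_one.trans (h1 _ (by omega)))
  have hmono : Monotone (gg f) := monotone_nat_of_le_succ fun K => le_mul_of_one_le_right (hnn K) (h1 _ (by omega))
  have hanti : ∀ i, gg f (24 + 2 * i) * (1 + 8 * (u0 (26 + 2 * i) + u0 (27 + 2 * i))) ≤ G := by
    intro i
    induction i with
    | zero => exact hG
    | succ i ih =>
      refine le_trans ?_ ih
      rw [show 24 + 2 * (i + 1) = 24 + 2 * i + 1 + 1 by ring, gg, gg, mul_assoc, mul_assoc,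
        show 26 + 2 * (i + 1) = 26 + 2 * i + 2 by ring, show 27 + 2 * (i + 1) = 27 + 2 * i + 2 by ring,
        u0_two, u0_two]
      refine mul_le_mul_of_nonneg_left ?_ (hnn _)
      have ha := u0_small (show 2 ≤ 26 + 2 * i by omega)
      have hb := u0_small (show 2 ≤ 27 + 2 * i by omega)
      have ha' := u0_tail (show 26 ≤ 26 + 2 * i by omega)
      have hb' := u0_tail (show 26 ≤ 27 + 2 * i by omega)
      have fa := h5 (26 + 2 * i) (by omega)
      have fb := h5 (27 + 2 * i) (by omega)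
      rw [show 24 + 2 * i + 1 + 2 = 27 + 2 * i by ring, show 24 + 2 * i + 2 = 26 + 2 * i by ring]
      generalize u0 (26 + 2 * i) = a at *
      generalize u0 (27 + 2 * i) = b at *
      obtain ⟨ha0, -⟩ := ha
      obtain ⟨hb0, -⟩ := hb
      calc f (26 + 2 * i) * (f (27 + 2 * i) * (1 + 8 * (a / 3 + b / 3))) ≤
            (1 + 5 * a) * ((1 + 5 * b) * (1 + 8 * (a / 3 + b / 3))) := by
            refine mul_le_mul fa (mul_le_mul_of_nonneg_right fb (by positivity))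
              (mul_nonneg (zero_le_one.trans (h1 _ (by omega))) (by positivity)) (by positivity)
        _ ≤ 1 + 8 * (a + b) := by
            nlinarith [mul_nonneg ha0 hb0, mul_le_mul_of_nonneg_left ha' ha0, mul_le_mul_of_nonneg_left hb' hb0,
              mul_le_mul_of_nonneg_left hb' ha0,
              mul_le_mul_of_nonneg_left (mul_le_mul_of_nonneg_left hb' hb0) ha0,
              mul_le_mul_of_nonneg_left (mul_le_mul_of_nonneg_left ha' ha0) hb0]
  refine le_trans (hmono (show J ≤ 24 + 2 * J by omega)) (le_trans ?_ (hanti J))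
  have h26 := (u0_small (show 2 ≤ 26 + 2 * J by omega)).1
  have h27 := (u0_small (show 2 ≤ 27 + 2 * J by omega)).1
  exact le_mul_of_one_le_right (hnn _) (by linarith)

theorem fFix_one_le {k : ℕ} (hk : 2 ≤ k) : 1 ≤ fFix k := by
  rw [fFix, one_le_div (den_pos hk)]
  nlinarith [sq_nonneg (u0 k)]

theorem fAll_one_le {k : ℕ} (hk : 2 ≤ k) : 1 ≤ fAll k := by
  rw [fAll, one_le_div (den_pos hk)]
  have h := (u0_small hk).1
  split_ifs
  · nlinarith [sq_nonneg (u0 k)]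
  · nlinarith [sq_nonneg (u0 k), one_le_pow₀ (n := 4) (show (1 : ℚ) ≤ 1 + u0 k by linarith)]

theorem fAll_tail {k : ℕ} (hk : 26 ≤ k) : fAll k ≤ 1 + 5 * u0 k := by
  have h0 := (u0_small (show 2 ≤ k by omega)).1
  have h1 := u0_tail hk
  have hden := den_pos (show 2 ≤ k by omega)
  rw [fAll, div_le_iff₀ hden]
  generalize u0 k = a at *
  have h2 : a ^ 2 ≤ 1 / 1000000 * a := by rw [pow_two]; exact mul_le_mul_of_nonneg_right h1 h0
  have h3 : a ^ 3 ≤ 1 / 1000000 * a := by nlinarith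
  have h4 : a ^ 4 ≤ 1 / 1000000 * a := by nlinarith
  split_ifs <;> nlinarith

theorem fFix_tail {k : ℕ} (hk : 26 ≤ k) : fFix k ≤ 1 + 5 * u0 k := by
  refine le_trans ?_ (fAll_tail hk)
  have h0 := (u0_small (show 2 ≤ k by omega)).1
  rw [fFix, fAll]
  refine div_le_div_of_nonneg_right ?_ (den_pos (by omega)).le
  split_ifs
  · exact le_rfl
  · exact one_le_pow₀ (by linarith)

theorem gg_bounds (J : ℕ) : gg fAll J ≤ 53 / 10 ∧ gg fFix J ≤ 9 / 5 :=
  ⟨gg_le (fun _ hk => fAll_one_le hk) (fun _ hk => fAll_tail hk)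
    (by norm_num [gg, fAll, u0, wt, sig, Nat.even_iff]) J,
  gg_le (fun _ hk => fFix_one_le hk) (fun _ hk => fFix_tail hk)
    (by norm_num [gg, fFix, u0, wt, sig, Nat.even_iff]) J⟩

/-- The final inequality. -/
theorem total_le {q : ℕ} (hq : 3 ≤ q) (n : ℕ) {J : ℕ} (hJ : n + n = J + 1) :
    ((∑ d ∈ degs J, ∏ i : Fin (J + 1), cAll q ((i : ℕ) + 1) (d i : ℕ)) + ∑ d ∈ degs J, ∏ i, cFix q (d i : ℕ)) ≤ 19 * q ^ n := by
  set t : ℚ := 1 / q with ht
  have hq0 : (q : ℚ) ≠ 0 := by exact_mod_cast (show q ≠ 0 by omega)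
  have hqt : (q : ℚ) * t = 1 := mul_one_div_cancel hq0
  have h0 : 0 ≤ t := by positivity
  have h3 : t ≤ 1 / 3 := one_div_le_one_div_of_le (by norm_num) (by exact_mod_cast hq)
  have hA := sum_degs_le h0 h3 (cAll q) (28 / 9) fAll (fun d => by
    rw [cAll, if_neg (by decide)]; exact wgt_wt_le hqt h0 h3 d) (fun k hk M => sum_cAll_le hqt h0 h3 hk M) J
  have hF := sum_degs_le h0 h3 (fun _ d => cFix q d) 1 fFix (fun d => cFix_wt_le hqt h0 d)
    (fun k hk M => sum_cFix_le hqt h0 h3 hk M) J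
  rw [prod_eq_gg, show wt t (J + 1) = t ^ n by rw [← hJ, wt_two_mul]] at hA hF
  obtain ⟨g1, g2⟩ := gg_bounds J
  set A := ∑ d ∈ degs J, ∏ i : Fin (J + 1), cAll q ((i : ℕ) + 1) (d i : ℕ)
  set B := ∑ d ∈ degs J, ∏ i, cFix q (d i : ℕ)
  have h : ((A + B : ℕ) : ℚ) * t ^ n ≤ 19 := by
    push_cast
    linarith
  have e : (t : ℚ) ^ n * (q : ℚ) ^ n = 1 := by rw [← mul_pow, mul_comm, hqt, one_pow]
  have h' := mul_le_mul_of_nonneg_right h (show (0 : ℚ) ≤ (q : ℚ) ^ n by positivity)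
  rw [mul_assoc, e, mul_one] at h'
  exact_mod_cast h'

end CfsgLib.Geo.FormClasses
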