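import Cfsg.Agent.Geo.FormClasses.RestDiv
import Cfsg.Agent.Geo.FormClasses.Numeric

/-!
# Invariants of isometries: counting and flipping a sign

An invariant consists of two signed partitions and the layer polynomials. Flipping one sign of an odd size
negates the discriminant character, so invariants of one form are about half of all of them.
-/

set_option autoImplicit false
set_option linter.style.haveILetI false
set_option linter.unusedSectionVars false

namespace CfsgLib.Geo.FormClasses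

open Polynomial CfsgLib.GLClass CfsgLib.GLClass.Symp CfsgLib.Geo.USemi

/-- Candidate invariants. -/
@[ext]
structure Dat (F : Type*) [Field F] (L : ℕ) where
  cp : Fin (L + 1) → ℕ
  sp : Fin (L + 1) → Bool
  cm : Fin (L + 1) → ℕ
  sm : Fin (L + 1) → Bool
  E : Fin L → F[X]

variable {F : Type*} [Field F] [Fintype F] {L : ℕ}

namespace Dat

/-- The conditions on invariants. -/
structure OK (x : Dat F L) : Prop where
  plus : Signed 1 L x.cp x.sp
  minus : Signed 1 L x.cm x.sm
  lay : ∀ i, IsLayer (x.E i)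
  dim : ∑ i : Fin L, ((i : ℕ) + 1) * (x.cp i.succ + x.cm i.succ + (x.E i).natDegree) = L

/-- No block of odd size. -/
def Fixd (x : Dat F L) : Prop := ∀ i : Fin L, Odd ((i : ℕ) + 1) → x.cp i.succ = 0 ∧ x.cm i.succ = 0

/-- The polynomial of one exponent. -/
noncomputable def poly (x : Dat F L) (i : Fin L) : F[X] :=
  (X - C 1) ^ x.cp i.succ * ((X - C (-1)) ^ x.cm i.succ * x.E i)

theorem layer_dual {f : F[X]} (hf : IsLayer f) : dual (RingHom.id F) f = f := by
  refine Polynomial.ext fun k => ?_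
  rcases le_or_gt k f.natDegree with hk | hk
  · rw [coeff_dual _ hk, hf.zero, map_one, inv_one, one_mul, RingHom.id_apply]
    exact (hf.dual k hk).symm
  · rw [coeff_eq_zero_of_natDegree_lt (p := f) hk, coeff_eq_zero_of_natDegree_lt]
    rwa [natDegree_dual _ (by rw [hf.zero]; exact one_ne_zero)]

theorem OK.poly_monic {x : Dat F L} (h : x.OK) (i : Fin L) : (x.poly i).Monic :=
  ((monic_X_sub_C (1 : F)).pow _).mul (((monic_X_sub_C (-1 : F)).pow _).mul (h.lay i).monic)

theorem OK.poly_deg {x : Dat F L} (h : x.OK) (i : Fin L) :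
    (x.poly i).natDegree = x.cp i.succ + x.cm i.succ + (x.E i).natDegree := by
  rw [poly, ((monic_X_sub_C (1 : F)).pow _).natDegree_mul (((monic_X_sub_C (-1 : F)).pow _).mul (h.lay i).monic),
    ((monic_X_sub_C (-1 : F)).pow _).natDegree_mul (h.lay i).monic, (monic_X_sub_C (1 : F)).natDegree_pow,
    (monic_X_sub_C (-1 : F)).natDegree_pow, natDegree_X_sub_C, natDegree_X_sub_C, mul_one, mul_one, add_assoc]

theorem OK.poly_zero {x : Dat F L} (h : x.OK) (i : Fin L) : (x.poly i).coeff 0 = (-1) ^ x.cp i.succ := by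
  rw [poly, mul_coeff_zero, mul_coeff_zero, (h.lay i).zero, coeff_zero_eq_eval_zero, coeff_zero_eq_eval_zero]
  simp

theorem OK.poly_zero_ne {x : Dat F L} (h : x.OK) (i : Fin L) : (x.poly i).coeff 0 ≠ 0 := by
  rw [h.poly_zero]; exact pow_ne_zero _ (neg_ne_zero.2 one_ne_zero)

theorem OK.poly_dual {x : Dat F L} (h : x.OK) (i : Fin L) : dual (RingHom.id F) (x.poly i) = x.poly i := by
  rw [poly, dual_mul, dual_mul, dual_pow, dual_pow, dual_X_sub_C (one_mul 1), dual_X_sub_C (by norm_num),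
    layer_dual (h.lay i)]

theorem OK.poly_balanced {x : Dat F L} (h : x.OK) (i : Fin L)
    (hi : Odd ((i : ℕ) + 1) → x.cp i.succ = 0 ∧ x.cm i.succ = 0) :
    (x.poly i).coeff 0 = 1 ∧ Even (x.poly i).natDegree := by
  have hp : Even (x.cp i.succ) ∧ Even (x.cm i.succ) := by
    rcases Nat.even_or_odd ((i : ℕ) + 1) with he | ho
    · exact ⟨h.plus.par i.succ (by rw [Fin.val_succ]; exact he.add_one),
        h.minus.par i.succ (by rw [Fin.val_succ]; exact he.add_one)⟩
    · rw [(hi ho).1, (hi ho).2]; exact ⟨⟨0, rfl⟩, ⟨0, rfl⟩⟩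
  rw [h.poly_zero, hp.1.neg_one_pow, h.poly_deg]
  exact ⟨rfl, (hp.1.add hp.2).add (h.lay i).even⟩

theorem OK.mark_plus {x : Dat F L} (h : x.OK) (i : Fin L) (hs : x.sp i.succ = true) :
    Odd ((i : ℕ) + 1) ∧ (x.poly i).eval 1 = 0 := by
  obtain ⟨he, hc⟩ := h.plus.sign i.succ hs
  rw [Fin.val_succ, Nat.even_add_one, Nat.not_even_iff_odd] at he
  exact ⟨he, by simp [poly, hc.ne']⟩

theorem OK.mark_minus {x : Dat F L} (h : x.OK) (i : Fin L) (hs : x.sm i.succ = true) :
    Odd ((i : ℕ) + 1) ∧ (x.poly i).eval (-1) = 0 := by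
  obtain ⟨he, hc⟩ := h.minus.sign i.succ hs
  rw [Fin.val_succ, Nat.even_add_one, Nat.not_even_iff_odd] at he
  exact ⟨he, by simp [poly, hc.ne']⟩

theorem rootMult_split (h2 : (2 : F) ≠ 0) {E : F[X]} (hE : IsLayer E) (a b : ℕ) :
    ((X - C 1) ^ a * ((X - C (-1)) ^ b * E)).rootMultiplicity 1 = a ∧
    ((X - C 1) ^ a * ((X - C (-1)) ^ b * E)).rootMultiplicity (-1) = b := by
  classical
  have hne : (1 : F) - -1 ≠ 0 := by rw [sub_neg_eq_add, one_add_one_eq_two]; exact h2
  have hne' : (-1 : F) - 1 ≠ 0 := fun h => hne (by linear_combination -h)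
  have h0 : (X - C (1 : F)) ^ a * ((X - C (-1)) ^ b * E) ≠ 0 :=
    mul_ne_zero (pow_ne_zero _ (X_sub_C_ne_zero _)) (mul_ne_zero (pow_ne_zero _ (X_sub_C_ne_zero _)) hE.monic.ne_zero)
  constructor
  · rw [rootMultiplicity_mul h0, rootMultiplicity_X_sub_C_pow, rootMultiplicity_eq_zero, add_zero]
    simp only [IsRoot, eval_mul, eval_pow, eval_sub, eval_X, eval_C]
    exact mul_ne_zero (pow_ne_zero _ hne) hE.one
  · rw [mul_left_comm] at h0 ⊢
    rw [rootMultiplicity_mul h0, rootMultiplicity_X_sub_C_pow, rootMultiplicity_eq_zero, add_zero]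
    simp only [IsRoot, eval_mul, eval_pow, eval_sub, eval_X, eval_C]
    exact mul_ne_zero (pow_ne_zero _ hne') hE.neg

theorem ext_of_poly (h2 : (2 : F) ≠ 0) {x y : Dat F L} (hx : x.OK) (hy : y.OK)
    (hp : ∀ i, x.poly i = y.poly i) (h1 : ∀ i : Fin L, x.sp i.succ = y.sp i.succ)
    (h1' : ∀ i : Fin L, x.sm i.succ = y.sm i.succ) : x = y := by
  have hc : ∀ i : Fin L, x.cp i.succ = y.cp i.succ ∧ x.cm i.succ = y.cm i.succ := by
    intro i
    obtain ⟨a, b⟩ := rootMult_split h2 (hx.lay i) (x.cp i.succ) (x.cm i.succ)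
    obtain ⟨a', b'⟩ := rootMult_split h2 (hy.lay i) (y.cp i.succ) (y.cm i.succ)
    have hp' := hp i
    simp only [poly] at hp'
    rw [hp', a'] at a
    rw [hp', b'] at b
    exact ⟨a.symm, b.symm⟩
  have hs0 : ∀ {c : Fin (L + 1) → ℕ} {s : Fin (L + 1) → Bool}, Signed 1 L c s → s 0 = false := by
    intro c s h
    by_contra hne
    obtain ⟨-, hpos⟩ := h.sign 0 (by simpa using hne)
    rw [h.zero] at hpos
    omega
  refine Dat.ext ?_ ?_ ?_ ?_ ?_ <;> funext j
  · exact Fin.cases (by rw [hx.plus.zero, hy.plus.zero]) (fun i => (hc i).1) j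
  · exact Fin.cases (by rw [hs0 hx.plus, hs0 hy.plus]) h1 j
  · exact Fin.cases (by rw [hx.minus.zero, hy.minus.zero]) (fun i => (hc i).2) j
  · exact Fin.cases (by rw [hs0 hx.minus, hs0 hy.minus]) h1' j
  · have hp' := hp j
    simp only [poly, (hc j).1, (hc j).2] at hp'
    exact mul_left_cancel₀ (pow_ne_zero _ (X_sub_C_ne_zero _))
      (mul_left_cancel₀ (pow_ne_zero _ (X_sub_C_ne_zero _)) hp')

end Dat

/-! ## Counting -/

/-- One exponent: a marked self-dual polynomial. -/
abbrev Loc (F : Type*) [Field F] (fix : Prop) (k d : ℕ) : Type _ :=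
  {z : MP F 0 d // (Even k → z.1.1.1.1.coeff 0 = 1 ∧ Even d ∧ z.2.1 = (false, false)) ∧
    (fix → z.1.1.1.1.coeff 0 = 1 ∧ Even d ∧ z.2.1 = (false, false))}

theorem finite_MP (d : ℕ) : Finite (MP F 0 d) := by
  haveI : Finite {f : SD F d // Odd 0 → f.1.1.coeff 0 = 1 ∧ Even d} := inferInstance
  infer_instance

theorem card_balanced_le (d : ℕ) :
    Nat.card {z : MP F 0 d // z.1.1.1.1.coeff 0 = 1 ∧ Even d ∧ z.2.1 = (false, false)} ≤
      cFix (Fintype.card F) d := by
  rw [cFix]
  split_ifs with hd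
  · obtain ⟨c, rfl⟩ := hd
    rw [show (c + c) / 2 = c by omega]
    refine (Nat.card_le_card_of_injective
      (fun z => (⟨z.1.1.1, z.2.1⟩ : {f : SD F (c + c) // f.1.1.coeff 0 = 1})) fun a b h => ?_).trans (card_one_le c)
    exact Subtype.ext (mp_ext _ _ (congrArg (fun w => w.1.1.1) h) (a.2.2.2.trans b.2.2.2.symm))
  · haveI : IsEmpty {z : MP F 0 d // z.1.1.1.1.coeff 0 = 1 ∧ Even d ∧ z.2.1 = (false, false)} :=
      ⟨fun z => hd z.2.2.1⟩
    exact Nat.card_of_isEmpty.le

theorem card_loc_le (h2 : (2 : F) ≠ 0) (k d : ℕ) :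
    Nat.card (Loc F False k d) ≤ cAll (Fintype.card F) k d ∧
    Nat.card (Loc F True k d) ≤ cFix (Fintype.card F) d := by
  haveI := finite_MP (F := F) d
  refine ⟨?_, (Nat.card_le_card_of_injective (fun z => (⟨z.1, z.2.2 trivial⟩ :
      {z : MP F 0 d // z.1.1.1.1.coeff 0 = 1 ∧ Even d ∧ z.2.1 = (false, false)}))
      fun a b h => Subtype.ext (congrArg (fun w => w.1) h)).trans (card_balanced_le d)⟩
  rw [cAll]
  by_cases hk : Even k
  · rw [if_pos hk]
    exact (Nat.card_le_card_of_injective (fun z : Loc F False k d => (⟨z.1, z.2.1 hk⟩ :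
      {z : MP F 0 d // z.1.1.1.1.coeff 0 = 1 ∧ Even d ∧ z.2.1 = (false, false)}))
      fun a b h => Subtype.ext (congrArg (fun w => w.1) h)).trans (card_balanced_le d)
  · rw [if_neg hk]
    refine (Nat.card_le_card_of_injective Subtype.val Subtype.val_injective).trans
      ((card_mp_le h2 0 d).trans_eq ?_)
    rw [cS, if_pos (by decide)]

/-- Invariants, possibly only those without blocks of odd size. -/
abbrev Tot (F : Type*) [Field F] [Fintype F] (fix : Prop) (L : ℕ) : Type _ :=
  {x : Dat F L // x.OK ∧ (fix → x.Fixd)}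

theorem card_tot_le (h2 : (2 : F) ≠ 0) (J : ℕ) (fix : Prop) :
    Finite (Tot F fix (J + 1)) ∧ Nat.card (Tot F fix (J + 1)) ≤
      ∑ d ∈ degs J, ∏ i : Fin (J + 1), Nat.card (Loc F fix ((i : ℕ) + 1) (d i : ℕ)) := by
  classical
  haveI : ∀ d, Finite (MP F 0 d) := finite_MP
  have hdeg : ∀ x : Tot F fix (J + 1), ∀ i, (x.1.poly i).natDegree < J + 2 := by
    intro x i
    have h := Finset.single_le_sum (f := fun i : Fin (J + 1) =>
      ((i : ℕ) + 1) * (x.1.cp i.succ + x.1.cm i.succ + (x.1.E i).natDegree)) (fun _ _ => Nat.zero_le _)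
      (Finset.mem_univ i)
    rw [x.2.1.dim] at h
    rw [x.2.1.poly_deg]
    calc _ ≤ ((i : ℕ) + 1) * (x.1.cp i.succ + x.1.cm i.succ + (x.1.E i).natDegree) :=
          Nat.le_mul_of_pos_left _ (Nat.succ_pos _)
      _ < J + 2 := by omega
  let dd : Tot F fix (J + 1) → {d // d ∈ degs J} := fun x => ⟨fun i => ⟨(x.1.poly i).natDegree, hdeg x i⟩, by
    refine Finset.mem_filter.2 ⟨Finset.mem_univ _, ?_⟩
    simp only [x.2.1.poly_deg]
    exact x.2.1.dim⟩
  let Φ : Tot F fix (J + 1) → Σ d : {d // d ∈ degs J}, ∀ i : Fin (J + 1), Loc F fix ((i : ℕ) + 1) (d.1 i : ℕ) :=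
    fun x => ⟨dd x, fun i => ⟨⟨⟨⟨⟨x.1.poly i, x.2.1.poly_monic i, rfl, x.2.1.poly_zero_ne i⟩, x.2.1.poly_dual i⟩,
        fun h => absurd h (by decide)⟩,
        ⟨(x.1.sp i.succ, x.1.sm i.succ), fun h => ⟨by decide, (x.2.1.mark_plus i h).2⟩,
          fun h => ⟨by decide, (x.2.1.mark_minus i h).2⟩⟩⟩,
      fun hk => ⟨(x.2.1.poly_balanced i fun ho => absurd hk (Nat.not_even_iff_odd.2 ho)).1,
        (x.2.1.poly_balanced i fun ho => absurd hk (Nat.not_even_iff_odd.2 ho)).2,
        Prod.ext (Bool.eq_false_iff.2 fun h => absurd hk (Nat.not_even_iff_odd.2 (x.2.1.mark_plus i h).1))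
          (Bool.eq_false_iff.2 fun h => absurd hk (Nat.not_even_iff_odd.2 (x.2.1.mark_minus i h).1))⟩,
      fun hf => ⟨(x.2.1.poly_balanced i (x.2.2 hf i)).1, (x.2.1.poly_balanced i (x.2.2 hf i)).2,
        Prod.ext (Bool.eq_false_iff.2 fun h => by
            have h1 := (x.2.1.plus.sign i.succ h).2
            have h2 := (x.2.2 hf i (x.2.1.mark_plus i h).1).1
            omega)
          (Bool.eq_false_iff.2 fun h => by
            have h1 := (x.2.1.minus.sign i.succ h).2
            have h2 := (x.2.2 hf i (x.2.1.mark_minus i h).1).2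
            omega)⟩⟩⟩
  have hinj : Function.Injective Φ := by
    intro x y h
    have e1 := congrArg (fun z : Σ d : {d // d ∈ degs J}, ∀ i : Fin (J + 1), Loc F fix ((i : ℕ) + 1) (d.1 i : ℕ) =>
      fun i => (z.2 i).1.1.1.1.1) h
    have e2 := congrArg (fun z : Σ d : {d // d ∈ degs J}, ∀ i : Fin (J + 1), Loc F fix ((i : ℕ) + 1) (d.1 i : ℕ) =>
      fun i => (z.2 i).1.2.1) h
    exact Subtype.ext (Dat.ext_of_poly h2 x.2.1 y.2.1 (fun i => congrFun e1 i)
      (fun i => congrArg Prod.fst (congrFun e2 i)) fun i => congrArg Prod.snd (congrFun e2 i))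
  refine ⟨Finite.of_injective Φ hinj, (Nat.card_le_card_of_injective Φ hinj).trans ?_⟩
  rw [Nat.card_sigma]
  simp only [Nat.card_pi]
  exact le_of_eq (Finset.sum_coe_sort (degs J) fun d => ∏ i : Fin (J + 1), Nat.card (Loc F fix ((i : ℕ) + 1) (d i : ℕ)))

theorem card_tot_bound (h2 : (2 : F) ≠ 0) (hq : 3 ≤ Fintype.card F) (n : ℕ) {J : ℕ} (hJ : n + n = J + 1) :
    Nat.card (Tot F False (J + 1)) + Nat.card (Tot F True (J + 1)) ≤ 19 * Fintype.card F ^ n := by
  refine le_trans (Nat.add_le_add ((card_tot_le h2 J False).2.trans ?_) ((card_tot_le h2 J True).2.trans ?_))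
    (total_le hq n hJ)
  · exact Finset.sum_le_sum fun d _ => Finset.prod_le_prod' fun i _ => (card_loc_le h2 _ _).1
  · exact Finset.sum_le_sum fun d _ => Finset.prod_le_prod' fun i _ => (card_loc_le h2 _ _).2

/-! ## Flipping a sign -/

variable [DecidableEq F]

/-- The discriminant character of an invariant. -/
noncomputable def Dat.chi (ν : F) (x : Dat F L) : ℤ :=
  phi ν x.cp x.sp * phi ν x.cm x.sm * quadraticChar F
    ((∏ i : Fin L, x.E i ^ ((i : ℕ) + 1)).eval 1 * (∏ i : Fin L, x.E i ^ ((i : ℕ) + 1)).eval (-1))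

open scoped Classical in
/-- An odd size which occurs. -/
noncomputable def oddSize (c : Fin (L + 1) → ℕ) : Option (Fin (L + 1)) :=
  if h : ∃ j : Fin (L + 1), Odd (j : ℕ) ∧ 0 < c j then some h.choose else none

theorem oddSize_spec {c : Fin (L + 1) → ℕ} {j : Fin (L + 1)} (h : oddSize c = some j) :
    Odd (j : ℕ) ∧ 0 < c j := by
  unfold oddSize at h
  split_ifs at h with hh
  obtain rfl : hh.choose = j := Option.some.inj h
  exact hh.choose_spec

theorem oddSize_none {c : Fin (L + 1) → ℕ} (h : oddSize c = none) {j : Fin (L + 1)} (hj : Odd (j : ℕ)) :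
    c j = 0 := by
  unfold oddSize at h
  split_ifs at h with hh
  push Not at hh
  exact Nat.le_zero.1 (hh j hj)

/-- Flip the sign of one odd size. -/
noncomputable def Dat.flip (x : Dat F L) : Dat F L :=
  match oddSize x.cp with
  | some j => { x with sp := Function.update x.sp j (!(x.sp j)) }
  | none => match oddSize x.cm with
    | some j => { x with sm := Function.update x.sm j (!(x.sm j)) }
    | none => x

theorem Dat.flip_injective : Function.Injective (Dat.flip : Dat F L → Dat F L) := by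
  classical
  intro x y h
  have key : ∀ x : Dat F L, x.flip.cp = x.cp ∧ x.flip.cm = x.cm ∧ x.flip.E = x.E := fun x => by
    unfold Dat.flip; split
    · exact ⟨rfl, rfl, rfl⟩
    · split <;> exact ⟨rfl, rfl, rfl⟩
  have inv : ∀ x : Dat F L, x.flip.flip = x := by
    intro x
    rcases hp : oddSize x.cp with _ | j
    · rcases hm : oddSize x.cm with _ | j
      · simp [Dat.flip, hp, hm]
      · simp [Dat.flip, hp, hm, Function.update_idem]
    · simp [Dat.flip, hp, Function.update_idem]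
  rw [← inv x, h, inv y]

theorem Dat.flip_ok {x : Dat F L} (hx : x.OK) : x.flip.OK := by
  classical
  have key : ∀ {c : Fin (L + 1) → ℕ} {s : Fin (L + 1) → Bool} {j : Fin (L + 1)}, Signed 1 L c s →
      Odd (j : ℕ) → 0 < c j → Signed 1 L c (Function.update s j (!(s j))) := by
    intro c s j h ho hc
    refine ⟨h.zero, h.par, fun i hi => ?_⟩
    by_cases hij : i = j
    · subst hij; exact ⟨ho.add_one, hc⟩
    · rw [Function.update_of_ne hij] at hi; exact h.sign i hi
  unfold Dat.flip
  split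
  next j hj => exact ⟨key hx.plus (oddSize_spec hj).1 (oddSize_spec hj).2, hx.minus, hx.lay, hx.dim⟩
  next =>
    split
    next j hj => exact ⟨hx.plus, key hx.minus (oddSize_spec hj).1 (oddSize_spec hj).2, hx.lay, hx.dim⟩
    next => exact hx

theorem Dat.chi_flip {ν : F} (hν : ¬IsSquare ν) {x : Dat F L} (hx : x.OK) (h : ¬x.Fixd) :
    x.flip.chi ν = -x.chi ν := by
  unfold Dat.flip
  split
  next j hj =>
    simp only [Dat.chi]
    rw [phi_flip hν hx.plus (oddSize_spec hj).1 (oddSize_spec hj).2]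
    ring
  next hp =>
    split
    next j hj =>
      simp only [Dat.chi]
      rw [phi_flip hν hx.minus (oddSize_spec hj).1 (oddSize_spec hj).2]
      ring
    next hm =>
      exact absurd (fun i hi => ⟨oddSize_none hp (by rw [Fin.val_succ]; exact hi),
        oddSize_none hm (by rw [Fin.val_succ]; exact hi)⟩) h

/-- Invariants with one value of the character are at most half of all plus half of the fixed ones. -/
theorem two_mul_card_le (h2 : (2 : F) ≠ 0) {ν : F} (hν : ¬IsSquare ν) {δ : ℤ} (hδ : δ ≠ 0) (J : ℕ)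
    {α : Type*} (f : α → Dat F (J + 1)) (hf : Function.Injective f) (hok : ∀ a, (f a).OK)
    (hchi : ∀ a, (f a).chi ν = δ) :
    2 * Nat.card α ≤ Nat.card (Tot F False (J + 1)) + Nat.card (Tot F True (J + 1)) := by
  classical
  haveI := (card_tot_le h2 J False (F := F)).1
  haveI := (card_tot_le h2 J True (F := F)).1
  let g : α → Tot F False (J + 1) := fun a => ⟨f a, hok a, fun h => h.elim⟩
  have hg : Function.Injective g := fun a b h => hf (congrArg Subtype.val h)
  haveI : Finite α := Finite.of_injective g hg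
  let Ψ : α ⊕ α → Tot F False (J + 1) ⊕ Tot F True (J + 1) := fun z => z.elim (fun a => Sum.inl (g a))
    fun a => if h : (f a).Fixd then Sum.inr ⟨f a, hok a, fun _ => h⟩
      else Sum.inl ⟨(f a).flip, Dat.flip_ok (hok a), fun h => h.elim⟩
  have hΨ : Function.Injective Ψ := by
    have key : ∀ a b, g a ≠ ⟨(f b).flip, Dat.flip_ok (hok b), fun h => h.elim⟩ ∨ (f b).Fixd := by
      intro a b
      refine or_iff_not_imp_right.2 fun hb e => hδ ?_
      have h1 : f a = (f b).flip := congrArg Subtype.val e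
      have h2 := Dat.chi_flip hν (hok b) hb
      rw [← h1, hchi, hchi] at h2
      omega
    rintro (a | a) (b | b) h
    · exact congrArg _ (hg (Sum.inl.inj h))
    · by_cases hb : (f b).Fixd
      · simp [Ψ, hb] at h
      · simp only [Ψ, Sum.elim_inl, Sum.elim_inr, dif_neg hb] at h
        exact absurd (Sum.inl.inj h) ((key a b).resolve_right hb)
    · by_cases ha : (f a).Fixd
      · simp [Ψ, ha] at h
      · simp only [Ψ, Sum.elim_inl, Sum.elim_inr, dif_neg ha] at h
        exact absurd (Sum.inl.inj h.symm) ((key b a).resolve_right ha)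
    · by_cases ha : (f a).Fixd <;> by_cases hb : (f b).Fixd <;>
        simp only [Ψ, Sum.elim_inr, dif_pos, dif_neg, ha, hb, not_false_eq_true, reduceCtorEq,
          Sum.inl.injEq, Sum.inr.injEq, Subtype.mk.injEq] at h
      · exact congrArg _ (hf h)
      · exact congrArg _ (hf (Dat.flip_injective h))
  have h := Nat.card_le_card_of_injective Ψ hΨ
  rw [Nat.card_sum, Nat.card_sum] at h
  omega

end CfsgLib.Geo.FormClasses
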