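import Cfsg.Agent.Geo.FormClasses.UnipPart
import Cfsg.Agent.GLClass.UnitaryDiv
import Mathlib.NumberTheory.LegendreSymbol.QuadraticChar.Basic

/-!
# Discriminant classes

The quadratic character of the discriminant: of a symmetric form with a unipotent isometry it depends only on
the signed partition and changes with a sign of odd size; of a form with an isometry without eigenvalues
`1`, `-1` it is the character of `χ_T(1) χ_T(-1)`.
-/

set_option autoImplicit false
set_option linter.style.haveILetI false
set_option linter.unusedSectionVars false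

namespace CfsgLib.Geo.FormClasses

open Matrix Module CfsgLib.Geo.NilForms CfsgLib.Geo.SpUnipClasses

variable {F : Type*} [Field F] [Fintype F] [DecidableEq F]

/-- The character of the discriminant. -/
noncomputable def disc {V : Type*} [AddCommGroup V] [Module F V] [FiniteDimensional F V]
    (B : LinearMap.BilinForm F V) : ℤ :=
  quadraticChar F (LinearMap.BilinForm.toMatrix (Module.finBasis F V) B).det

theorem qchar_sq_mul {t d : F} (ht : t ≠ 0) : quadraticChar F (t ^ 2 * d) = quadraticChar F d := by
  rw [map_mul, quadraticChar_sq_one' ht, one_mul]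

theorem disc_basis {V : Type*} [AddCommGroup V] [Module F V] [FiniteDimensional F V]
    (B : LinearMap.BilinForm F V) {ι : Type*} [Fintype ι] [DecidableEq ι] (b : Module.Basis ι F V) :
    disc B = quadraticChar F (LinearMap.BilinForm.toMatrix b B).det := by
  classical
  set b₀ := Module.finBasis F V
  have hc : Fintype.card ι = finrank F V := (Module.finrank_eq_card_basis b).symm
  let e : ι ≃ Fin (finrank F V) := (Fintype.equivFinOfCardEq hc)
  have h1 : LinearMap.BilinForm.toMatrix (b.reindex e) B =
      (LinearMap.BilinForm.toMatrix b B).submatrix e.symm e.symm := by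
    funext i j
    simp [LinearMap.BilinForm.toMatrix_apply]
  have h2 := LinearMap.BilinForm.toMatrix_comp (b.reindex e) b₀ B LinearMap.id LinearMap.id
  rw [show B.comp LinearMap.id LinearMap.id = B from LinearMap.ext fun x => LinearMap.ext fun y => rfl] at h2
  set P := LinearMap.toMatrix b₀ (b.reindex e) LinearMap.id
  have hP : P.det ≠ 0 := by
    have h3 : P * LinearMap.toMatrix (b.reindex e) b₀ LinearMap.id = 1 := by
      rw [← LinearMap.toMatrix_comp, LinearMap.comp_id, LinearMap.toMatrix_id]
    intro h0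
    have := congrArg Matrix.det h3
    rw [Matrix.det_mul, h0, zero_mul, Matrix.det_one] at this
    exact zero_ne_one this
  show quadraticChar F _ = _
  rw [h2, Matrix.det_mul, Matrix.det_mul, Matrix.det_transpose, h1, Matrix.det_submatrix_equiv_self,
    mul_comm P.det, mul_assoc, ← pow_two, mul_comm, qchar_sq_mul hP]

theorem disc_of_similar {V V' : Type*} [AddCommGroup V] [Module F V] [FiniteDimensional F V] [AddCommGroup V']
    [Module F V'] [FiniteDimensional F V'] {B : LinearMap.BilinForm F V} {B' : LinearMap.BilinForm F V'}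
    (e : V ≃ₗ[F] V') (h : ∀ x y, B' (e x) (e y) = B x y) : disc B' = disc B := by
  classical
  rw [disc_basis B' ((Module.finBasis F V).map e)]
  show _ = quadraticChar F _
  congr 2
  funext i j
  simp [LinearMap.BilinForm.toMatrix_apply, h]

/-- A decomposition into three orthogonal pieces. -/
theorem disc_three {V : Type*} [AddCommGroup V] [Module F V] [FiniteDimensional F V] {η : F}
    {B : LinearMap.BilinForm F V} {T : V →ₗ[F] V} (h2 : (2 : F) ≠ 0) (hB : IsForm η B) (hT : IsIsom B T) :
    disc B = disc (B.restrict (part T 1)) * disc (B.restrict (part T (-1))) * disc (B.restrict (rest T)) := by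
  classical
  let f : (part T 1 × part T (-1)) × rest T →ₗ[F] V :=
    LinearMap.coprod (LinearMap.coprod (part T 1).subtype (part T (-1)).subtype) (rest T).subtype
  have hsurj : Function.Surjective f := fun x => by
    obtain ⟨u, hu, c, hc, rfl⟩ := Submodule.mem_sup.1 (top_eq (T := T) h2 ▸ Submodule.mem_top :
      x ∈ part T 1 ⊔ part T (-1) ⊔ rest T)
    obtain ⟨a, ha, b, hb, rfl⟩ := Submodule.mem_sup.1 hu
    exact ⟨⟨⟨⟨a, ha⟩, ⟨b, hb⟩⟩, ⟨c, hc⟩⟩, rfl⟩
  have hrank : finrank F ((part T 1 × part T (-1)) × rest T) = finrank F V := by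
    rw [Module.finrank_prod, Module.finrank_prod,
      ← Submodule.finrank_add_eq_of_isCompl (isCompl_rest (T := T)), ker_sq_pow h2]
    have := Submodule.finrank_sup_add_finrank_inf_eq (part T 1) (part T (-1))
    rw [disjoint_parts h2, finrank_bot] at this
    omega
  have hinj : Function.Injective f :=
    (LinearMap.injective_iff_surjective_of_finrank_eq_finrank hrank).2 hsurj
  let Φ := LinearEquiv.ofBijective f ⟨hinj, hsurj⟩
  let b1 := Module.finBasis F (part T 1)
  let b2 := Module.finBasis F (part T (-1))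
  let b3 := Module.finBasis F (rest T)
  rw [disc_basis B (((b1.prod b2).prod b3).map Φ)]
  have hsw : ∀ {x y : V}, B x y = 0 → B y x = 0 := fun {x y} h => by rw [hB.swap x y, h, mul_zero]
  have hΦ : ∀ z, Φ z = (z.1.1 : V) + z.1.2 + z.2 := fun z => rfl
  have hM : LinearMap.BilinForm.toMatrix (((b1.prod b2).prod b3).map Φ) B =
      Matrix.fromBlocks (Matrix.fromBlocks (LinearMap.BilinForm.toMatrix b1 (B.restrict (part T 1))) 0 0
        (LinearMap.BilinForm.toMatrix b2 (B.restrict (part T (-1))))) 0 0
        (LinearMap.BilinForm.toMatrix b3 (B.restrict (rest T))) := by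
    funext i j
    simp only [LinearMap.BilinForm.toMatrix_apply, Module.Basis.map_apply, hΦ]
    rcases i with (i | i) | i <;> rcases j with (j | j) | j <;>
      simp [LinearMap.BilinForm.toMatrix_apply, LinearMap.BilinForm.restrict_apply, parts_orth h2 hT (b1 _).2 (b2 _).2,
        hsw (parts_orth h2 hT (b1 _).2 (b2 _).2), part_orth_rest hT (Or.inl rfl) (b1 _).2 (b3 _).2,
        hsw (part_orth_rest hT (Or.inl rfl) (b1 _).2 (b3 _).2), part_orth_rest hT (Or.inr rfl) (b2 _).2 (b3 _).2,
        hsw (part_orth_rest hT (Or.inr rfl) (b2 _).2 (b3 _).2)]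
  rw [hM, Matrix.det_fromBlocks_zero₂₁, Matrix.det_fromBlocks_zero₂₁, map_mul, map_mul]
  rfl

/-! ## Unipotent parts -/

section Unip

variable {L : ℕ} {ν : F}

/-- The character attached to a signed partition for symmetric forms. -/
noncomputable def phi (ν : F) (c : Fin L → ℕ) (s : Fin L → Bool) : ℤ :=
  quadraticChar F (modelMat (ht c) (nfs 1 ν c s)).det

theorem model_of_signed {D : ℕ} (hν : ν ≠ 0) {c : Fin (D + 1) → ℕ} {s : Fin (D + 1) → Bool}
    (hg : Signed 1 D c s) :
    ∃ (N : ((Σ i : Idx c, Fin (ht c i)) → F) →ₗ[F] ((Σ i : Idx c, Fin (ht c i)) → F))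
      (v : Idx c → ((Σ i : Idx c, Fin (ht c i)) → F)),
      Skew 1 (Matrix.toBilin' (modelMat (ht c) (nfs 1 ν c s))) N ∧
        IsGen (Matrix.toBilin' (modelMat (ht c) (nfs 1 ν c s))) N (ht c) v ∧
        ∀ n, gram (Matrix.toBilin' (modelMat (ht c) (nfs 1 ν c s))) N (ht c) v n = nfs 1 ν c s n := by
  refine exists_model (ht c) (η := (1 : F)) (one_mul 1) (nfs 1 ν c s) (fun i => ?_) (fun n => ?_)
    (nfs_det_ne hν s hg.par)
  · rcases Nat.eq_zero_or_pos (i.1 : ℕ) with h | h
    · have hlt := i.2.isLt
      have h0 : c i.1 = 0 := by rw [show i.1 = 0 from Fin.ext h, hg.zero]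
      omega
    · exact h
  · rw [nfs_transpose, one_mul, pow_succ, mul_neg_one]

theorem disc_of_type {V : Type*} [AddCommGroup V] [Module F V] [FiniteDimensional F V] (h2 : (2 : F) ≠ 0)
    (hν : ν ≠ 0) {B : LinearMap.BilinForm F V} {X : V →ₗ[F] V} (hS : Skew 1 B X) {D : ℕ} {c : Fin (D + 1) → ℕ}
    {s : Fin (D + 1) → Bool} (hg : Signed 1 D c s) (hd : HasType 1 ν B X c s) : disc B = phi ν c s := by
  classical
  obtain ⟨v, g, hv⟩ := hd
  obtain ⟨N, w, hS', g', hw⟩ := model_of_signed hν hg
  obtain ⟨e, -, he⟩ := exists_isometry h2 hS hS' g g' fun n => by rw [hv, hw]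
  rw [← disc_of_similar e he, disc_basis _ (Pi.basisFun F _), phi]
  congr 2
  funext i j
  rw [LinearMap.BilinForm.toMatrix_apply, Pi.basisFun_apply, Pi.basisFun_apply, Matrix.toBilin'_single]

theorem phi_flip (hνs : ¬IsSquare ν) {D : ℕ} {c : Fin (D + 1) → ℕ} {s : Fin (D + 1) → Bool}
    (hg : Signed 1 D c s) {j : Fin (D + 1)} (hj : Odd (j : ℕ)) (hc : 0 < c j) :
    phi ν c (Function.update s j (!(s j))) = -phi ν c s := by
  classical
  have hν : ν ≠ 0 := fun h => hνs (by rw [h]; exact IsSquare.zero)
  set r : F := if s j = true then ν⁻¹ else ν with hr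
  let lam : Idx c → F := fun x => if x.1 = j ∧ (x.2 : ℕ) + 1 = c j then r else 1
  set s' := Function.update s j (!(s j)) with hs'
  have hext : ∀ p q : Idx c, gExt (ht c) (nfs 1 ν c s') p q = lam p * gExt (ht c) (nfs 1 ν c s) p q := by
    intro p q
    by_cases h : ht c p = ht c q
    · obtain ⟨i, a⟩ := p
      obtain ⟨i', b⟩ := q
      obtain rfl : i = i' := Fin.ext h
      have e1 : ∀ σ : Fin (D + 1) → Bool, gExt (ht c) (nfs 1 ν c σ) ⟨i, a⟩ ⟨i, b⟩ =
          normalForm ν (c i) ((i : ℕ) + 1) (σ i) a b := by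
        intro σ
        rw [gExt_eq (ht c) _ (htEquiv c i a) (htEquiv c i b) |> fun h =>
          (show gExt (ht c) (nfs 1 ν c σ) ⟨i, a⟩ ⟨i, b⟩ = nfs 1 ν c σ (i : ℕ) (htEquiv c i a) (htEquiv c i b) from h),
          nfs_fin, Matrix.submatrix_apply, Equiv.symm_apply_apply, Equiv.symm_apply_apply]
      rw [e1, e1]
      by_cases hij : i = j
      · subst hij
        simp only [hs', Function.update_self, lam, true_and]
        simp only [normalForm, Matrix.of_apply, if_pos hj.add_one]
        by_cases hab : a = b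
        · rw [if_pos hab, if_pos hab]
          by_cases hl : (a : ℕ) + 1 = c i
          · rw [if_pos hl]
            cases hsj : s i <;> simp [hr, hsj, hl, hν]
          · rw [if_neg hl, if_neg (fun e => hl e.2), if_neg (fun e => hl e.2), one_mul]
        · rw [if_neg hab, if_neg hab, mul_zero]
      · simp only [hs', Function.update_of_ne hij, lam]
        rw [if_neg (fun e => hij e.1), one_mul]
    · simp [gExt, h]
  have hM : modelMat (ht c) (nfs 1 ν c s') =
      Matrix.diagonal (fun x : Σ i : Idx c, Fin (ht c i) => lam x.1) * modelMat (ht c) (nfs 1 ν c s) := by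
    funext x y
    rw [Matrix.diagonal_mul]
    simp only [modelMat, Matrix.of_apply]
    split_ifs
    · rw [hext]; ring
    · rw [mul_zero]
  have hprod : ∏ x : Σ i : Idx c, Fin (ht c i), lam x.1 = r ^ (j : ℕ) := by
    rw [Fintype.prod_sigma, Finset.prod_eq_single (⟨j, ⟨c j - 1, by omega⟩⟩ : Idx c)]
    · simp only [lam]
      rw [Finset.prod_const, Finset.card_univ, Fintype.card_fin, if_pos ⟨trivial, by omega⟩]
      rfl
    · intro x _ hx
      refine Finset.prod_eq_one fun y _ => if_neg ?_
      rintro ⟨h1, h2⟩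
      obtain ⟨x1, x2⟩ := x
      subst h1
      exact hx (Sigma.ext rfl (heq_of_eq (Fin.ext (show (x2 : ℕ) = c x1 - 1 by simp only at h2; omega))))
    · simp
  have hr0 : quadraticChar F r = -1 := by
    rw [quadraticChar_neg_one_iff_not_isSquare, hr]
    split_ifs
    · rwa [isSquare_inv]
    · exact hνs
  rw [phi, phi, hM, Matrix.det_mul, Matrix.det_diagonal, hprod, map_mul, map_pow, hr0, hj.neg_one_pow, neg_one_mul]

end Unip

/-! ## The rest -/

theorem det_skew_isSquare {n : Type*} [Fintype n] [DecidableEq n] (h2 : (2 : F) ≠ 0) {K : Matrix n n F}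
    (hK : Kᵀ = -K) (hdet : K.det ≠ 0) : ∃ t : F, t ≠ 0 ∧ K.det = t ^ 2 ∧ Even (Fintype.card n) := by
  classical
  let B : LinearMap.BilinForm F (n → F) := Matrix.toBilin' K
  have hnd : B.Nondegenerate := LinearMap.BilinForm.nondegenerate_toBilin'_of_det_ne_zero' _ hdet
  have hswap : ∀ x y, B y x = -B x y := by
    intro x y
    simp only [B, Matrix.toBilin'_apply']
    rw [dotProduct_mulVec, ← mulVec_transpose, hK, neg_mulVec, neg_dotProduct, dotProduct_comm]
  have heven := CfsgLib.Forms.exists_symplectic_basis _ _ B (fun x => by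
    have h := hswap x x
    exact (mul_eq_zero.1 (show (2 : F) * B x x = 0 by linear_combination h)).resolve_left h2) rfl
  obtain ⟨m, d, b, -, -, -, h4⟩ := heven
  have hd : d = 0 := by
    by_contra hd
    exact b.ne_zero (Sum.inr ⟨0, Nat.pos_of_ne_zero hd⟩) (hnd.1 _ fun y => h4 _ y)
  subst hd
  have hcard : Fintype.card n = 2 * m := by
    have := Module.finrank_eq_card_basis b
    simp [Module.finrank_pi] at this
    omega
  obtain ⟨e, he⟩ := exists_std_iso (m := m) h2 B hswap hnd.1 (by rw [Module.finrank_pi]; exact hcard)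
  let bn := (Pi.basisFun F n)
  let bj := (Pi.basisFun F (Fin m ⊕ Fin m))
  have h := LinearMap.BilinForm.toMatrix_comp bj bn (stdB F m) e.toLinearMap e.toLinearMap
  rw [show (stdB F m).comp e.toLinearMap e.toLinearMap = B from
    LinearMap.ext fun x => LinearMap.ext fun y => he x y] at h
  have hKB : LinearMap.BilinForm.toMatrix bn B = K := by
    funext i j
    simp [bn, B, LinearMap.BilinForm.toMatrix_apply, Matrix.toBilin'_single]
  have hJB : LinearMap.BilinForm.toMatrix bj (stdB F m) = Matrix.J (Fin m) F := by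
    funext i j
    simp [bj, stdB, LinearMap.BilinForm.toMatrix_apply, Matrix.toBilin'_single]
  rw [hKB, hJB] at h
  set P := LinearMap.toMatrix bn bj e.toLinearMap
  let E : (Fin m ⊕ Fin m) ≃ n := Fintype.equivOfCardEq (by simp [hcard]; omega)
  have hJ : (Matrix.J (Fin m) F).det = 1 := SymplecticGroup.det_eq_one (SymplecticGroup.J_mem (Fin m) F)
  let Q : Matrix n n F := P.submatrix E.symm id
  have hQ : K = Qᵀ * (Matrix.J (Fin m) F).submatrix E.symm E.symm * Q := by
    show K = (P.submatrix E.symm id)ᵀ * _ * P.submatrix E.symm id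
    rw [Matrix.transpose_submatrix, Matrix.submatrix_mul_equiv, Matrix.submatrix_mul_equiv, Matrix.submatrix_id_id]
    exact h
  have hd : K.det = Q.det ^ 2 := by
    rw [hQ, Matrix.det_mul, Matrix.det_mul, Matrix.det_transpose, Matrix.det_submatrix_equiv_self, hJ]
    ring
  exact ⟨Q.det, fun h0 => hdet (by rw [hd, h0]; ring), hd, ⟨m, by omega⟩⟩

end CfsgLib.Geo.FormClasses
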