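import Cfsg.Agent.Geo.FormClasses.Data

/-!
# Invariants in odd dimension, and those without layers of odd size
-/

set_option autoImplicit false
set_option linter.style.haveILetI false
set_option linter.unusedSectionVars false

namespace CfsgLib.Geo.FormClasses

open Polynomial CfsgLib.GLClass CfsgLib.GLClass.Symp CfsgLib.Geo.USemi

variable {F : Type*} [Field F] [Fintype F] {L : ℕ}

theorem Dat.not_fixd {x : Dat F L} (hx : x.OK) (hL : Odd L) : ¬x.Fixd := by
  intro h
  refine Nat.not_even_iff_odd.2 hL ?_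
  rw [← hx.dim]
  refine Finset.even_sum _ fun i _ => ?_
  rcases Nat.even_or_odd ((i : ℕ) + 1) with he | ho
  · exact he.mul_right _
  · rw [(h i ho).1, (h i ho).2, zero_add, zero_add]
    exact (hx.lay i).even.mul_left _

variable [DecidableEq F]

theorem Dat.flip_E (x : Dat F L) : x.flip.E = x.E := by
  unfold Dat.flip
  split
  · rfl
  · split <;> rfl

/-- In odd dimension invariants with one value of the character are half of all of them. -/
theorem two_mul_card_le_odd {ν : F} (hν : ¬IsSquare ν) {δ : ℤ} (hδ : δ ≠ 0) (hL : Odd L)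
    {P : Dat F L → Prop} (hP : ∀ x, P x → P x.flip) [Finite {x : Dat F L // x.OK ∧ P x}]
    {α : Type*} (f : α → Dat F L) (hf : Function.Injective f) (hok : ∀ a, (f a).OK) (hPf : ∀ a, P (f a))
    (hchi : ∀ a, (f a).chi ν = δ) : 2 * Nat.card α ≤ Nat.card {x : Dat F L // x.OK ∧ P x} := by
  have hne : ∀ a b, f a ≠ (f b).flip := by
    intro a b e
    have h2 := Dat.chi_flip hν (hok b) (Dat.not_fixd (hok b) hL)
    rw [← e, hchi, hchi] at h2
    omega
  let g : α → {x : Dat F L // x.OK ∧ P x} := fun a => ⟨f a, hok a, hPf a⟩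
  haveI : Finite α := Finite.of_injective g fun a b h => hf (congrArg Subtype.val h)
  have h := Nat.card_le_card_of_injective
    (fun z : α ⊕ α => z.elim g fun a => ⟨(f a).flip, Dat.flip_ok (hok a), hP _ (hPf a)⟩)
    (by
      rintro (a | a) (b | b) h <;> simp only [Sum.elim_inl, Sum.elim_inr, g, Subtype.mk.injEq] at h
      · rw [hf h]
      · exact absurd h (hne a b)
      · exact absurd h.symm (hne b a)
      · rw [hf (Dat.flip_injective h)])
  rw [Nat.card_sum] at h
  omega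

/-- No layer of odd size. -/
def Dat.NoOdd (x : Dat F L) : Prop := ∀ i : Fin L, Odd ((i : ℕ) + 1) → x.E i = 1

/-- Data of exponent `k` and degree `d` without layers of odd size. -/
def cInn (q k d : ℕ) : ℕ := if Even k then cFix q d else if d = 0 then 1 else 4 * d

/-- One exponent without a layer of odd size. -/
abbrev LocE (F : Type*) [Field F] (k d : ℕ) : Type _ :=
  {z : MP F 0 d // (Even k → z.1.1.1.1.coeff 0 = 1 ∧ Even d ∧ z.2.1 = (false, false)) ∧
    (Odd k → ∃ a : Fin (d + 1), z.1.1.1.1 = (X - C 1) ^ (a : ℕ) * (X - C (-1)) ^ (d - a))}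

/-- Multiplicities and signs of a degree `d`. -/
abbrev PairSigns (d : ℕ) : Type :=
  {w : Fin (d + 1) × Bool × Bool // (w.1.1 = 0 → w.2.1 = false) ∧ (w.1.1 = d → w.2.2 = false)}

theorem card_pairSigns (d : ℕ) : Nat.card (PairSigns d) ≤ if d = 0 then 1 else 4 * d := by
  classical
  split_ifs with hd
  · subst hd
    have hsub : Subsingleton (PairSigns 0) := ⟨fun a b => by
      have ha0 : a.1.1.1 = 0 := by omega
      have hb0 : b.1.1.1 = 0 := by omega
      exact Subtype.ext (Prod.ext (Fin.ext (ha0.trans hb0.symm)) (Prod.ext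
        ((a.2.1 ha0).trans (b.2.1 hb0).symm) ((a.2.2 ha0).trans (b.2.2 hb0).symm)))⟩
    exact Finite.card_le_one_iff_subsingleton.2 hsub
  · have hc : Nat.card (Fin d × Bool × Bool) = 4 * d := by simp; ring
    rw [← hc]
    refine Nat.card_le_card_of_injective (fun w => if h : w.1.1.1 = 0 then (⟨0, Nat.pos_of_ne_zero hd⟩, false, w.1.2.2)
      else if h' : w.1.1.1 = d then (⟨0, Nat.pos_of_ne_zero hd⟩, true, w.1.2.1)
      else (⟨w.1.1.1, by omega⟩, w.1.2)) ?_
    rintro ⟨⟨⟨i, hi⟩, s, t⟩, ha⟩ ⟨⟨⟨j, hj⟩, s', t'⟩, hb⟩ e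
    simp only at e ha hb
    split_ifs at e <;> simp_all [Prod.ext_iff, Fin.ext_iff] <;> omega

theorem card_locE_le (h2 : (2 : F) ≠ 0) (k d : ℕ) : Nat.card (LocE F k d) ≤ cInn (Fintype.card F) k d := by
  classical
  haveI := finite_MP (F := F) d
  rw [cInn]
  by_cases hk : Even k
  · rw [if_pos hk]
    exact (Nat.card_le_card_of_injective (fun z : LocE F k d => (⟨z.1, z.2.1 hk⟩ :
      {z : MP F 0 d // z.1.1.1.1.coeff 0 = 1 ∧ Even d ∧ z.2.1 = (false, false)}))
      fun a b h => Subtype.ext (congrArg (fun w => w.1) h)).trans (card_balanced_le d)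
  · rw [if_neg hk]
    have ho := Nat.not_even_iff_odd.1 hk
    have hne : (1 : F) - -1 ≠ 0 := by rw [sub_neg_eq_add, one_add_one_eq_two]; exact h2
    have hne' : (-1 : F) - 1 ≠ 0 := fun h => hne (by linear_combination -h)
    have hex : ∀ z : LocE F k d, ∃ w : PairSigns d,
        z.1.1.1.1.1 = (X - C 1) ^ (w.1.1 : ℕ) * (X - C (-1)) ^ (d - w.1.1) ∧ z.1.2.1 = w.1.2 := by
      intro z
      obtain ⟨a, ha⟩ := z.2.2 ho
      refine ⟨⟨(a, z.1.2.1), fun h0 => Bool.eq_false_iff.2 fun h => ?_, fun h0 => Bool.eq_false_iff.2 fun h => ?_⟩,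
        ha, rfl⟩
      · have e := (z.1.2.2.1 h).2
        rw [ha, h0, pow_zero, one_mul, eval_pow, eval_sub, eval_X, eval_C] at e
        exact pow_ne_zero _ hne e
      · have e := (z.1.2.2.2 h).2
        rw [ha, h0, Nat.sub_self, pow_zero, mul_one, eval_pow, eval_sub, eval_X, eval_C] at e
        exact pow_ne_zero _ hne' e
    choose w hw hs using hex
    exact (Nat.card_le_card_of_injective w fun a b h => Subtype.ext (mp_ext _ _ (by rw [hw, hw, h])
      (by rw [hs, hs, h]))).trans (card_pairSigns d)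

/-- Invariants without layers of odd size are counted by their degrees. -/
theorem card_noOdd_le (h2 : (2 : F) ≠ 0) (J : ℕ) :
    Finite {x : Dat F (J + 1) // x.OK ∧ x.NoOdd} ∧ Nat.card {x : Dat F (J + 1) // x.OK ∧ x.NoOdd} ≤
      ∑ d ∈ degs J, ∏ i : Fin (J + 1), Nat.card (LocE F ((i : ℕ) + 1) (d i : ℕ)) := by
  classical
  haveI : ∀ d, Finite (MP F 0 d) := finite_MP
  let T := {x : Dat F (J + 1) // x.OK ∧ x.NoOdd}
  have hdeg : ∀ x : T, ∀ i, (x.1.poly i).natDegree < J + 2 := by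
    intro x i
    have h := Finset.single_le_sum (f := fun i : Fin (J + 1) =>
      ((i : ℕ) + 1) * (x.1.cp i.succ + x.1.cm i.succ + (x.1.E i).natDegree)) (fun _ _ => Nat.zero_le _)
      (Finset.mem_univ i)
    rw [x.2.1.dim] at h
    rw [x.2.1.poly_deg]
    calc _ ≤ ((i : ℕ) + 1) * (x.1.cp i.succ + x.1.cm i.succ + (x.1.E i).natDegree) :=
          Nat.le_mul_of_pos_left _ (Nat.succ_pos _)
      _ < J + 2 := by omega
  let dd : T → {d // d ∈ degs J} := fun x => ⟨fun i => ⟨(x.1.poly i).natDegree, hdeg x i⟩, by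
    refine Finset.mem_filter.2 ⟨Finset.mem_univ _, ?_⟩
    simp only [x.2.1.poly_deg]
    exact x.2.1.dim⟩
  let Φ : T → Σ d : {d // d ∈ degs J}, ∀ i : Fin (J + 1), LocE F ((i : ℕ) + 1) (d.1 i : ℕ) :=
    fun x => ⟨dd x, fun i => ⟨⟨⟨⟨⟨x.1.poly i, x.2.1.poly_monic i, rfl, x.2.1.poly_zero_ne i⟩, x.2.1.poly_dual i⟩,
        fun h => absurd h (by decide)⟩,
        ⟨(x.1.sp i.succ, x.1.sm i.succ), fun h => ⟨by decide, (x.2.1.mark_plus i h).2⟩,
          fun h => ⟨by decide, (x.2.1.mark_minus i h).2⟩⟩⟩,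
      fun hk => ⟨(x.2.1.poly_balanced i fun ho => absurd hk (Nat.not_even_iff_odd.2 ho)).1,
        (x.2.1.poly_balanced i fun ho => absurd hk (Nat.not_even_iff_odd.2 ho)).2,
        Prod.ext (Bool.eq_false_iff.2 fun h => absurd hk (Nat.not_even_iff_odd.2 (x.2.1.mark_plus i h).1))
          (Bool.eq_false_iff.2 fun h => absurd hk (Nat.not_even_iff_odd.2 (x.2.1.mark_minus i h).1))⟩,
      fun ho => by
        have hd : (x.1.poly i).natDegree = x.1.cp i.succ + x.1.cm i.succ := by
          rw [x.2.1.poly_deg, x.2.2 i ho, natDegree_one, add_zero]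
        refine ⟨⟨x.1.cp i.succ, by show _ < (x.1.poly i).natDegree + 1; omega⟩, ?_⟩
        show x.1.poly i = _ * _ ^ ((x.1.poly i).natDegree - x.1.cp i.succ)
        simp only [hd, Nat.add_sub_cancel_left]
        rw [Dat.poly, x.2.2 i ho, mul_one]⟩⟩
  have hinj : Function.Injective Φ := by
    intro x y h
    have e1 := congrArg (fun z : Σ d : {d // d ∈ degs J}, ∀ i : Fin (J + 1), LocE F ((i : ℕ) + 1) (d.1 i : ℕ) =>
      fun i => (z.2 i).1.1.1.1.1) h
    have e2 := congrArg (fun z : Σ d : {d // d ∈ degs J}, ∀ i : Fin (J + 1), LocE F ((i : ℕ) + 1) (d.1 i : ℕ) =>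
      fun i => (z.2 i).1.2.1) h
    exact Subtype.ext (Dat.ext_of_poly h2 x.2.1 y.2.1 (fun i => congrFun e1 i)
      (fun i => congrArg Prod.fst (congrFun e2 i)) fun i => congrArg Prod.snd (congrFun e2 i))
  refine ⟨Finite.of_injective Φ hinj, (Nat.card_le_card_of_injective Φ hinj).trans ?_⟩
  rw [Nat.card_sigma]
  simp only [Nat.card_pi]
  exact le_of_eq (Finset.sum_coe_sort (degs J) fun d => ∏ i : Fin (J + 1), Nat.card (LocE F ((i : ℕ) + 1) (d i : ℕ)))

end CfsgLib.Geo.FormClasses
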