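import Cfsg.Agent.Geo.FormClasses.Disc
import Cfsg.Agent.Quad.IndexTwo
import Cfsg.Agent.Quad.NegOne

/-!
# The spinor norm through the Wall form

The spinor norm of an isometry `h` is the discriminant of `(a, b) ↦ B(a, b - h b)` on a complement of the
fixed space; without eigenvalue `-1` it is the character of `det ((1 + h) / 2)`.
-/

set_option autoImplicit false
set_option linter.style.haveILetI false
set_option linter.unusedSectionVars false

namespace CfsgLib.Geo.FormClasses

open Matrix Module QuadraticMap CfsgLib.Quad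

variable {F : Type*} [Field F] [Fintype F] [DecidableEq F] {V : Type*} [AddCommGroup V] [Module F V]
  [FiniteDimensional F V] {Q : QuadraticForm F V}

/-- The Wall form. -/
noncomputable def wallB (h : oGroup Q) : LinearMap.BilinForm F V :=
  LinearMap.BilinForm.compRight (polarBilin Q) (1 - h.1.toLinearMap)

theorem wallB_apply (h : oGroup Q) (a b : V) : wallB h a b = polar Q a (b - h.1 b) := by
  simp [wallB]

theorem wallB_self (h : oGroup Q) (a : V) : wallB h a a = Q (a - h.1 a) := by
  rw [wallB_apply]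
  simp only [polar, sub_eq_add_neg, ← add_assoc]
  have e1 : polar Q a (-h.1 a) = -polar Q a (h.1 a) := polar_neg_right _ _ _
  have e2 : Q (h.1 a) = Q a := h.2 a
  have h3 : Q (a + (a + -h.1 a)) = Q a + Q (a + -h.1 a) + polar Q a (a + -h.1 a) := QuadraticMap.map_add _ _ _
  rw [← add_assoc] at h3
  have h4 : Q (a + -h.1 a) = Q a + Q (-h.1 a) + polar Q a (-h.1 a) := QuadraticMap.map_add _ _ _
  have h5 : polar Q a (a + -h.1 a) = polar Q a a + polar Q a (-h.1 a) := polar_add_right _ _ _ _
  rw [QuadraticMap.map_neg, e2] at h4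
  rw [h3, h5, h4, polar_self, nsmul_eq_mul, Nat.cast_ofNat]
  ring

theorem mem_fix_iff (h : oGroup Q) (x : V) :
    x ∈ LinearMap.ker (1 - h.1.toLinearMap) ↔ h.1 x = x := by
  rw [LinearMap.mem_ker, LinearMap.sub_apply, Module.End.one_apply, sub_eq_zero, LinearEquiv.coe_coe, eq_comm]

theorem polar_fix_eq_zero (h : oGroup Q) {f : V} (hf : h.1 f = f) (b : V) : polar Q f (b - h.1 b) = 0 := by
  have hh : polar Q (h.1 f) (h.1 b) = polar Q f b := by
    simp only [polar, ← map_add, h.2 _]
  rw [hf] at hh
  rw [polar_sub_right, hh, sub_self]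

variable (hQ : (polarBilin Q).Nondegenerate) (h2 : (2 : F) ≠ 0) {θ : oGroup Q →* ℤˣ}
  (hθ : ∀ v, Q v ≠ 0 → (θ (refl Q v) = 1 ↔ IsSquare (Q v)))
include hQ h2 hθ

omit hQ h2 in
theorem theta_refl {v : V} (hv : Q v ≠ 0) : ((θ (refl Q v) : ℤˣ) : ℤ) = quadraticChar F (Q v) := by
  by_cases hs : IsSquare (Q v)
  · rw [(hθ v hv).2 hs, (quadraticChar_one_iff_isSquare hv).2 hs]; rfl
  · rw [(Int.units_eq_one_or _).resolve_left fun e => hs ((hθ v hv).1 e),
      quadraticChar_neg_one_iff_not_isSquare.2 hs]; rfl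

omit hθ in
theorem wallB_nd (h : oGroup Q) {U : Submodule F V} (hU : IsCompl U (LinearMap.ker (1 - h.1.toLinearMap)))
    {b : V} (hb : b ∈ U) (h0 : ∀ a ∈ U, polar Q a (b - h.1 b) = 0) : b = 0 := by
  have h1 : b - h.1 b = 0 := by
    refine hQ.1 _ fun y => ?_
    obtain ⟨u, hu, f, hf, rfl⟩ := Submodule.mem_sup.1 (hU.sup_eq_top ▸ Submodule.mem_top :
      y ∈ U ⊔ LinearMap.ker (1 - h.1.toLinearMap))
    rw [polarBilin_apply_apply, polar_comm, polar_add_left, h0 u hu,
      polar_fix_eq_zero h ((mem_fix_iff h f).1 hf), add_zero]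
  exact (Submodule.disjoint_def.1 hU.disjoint) b hb ((mem_fix_iff h b).2 (sub_eq_zero.1 h1).symm)

theorem spinor_wall : ∀ (r : ℕ) (h : oGroup Q) (U : Submodule F V), finrank F U = r →
    IsCompl U (LinearMap.ker (1 - h.1.toLinearMap)) →
    ((θ h : ℤˣ) : ℤ) = disc ((wallB h).restrict U) := by
  classical
  intro r
  induction r using Nat.strong_induction_on with
  | _ r ih =>
  intro h U hr hU
  have hsymm : ∀ x y, polar Q (h.1 x) (h.1 y) = polar Q x y := fun x y => by
    simp only [polar, ← map_add, h.2 _]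
  by_cases halt : ∀ a ∈ U, wallB h a a = 0
  · have hall : ∀ a : V, Q (a - h.1 a) = 0 := by
      intro a
      obtain ⟨u, hu, f, hf, rfl⟩ := Submodule.mem_sup.1 (hU.sup_eq_top ▸ Submodule.mem_top :
        a ∈ U ⊔ LinearMap.ker (1 - h.1.toLinearMap))
      rw [map_add, (mem_fix_iff h f).1 hf, add_sub_add_right_eq_sub, ← wallB_self]
      exact halt u hu
    have hperp : ∀ a b : V, polar Q (a - h.1 a) (b - h.1 b) = 0 := fun a b => by
      have h3 := hall (a + b)
      rw [map_add, add_sub_add_comm, QuadraticMap.map_add (⇑Q), hall, hall, zero_add, zero_add] at h3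
      exact h3
    have hskew : ∀ a b : V, polar Q a (b - h.1 b) + polar Q b (a - h.1 a) = 0 := fun a b => by
      have h3 := hperp a b
      rw [polar_sub_left, polar_sub_right, polar_sub_right, hsymm] at h3
      rw [polar_sub_right, polar_sub_right, polar_comm _ b a, polar_comm _ b (h.1 a)]
      linear_combination h3
    have hsq : ∀ b, (b - h.1 b) - h.1 (b - h.1 b) = 0 := fun b => hQ.1 _ fun a => by
      rw [polarBilin_apply_apply, polar_comm]
      have h3 := hskew a (b - h.1 b)
      rwa [hperp, add_zero] at h3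
    let k : V →ₗ[F] V := (2 : F)⁻¹ • (1 + h.1.toLinearMap)
    have hkk : ∀ x, k (k x) = h.1 x := fun x => by
      have h3 := hsq x
      rw [map_sub] at h3
      simp only [k, LinearMap.smul_apply, LinearMap.add_apply, Module.End.one_apply, LinearEquiv.coe_coe,
        map_smul, map_add, smul_smul]
      linear_combination (norm := (match_scalars <;> field_simp <;> ring)) ((2 : F)⁻¹ * (2 : F)⁻¹) • h3
    have hkQ : ∀ x, Q (k x) = Q x := fun x => by
      have h3 : Q (x - h.1 x) = 0 := hall x
      rw [sub_eq_add_neg, QuadraticMap.map_add (⇑Q), QuadraticMap.map_neg, h.2, polar_neg_right] at h3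
      simp only [k, LinearMap.smul_apply, LinearMap.add_apply, Module.End.one_apply, LinearEquiv.coe_coe,
        QuadraticMap.map_smul, QuadraticMap.map_add (⇑Q), h.2 x, smul_eq_mul]
      field_simp
      linear_combination -h3
    have hkinj : Function.Injective k := fun x y e => h.1.injective (by rw [← hkk, ← hkk, e])
    let kO : oGroup Q := ⟨LinearEquiv.ofInjectiveEndo k hkinj, hkQ⟩
    have hh : h = kO * kO := Subtype.ext (LinearEquiv.ext fun x => (hkk x).symm)
    rw [hh, map_mul, Int.units_mul_self, Units.val_one, ← hh, disc]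
    set bU := Module.finBasis F U
    set M := LinearMap.BilinForm.toMatrix bU ((wallB h).restrict U) with hM
    have hdet : M.det ≠ 0 := by
      rw [hM, ← LinearMap.BilinForm.nondegenerate_iff_det_ne_zero]
      refine LinearMap.BilinForm.Nondegenerate.ofSeparatingLeft fun x hx => Subtype.ext ?_
      refine wallB_nd hQ h2 h hU x.2 fun a ha => ?_
      have h3 := hskew (x : V) a
      have h4 : polar Q (x : V) (a - h.1 a) = 0 := by
        rw [← wallB_apply]; exact hx ⟨a, ha⟩
      rwa [h4, zero_add] at h3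
    have hMT : Mᵀ = -M := by
      funext i j
      rw [Matrix.transpose_apply, Matrix.neg_apply, hM, LinearMap.BilinForm.toMatrix_apply,
        LinearMap.BilinForm.toMatrix_apply, LinearMap.BilinForm.restrict_apply,
        LinearMap.BilinForm.restrict_apply]
      simp only [LinearMap.domRestrict_apply, wallB_apply]
      exact eq_neg_of_add_eq_zero_left (hskew _ _)
    obtain ⟨t, ht, hdt, -⟩ := det_skew_isSquare h2 hMT hdet
    rw [hdt, quadraticChar_sq_one' ht]
  · push Not at halt
    obtain ⟨a, ha, haa⟩ := halt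
    set x := a - h.1 a with hx
    have hQx : Q x ≠ 0 := by rwa [hx, ← wallB_self]
    have hax : polar Q (h.1 a) x = -Q x := by
      rw [← wallB_self h a, wallB_apply, hx, polar_sub_right, polar_sub_right, polar_comm _ (h.1 a) a,
        polar_self, polar_self, h.2]
      ring
    set g := refl Q x * h with hg
    have hgap : ∀ y, g.1 y = h.1 y + (-(Q x)⁻¹ * polar Q (h.1 y) x) • x := fun y => refl_apply x _
    have hga : g.1 a = a := by
      rw [hgap, hax, neg_mul_neg, inv_mul_cancel₀ hQx, one_smul, hx]; abel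
    have hfix : ∀ f, h.1 f = f → g.1 f = f := fun f hf => by
      rw [hgap, hf, hx, polar_fix_eq_zero h hf, mul_zero, zero_smul, add_zero]
    set φ : V →ₗ[F] F := (polarBilin Q x).comp h.1.toLinearMap with hφ
    have hφap : ∀ y, φ y = polar Q (h.1 y) x := fun y => by
      simp [hφ, polar_comm _ x]
    set U' := U ⊓ LinearMap.ker φ
    have hU'mem : ∀ {y}, y ∈ U' → y ∈ U ∧ polar Q (h.1 y) x = 0 := fun {y} hy =>
      ⟨hy.1, by rw [← hφap]; exact hy.2⟩
    have hφa : φ a ≠ 0 := by rw [hφap, hax]; exact neg_ne_zero.2 hQx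
    let f : U' × F →ₗ[F] U := LinearMap.coprod
      (Submodule.inclusion (inf_le_left : U' ≤ U)) (LinearMap.toSpanSingleton F U ⟨a, ha⟩)
    have hfinj : Function.Injective f := by
      rw [← LinearMap.ker_eq_bot, Submodule.eq_bot_iff]
      rintro ⟨y, c⟩ hy
      have h3 : (y : V) + c • a = 0 := congrArg Subtype.val (LinearMap.mem_ker.1 hy)
      have h4 := congrArg φ h3
      rw [map_add, map_smul, map_zero, show φ (y : V) = 0 from y.2.2, zero_add, smul_eq_mul] at h4
      have hc : c = 0 := (mul_eq_zero.1 h4).resolve_right hφa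
      rw [hc, zero_smul, add_zero] at h3
      exact Prod.ext (Subtype.ext h3) hc
    have hfsurj : Function.Surjective f := fun u => by
      refine ⟨(⟨(u : V) - (φ u / φ a) • a, sub_mem u.2 (U.smul_mem _ ha), ?_⟩, φ u / φ a), Subtype.ext ?_⟩
      · show φ _ = 0
        rw [map_sub, map_smul, smul_eq_mul, div_mul_cancel₀ _ hφa, sub_self]
      · show (u : V) - _ + (φ u / φ a) • a = u
        rw [sub_add_cancel]
    let Φ := LinearEquiv.ofBijective f ⟨hfinj, hfsurj⟩
    have hrk : finrank F U' + 1 = r := by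
      rw [← hr, ← Φ.finrank_eq, Module.finrank_prod, Module.finrank_self]
    have hgU' : ∀ y ∈ U', g.1 y = h.1 y := fun y hy => by
      rw [hgap, (hU'mem hy).2, mul_zero, zero_smul, add_zero]
    have hdisj : Disjoint U' (LinearMap.ker (1 - g.1.toLinearMap)) := by
      rw [Submodule.disjoint_def]
      intro y hy hyg
      rw [mem_fix_iff, hgU' y hy] at hyg
      exact Submodule.disjoint_def.1 hU.disjoint y hy.1 ((mem_fix_iff h y).2 hyg)
    have hU' : IsCompl U' (LinearMap.ker (1 - g.1.toLinearMap)) := by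
      refine ⟨hdisj, codisjoint_iff.2 (Submodule.eq_top_of_finrank_eq ?_)⟩
      have hle : LinearMap.ker (1 - h.1.toLinearMap) ⊔ F ∙ a ≤ LinearMap.ker (1 - g.1.toLinearMap) := by
        refine sup_le (fun y hy => (mem_fix_iff g y).2 (hfix y ((mem_fix_iff h y).1 hy))) ?_
        rw [Submodule.span_singleton_le_iff_mem, mem_fix_iff]; exact hga
      have hd : LinearMap.ker (1 - h.1.toLinearMap) ⊓ F ∙ a = ⊥ := by
        rw [Submodule.eq_bot_iff]
        rintro y ⟨hy, hy'⟩
        obtain ⟨c, rfl⟩ := Submodule.mem_span_singleton.1 hy'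
        exact Submodule.disjoint_def.1 hU.disjoint _ (U.smul_mem c ha) hy
      have ha0 : a ≠ 0 := fun e => hQx (by rw [hx, e, map_zero, sub_zero, QuadraticMap.map_zero])
      have e1 := Submodule.finrank_sup_add_finrank_inf_eq (LinearMap.ker (1 - h.1.toLinearMap)) (F ∙ a)
      rw [hd, finrank_bot, finrank_span_singleton ha0] at e1
      have e2 := Submodule.finrank_mono hle
      have e3 := Submodule.finrank_add_eq_of_isCompl hU
      have e4 := Submodule.finrank_sup_add_finrank_inf_eq U' (LinearMap.ker (1 - g.1.toLinearMap))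
      rw [hdisj.eq_bot, finrank_bot] at e4
      have e5 := Submodule.finrank_le (U' ⊔ LinearMap.ker (1 - g.1.toLinearMap))
      omega
    have hh : h = refl Q x * g := by rw [hg, ← mul_assoc, refl_mul_self, one_mul]
    have hrec := ih _ (by omega) g U' rfl hU'
    rw [hh, map_mul, Units.val_mul, theta_refl hθ hQx, hrec, ← hh]
    let b' := Module.finBasis F U'
    let b := (b'.prod (Basis.singleton Unit F)).map Φ
    rw [disc_basis _ b, disc]
    have hM : LinearMap.BilinForm.toMatrix b ((wallB h).restrict U) =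
        Matrix.fromBlocks (LinearMap.BilinForm.toMatrix b' ((wallB g).restrict U'))
          (Matrix.of fun i _ => wallB h (b' i : V) a) 0 (Matrix.of fun _ _ => Q x) := by
      have hΦa : ∀ z, ((Φ z : U) : V) = (z.1 : V) + z.2 • a := fun z => rfl
      have hΦ1 : ∀ i, ((b (Sum.inl i) : U) : V) = (b' i : V) := fun i => by simp [b, hΦa]
      have hΦ2 : ∀ i, ((b (Sum.inr i) : U) : V) = a := fun i => by simp [b, hΦa]
      funext i j
      rw [LinearMap.BilinForm.toMatrix_apply, LinearMap.BilinForm.restrict_apply]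
      rcases i with i | i <;> rcases j with j | j <;> simp only [hΦ1, hΦ2, Matrix.fromBlocks_apply₁₁,
        Matrix.fromBlocks_apply₁₂, Matrix.fromBlocks_apply₂₁, Matrix.fromBlocks_apply₂₂, Matrix.of_apply,
        Matrix.zero_apply, LinearMap.BilinForm.toMatrix_apply, LinearMap.BilinForm.restrict_apply,
        LinearMap.domRestrict_apply]
      · rw [wallB_apply, wallB_apply, hgU' _ (b' j).2]
      · rw [wallB_apply]
        have h3 := (hU'mem (b' j).2).2
        rw [hx, polar_sub_right, hsymm, polar_comm _ (h.1 (b' j : V)) a, polar_comm _ (b' j : V) a] at h3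
        rw [polar_sub_right]
        linear_combination -h3
      · rw [wallB_self]
    rw [hM, Matrix.det_fromBlocks_zero₂₁, map_mul, mul_comm]
    congr 2
    simp [Matrix.det_unique]

theorem spinor_eq (h : oGroup Q) (hne : ∀ x, h.1 x = -x → x = 0) :
    ((θ h : ℤˣ) : ℤ) = quadraticChar F (LinearMap.det ((2 : F)⁻¹ • (1 + h.1.toLinearMap))) := by
  classical
  have htop : ∀ g : oGroup Q, (∀ x, g.1 x = x → x = 0) →
      ((θ g : ℤˣ) : ℤ) = quadraticChar F ((LinearMap.BilinForm.toMatrix (Module.finBasis F V) (polarBilin Q)).det *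
        LinearMap.det (1 - g.1.toLinearMap)) := by
    intro g hg
    have hk : LinearMap.ker (1 - g.1.toLinearMap) = ⊥ := by
      rw [Submodule.eq_bot_iff]; exact fun x hx => hg x ((mem_fix_iff g x).1 hx)
    rw [spinor_wall hQ h2 hθ _ g ⊤ rfl (by rw [hk]; exact isCompl_top_bot),
      disc_basis _ ((Module.finBasis F V).map (Submodule.topEquiv (R := F) (M := V)).symm)]
    congr 1
    rw [← LinearMap.det_toMatrix (Module.finBasis F V) (1 - g.1.toLinearMap), ← Matrix.det_mul,
      ← LinearMap.BilinForm.toMatrix_compRight]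
    congr 1
  have h1 := htop (negIso Q) fun x hx => by
    rw [negIso_apply] at hx
    exact (smul_eq_zero.1 (show (2 : F) • x = 0 by rw [two_smul]; nth_rewrite 1 [← hx]; exact neg_add_cancel x)).resolve_left h2
  have h2' := htop (negIso Q * h) fun x hx => hne x (by
    have h3 : -(h.1 x) = x := hx
    rw [← h3, neg_neg, h3])
  rw [map_mul, Units.val_mul] at h2'
  have e1 : (1 - (negIso Q).1.toLinearMap : V →ₗ[F] V) = (2 : F) • 1 := LinearMap.ext fun x => by
    show x - (negIso Q).1 x = (2 : F) • x
    rw [negIso_apply, sub_neg_eq_add, two_smul]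
  have e2 : (1 - (negIso Q * h).1.toLinearMap : V →ₗ[F] V) = 1 + h.1.toLinearMap := LinearMap.ext fun x => by
    show x - (negIso Q).1 (h.1 x) = x + h.1 x
    rw [negIso_apply, sub_neg_eq_add]
  rw [e1, LinearMap.det_smul, map_one, mul_one, map_mul] at h1
  rw [e2, map_mul] at h2'
  rw [LinearMap.det_smul, inv_pow, map_mul]
  have hinv : quadraticChar F ((2 : F) ^ finrank F V)⁻¹ = quadraticChar F ((2 : F) ^ finrank F V) := by
    have h4 : (2 : F) ^ finrank F V ≠ 0 := pow_ne_zero _ h2
    rw [show ((2 : F) ^ finrank F V)⁻¹ = (((2 : F) ^ finrank F V)⁻¹) ^ 2 * 2 ^ finrank F V by field_simp,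
      qchar_sq_mul (inv_ne_zero h4)]
  rw [hinv]
  have hG : quadraticChar F (LinearMap.BilinForm.toMatrix (Module.finBasis F V) (polarBilin Q)).det ^ 2 = 1 :=
    quadraticChar_sq_one ((LinearMap.BilinForm.nondegenerate_iff_det_ne_zero _).1 hQ)
  have hs : ((θ (negIso Q) : ℤˣ) : ℤ) ^ 2 = 1 := by rw [← Units.val_pow_eq_pow_val, Int.units_sq, Units.val_one]
  have h22 : quadraticChar F ((2 : F) ^ finrank F V) ^ 2 = 1 := quadraticChar_sq_one (pow_ne_zero _ h2)
  rw [h1] at hs h2'
  generalize quadraticChar F ((2 : F) ^ finrank F V) = t at *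
  generalize quadraticChar F (LinearMap.BilinForm.toMatrix (Module.finBasis F V) (polarBilin Q)).det = d at *
  generalize quadraticChar F (LinearMap.det (1 + h.1.toLinearMap)) = u at *
  generalize ((θ h : ℤˣ) : ℤ) = w at *
  linear_combination (d * t) * h2' + (t * u) * hG - w * hs

end CfsgLib.Geo.FormClasses
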