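import Cfsg.Agent.Geo.FormClasses.OddLayerModel
import Cfsg.Agent.Geo.FormClasses.Wall

/-!
# An odd layer gives a centralising isometry of spinor norm `-1`
-/

set_option autoImplicit false
set_option linter.style.haveILetI false
set_option linter.unusedSectionVars false

namespace CfsgLib.Geo.FormClasses

open Polynomial Module CfsgLib.GLClass CfsgLib.Geo.USemi Matrix

variable {F : Type*} [Field F] [Fintype F] [DecidableEq F]

theorem exists_iso_of_odd_layer {W : Type*} [AddCommGroup W] [Module F W] [FiniteDimensional F W]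
    {B : LinearMap.BilinForm F W} {T : W →ₗ[F] W} (hB : IsForm (1 : F) B) (hT : IsIsom B T)
    (hne : ∀ x, T (T x) = x → x = 0) (h2 : (2 : F) ≠ 0) {j : ℕ} (hj : Odd j) (hl : layer T j ≠ 1) :
    ∃ f : W →ₗ[F] W, IsIsom B f ∧ (∀ x, f (T x) = T (f x)) ∧ LinearMap.det f = 1 ∧
      ¬IsSquare (LinearMap.det ((2 : F)⁻¹ • (1 + f))) := by
  classical
  obtain ⟨N, p, e, hd, hspec, ⟨φ⟩⟩ := exists_data_eq (matOf T)
  have hmem : ∀ i, (p i, e i) ∈ elemDiv (matOf T) := fun i => by
    rw [hd]; exact Multiset.mem_map.2 ⟨i, Finset.mem_univ_val _, rfl⟩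
  have hc0 : ∀ x ∈ elemDiv (matOf T), x.1.coeff 0 ≠ 0 := fun x hx =>
    coeff_zero_ne_of_dvd (dvd_charpoly_of_mem hx) fun h0 => det_matOf_ne hB hT (by
      rw [Matrix.det_eq_sign_charpoly_coeff, h0, mul_zero])
  have hev : ∀ x ∈ elemDiv (matOf T), ∀ ε : F, ε = 1 ∨ ε = -1 → x.1.eval ε ≠ 0 := fun x hx ε hε h0 => by
    obtain ⟨c, hc⟩ := dvd_charpoly_of_mem hx
    apply eval_ne hB hT hne h2 ε hε
    rw [hc, eval_mul, h0, zero_mul]
  have hdual := elemDiv_dual hB hT
  have hdm : ∀ x ∈ elemDiv (matOf T), (dual (RingHom.id F) x.1, x.2) ∈ elemDiv (matOf T) := fun x hx => by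
    rw [← hdual]; exact Multiset.mem_map.2 ⟨x, hx, rfl⟩
  let α := {x : F[X] × ℕ // x ∈ (elemDiv (matOf T)).toFinset}
  let d : α → α := fun x => ⟨(dual (RingHom.id F) x.1.1, x.1.2),
    Multiset.mem_toFinset.2 (hdm _ (Multiset.mem_toFinset.1 x.2))⟩
  have hdd : ∀ x, d (d x) = x := fun x => by
    refine Subtype.ext (Prod.ext ?_ rfl)
    exact dual_dual _ (fun _ => rfl) (elemDiv_spec _ (Multiset.mem_toFinset.1 x.2)).1
      (hc0 _ (Multiset.mem_toFinset.1 x.2))
  let t : Fin N → α := fun i => ⟨(p i, e i), Multiset.mem_toFinset.2 (hmem i)⟩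
  have hcnt0 : ∀ x, (elemDiv (matOf T)).count x = Nat.card {i // (p i, e i) = x} := fun x => by
    rw [hd, Multiset.count_map, Nat.card_eq_fintype_card, Fintype.card_subtype, Finset.card_def, Finset.filter_val]
    exact congrArg _ (Multiset.filter_congr fun i _ => eq_comm)
  have hcnt : ∀ a : α, Nat.card {i // t i = a} = (elemDiv (matOf T)).count a.1 := fun a => by
    rw [hcnt0]
    exact Nat.card_congr (Equiv.subtypeEquivRight fun i => Subtype.ext_iff)
  have hcd : ∀ x ∈ elemDiv (matOf T),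
      (elemDiv (matOf T)).count (dual (RingHom.id F) x.1, x.2) = (elemDiv (matOf T)).count x := fun x hx => by
    conv_lhs => rw [← hdual]
    exact Multiset.count_map_eq_count _ _ (fun x hx y hy hxy => by
      simp only [Prod.mk.injEq] at hxy
      refine Prod.ext ?_ hxy.2
      rw [← dual_dual (RingHom.id F) (fun _ => rfl) (elemDiv_spec _ hx).1 (hc0 _ hx), hxy.1,
        dual_dual (RingHom.id F) (fun _ => rfl) (elemDiv_spec _ hy).1 (hc0 _ hy)]) _ hx
  obtain ⟨σ, hinv, hσ, -⟩ := exists_involution (t := t) d hdd fun a => by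
    rw [hcnt, hcnt]
    exact (hcd _ (Multiset.mem_toFinset.1 a.2)).symm
  have hfam : DualFam p e σ := by
    refine ⟨fun i => (hspec i).2.1, fun i => (hspec i).2.2, fun i => hc0 _ (hmem i), hinv,
      fun i => congrArg (fun a : α => a.1.1) (hσ i), fun i => congrArg (fun a : α => a.1.2) (hσ i), fun i hdvd => ?_⟩
    rw [show (X : F[X]) ^ 2 - 1 = (X - C 1) * (X - C (-1)) by simp; ring] at hdvd
    rcases (hspec i).2.1.prime.dvd_or_dvd hdvd with h | h
    · have e' := eq_of_monic_of_associated (hspec i).1 (monic_X_sub_C 1)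
        ((hspec i).2.1.associated_of_dvd (irreducible_X_sub_C 1) h)
      exact hev _ (hmem i) 1 (Or.inl rfl) (by simp [e'])
    · have e' := eq_of_monic_of_associated (hspec i).1 (monic_X_sub_C _)
        ((hspec i).2.1.associated_of_dvd (irreducible_X_sub_C _) h)
      exact hev _ (hmem i) (-1) (Or.inr rfl) (by simp [e'])
  obtain ⟨i0, hi0⟩ : ∃ i, e i = j := by
    by_contra hno
    push Not at hno
    refine hl ?_
    rw [layer, polys, Multiset.filter_eq_nil.2 fun x hx => ?_, Multiset.map_zero, Multiset.prod_zero]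
    rw [hd, Multiset.mem_map] at hx
    obtain ⟨i, -, rfl⟩ := hx
    exact hno i
  obtain ⟨B', f', hB', hT', hf', hcomm, hdet, hns⟩ := exists_model_iso hfam h2 (hi0 ▸ hj : Odd (e i0))
  haveI : ∀ i, FiniteDimensional F (Cyc p e i) := fun i => finite_adjoin (pow_ne_zero _ (hspec i).2.1.ne_zero)
  let ψ : Model p e ≃ₗ[F] (∀ i, Cyc p e i) :=
    { toFun := fun x => x, invFun := fun x => x, map_add' := fun _ _ => rfl,
      map_smul' := fun c x => funext fun i => rfl, left_inv := fun _ => rfl, right_inv := fun _ => rfl }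
  let eW : W ≃ₗ[F] (∀ i, Cyc p e i) := (((Module.finBasis F W).equivFun).trans
    ((Module.AEval'.of (Matrix.toLin' (matOf T))).trans (φ.restrictScalars F))).trans ψ
  have heW : ∀ x, eW (T x) = LinearMap.mulLeft F (fun i => AdjoinRoot.root (p i ^ e i)) (eW x) := by
    intro x
    have h1 : (Module.finBasis F W).equivFun (T x) = Matrix.toLin' (matOf T) ((Module.finBasis F W).equivFun x) := by
      rw [Module.Basis.equivFun_apply, Module.Basis.equivFun_apply, Matrix.toLin'_apply]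
      exact (LinearMap.toMatrix_mulVec_repr (Module.finBasis F W) (Module.finBasis F W) T x).symm
    show ψ (φ (Module.AEval'.of _ ((Module.finBasis F W).equivFun (T x)))) = _
    rw [h1, ← Module.AEval'.X_smul_of, map_smul]
    funext i
    show ((X : F[X]) • φ (Module.AEval'.of (Matrix.toLin' (matOf T)) ((Module.finBasis F W).equivFun x))) i = _
    rw [Pi.smul_apply]
    obtain ⟨g, hg⟩ := Submodule.Quotient.mk_surjective _
      (φ (Module.AEval'.of (Matrix.toLin' (matOf T)) ((Module.finBasis F W).equivFun x)) i)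
    rw [← hg, ← Submodule.Quotient.mk_smul, smul_eq_mul]
    show AdjoinRoot.mk (p i ^ e i) (X * g) = AdjoinRoot.root (p i ^ e i) * eW x i
    rw [map_mul, AdjoinRoot.mk_X]
    exact congrArg (AdjoinRoot.root (p i ^ e i) * ·) hg
  obtain ⟨E, hE, hEB⟩ := similar_of_linear hB hB' hT hT' hne eW heW
  let f := (E.symm.toLinearMap.comp (f'.comp E.toLinearMap))
  have hfE : ∀ x, E (f x) = f' (E x) := fun x => E.apply_symm_apply _
  refine ⟨f, fun x y => ?_, fun x => E.injective ?_, ?_, ?_⟩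
  · rw [← hEB, hfE, hfE, hf', hEB]
  · rw [hfE, hE, hE, hfE]; exact hcomm (E x)
  · rw [← hdet, ← LinearMap.det_conj f' E.symm]; rfl
  · intro hsq
    refine hns ?_
    rw [← LinearMap.det_conj ((2 : F)⁻¹ • (1 + f')) E.symm]
    convert hsq using 2
    refine LinearMap.ext fun x => ?_
    simp [f]

/-- Extension by the identity. -/
theorem exists_centralizing {V : Type*} [AddCommGroup V] [Module F V] [FiniteDimensional F V]
    {Q : QuadraticForm F V} (hQ : (QuadraticMap.polarBilin Q).Nondegenerate) (h2 : (2 : F) ≠ 0)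
    {θ : CfsgLib.Quad.oGroup Q →* ℤˣ}
    (hθ : ∀ v, Q v ≠ 0 → (θ (CfsgLib.Quad.refl Q v) = 1 ↔ IsSquare (Q v))) {T : V →ₗ[F] V}
    (hT : IsIsom (QuadraticMap.polarBilin Q) T) {j : ℕ} (hj : Odd j) (hl : layer (resT T rest_inv) j ≠ 1) :
    ∃ h : CfsgLib.Quad.oGroup Q, (∀ x, h.1 (T x) = T (h.1 x)) ∧ CfsgLib.Quad.detO Q h = 1 ∧ θ h = -1 := by
  classical
  have hB : IsForm (1 : F) (QuadraticMap.polarBilin Q) := ⟨one_mul 1,
    fun x y => by rw [one_mul]; exact QuadraticMap.polar_comm _ _ _, fun x hx => hQ.1 x hx⟩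
  obtain ⟨-, -, fr⟩ := isForm_parts h2 hB hT
  obtain ⟨f, hf, hfc, hfd, hfn⟩ := exists_iso_of_odd_layer fr (isIsom_res hT rest_inv) (rest_no_eigen (T := T)) h2 hj hl
  set K := LinearMap.ker ((T * T - 1) ^ finrank F V)
  let Φ := Submodule.prodEquivOfIsCompl K (rest T) isCompl_rest
  let g := (Φ.toLinearMap).comp ((LinearMap.id.prodMap f).comp Φ.symm.toLinearMap)
  have hKi : ∀ x ∈ K, T x ∈ K := fun x hx => by
    have hc : Commute T ((T * T - 1) ^ finrank F V) :=
      (((Commute.refl T).mul_right (Commute.refl T)).sub_right (Commute.one_right T)).pow_right _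
    rw [LinearMap.mem_ker, ← Module.End.mul_apply, ← hc.eq, Module.End.mul_apply, LinearMap.mem_ker.1 hx, map_zero]
  have horth : ∀ x ∈ K, ∀ y ∈ rest T, QuadraticMap.polarBilin Q x y = 0 := fun x hx y hy => by
    rw [show K = part T 1 ⊔ part T (-1) from ker_sq_pow h2] at hx
    obtain ⟨a, ha, b, hb, rfl⟩ := Submodule.mem_sup.1 hx
    rw [map_add, LinearMap.add_apply, part_orth_rest hT (Or.inl rfl) ha hy, part_orth_rest hT (Or.inr rfl) hb hy,
      add_zero]
  have horth' : ∀ x ∈ K, ∀ y ∈ rest T, QuadraticMap.polarBilin Q y x = 0 := fun x hx y hy => by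
    rw [hB.swap x y, horth x hx y hy, mul_zero]
  have hg : ∀ (a : K) (b : rest T), g ((a : V) + b) = (a : V) + f b := fun a b => by
    have h1 : Φ.symm ((a : V) + b) = (a, b) := Φ.injective (by rw [LinearEquiv.apply_symm_apply]; rfl)
    show Φ ((LinearMap.id.prodMap f) (Φ.symm ((a : V) + b))) = _
    rw [h1]; rfl
  have hsplit : ∀ x : V, ∃ (a : K) (b : rest T), x = (a : V) + b := fun x =>
    ⟨(Φ.symm x).1, (Φ.symm x).2, (Φ.apply_symm_apply x).symm⟩
  have hgB : IsIsom (QuadraticMap.polarBilin Q) g := fun x y => by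
    obtain ⟨a, b, rfl⟩ := hsplit x
    obtain ⟨c, d, rfl⟩ := hsplit y
    rw [hg, hg]
    have h3 : QuadraticMap.polarBilin Q (f b : V) (f d : V) = QuadraticMap.polarBilin Q (b : V) (d : V) := hf b d
    simp only [map_add, LinearMap.add_apply, horth a a.2 _ (f d).2, horth a a.2 _ d.2, horth' c c.2 _ (f b).2,
      horth' c c.2 _ b.2, h3]
  have hgQ : ∀ x, Q (g x) = Q x := fun x => by
    have h3 := hgB x x
    rw [QuadraticMap.polarBilin_apply_apply, QuadraticMap.polarBilin_apply_apply, QuadraticMap.polar_self,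
      QuadraticMap.polar_self] at h3
    simp only [nsmul_eq_mul, Nat.cast_ofNat] at h3
    exact mul_left_cancel₀ h2 h3
  let h : CfsgLib.Quad.oGroup Q := ⟨LinearEquiv.ofInjectiveEndo g (hgB.injective hB), hgQ⟩
  have hdet : LinearMap.det g = 1 := by
    rw [show g = Φ.toLinearMap ∘ₗ (LinearMap.id.prodMap f) ∘ₗ Φ.symm.toLinearMap from rfl, LinearMap.det_conj,
      LinearMap.det_prodMap, LinearMap.det_id, one_mul, hfd]
  have hhalf : (2 : F)⁻¹ • (1 + g) =
      Φ.toLinearMap ∘ₗ (LinearMap.id.prodMap ((2 : F)⁻¹ • (1 + f))) ∘ₗ Φ.symm.toLinearMap := by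
    refine LinearMap.ext fun x => ?_
    obtain ⟨a, b, rfl⟩ := hsplit x
    have h1 : Φ.symm ((a : V) + b) = (a, b) := Φ.injective (by rw [LinearEquiv.apply_symm_apply]; rfl)
    show (2 : F)⁻¹ • ((a : V) + b + g ((a : V) + b)) = Φ (_ : K × rest T)
    rw [hg, LinearMap.comp_apply, LinearEquiv.coe_coe, h1]
    show (2 : F)⁻¹ • ((a : V) + b + ((a : V) + f b)) = (a : V) + ((((2 : F)⁻¹ • (1 + f)) b : rest T) : V)
    simp only [LinearMap.smul_apply, LinearMap.add_apply, Module.End.one_apply, Submodule.coe_smul, Submodule.coe_add]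
    match_scalars <;> field_simp <;> norm_num
  have hdhalf : LinearMap.det ((2 : F)⁻¹ • (1 + g)) = LinearMap.det ((2 : F)⁻¹ • (1 + f)) := by
    rw [hhalf, LinearMap.det_conj, LinearMap.det_prodMap, LinearMap.det_id, one_mul]
  refine ⟨h, fun x => ?_, Units.ext ?_, ?_⟩
  · show g (T x) = T (g x)
    obtain ⟨a, b, rfl⟩ := hsplit x
    rw [map_add, hg]
    have e1 : g (T (a : V) + T (b : V)) = T (a : V) + f ⟨T b, rest_inv _ b.2⟩ := hg ⟨T a, hKi _ a.2⟩ ⟨T b, rest_inv _ b.2⟩
    have e2 : f ⟨T b, rest_inv _ b.2⟩ = resT T rest_inv (f b) := hfc b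
    rw [e1, e2, map_add]; rfl
  · rw [CfsgLib.Quad.detO_val]; exact hdet
  · have hne1 : ∀ x, h.1 x = -x → x = 0 := fun x hx => by
      by_contra hx0
      refine hfn (?_ : IsSquare (LinearMap.det ((2 : F)⁻¹ • (1 + f))))
      suffices h0 : LinearMap.det ((2 : F)⁻¹ • (1 + g)) = 0 by rw [← hdhalf, h0]; exact IsSquare.zero
      rw [LinearMap.det_eq_zero_iff_ker_ne_bot]
      intro hk
      refine hx0 (LinearMap.ker_eq_bot'.1 hk x ?_)
      show (2 : F)⁻¹ • (x + h.1 x) = 0
      rw [hx, add_neg_cancel, smul_zero]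
    have hs := spinor_eq hQ h2 hθ h hne1
    rcases Int.units_eq_one_or (θ h) with h1 | h1
    · exfalso
      refine hfn ?_
      rw [h1, Units.val_one] at hs
      have hz : LinearMap.det ((2 : F)⁻¹ • (1 + f)) ≠ 0 := fun h0 => hfn (h0 ▸ IsSquare.zero)
      rw [← hdhalf] at hz ⊢
      exact (quadraticChar_one_iff_isSquare hz).1 hs.symm
    · exact h1

end CfsgLib.Geo.FormClasses
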