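import Cfsg.Agent.Geo.FormClasses.Disc

/-!
# The part without eigenvalues `1` and `-1`

Its invariants are the layer polynomials of the elementary divisors: monic, self-dual, without roots `1`, `-1`.
-/

set_option autoImplicit false
set_option linter.style.haveILetI false
set_option linter.unusedSectionVars false

namespace CfsgLib.Geo.FormClasses

open Matrix Module Polynomial CfsgLib.GLClass CfsgLib.Geo.USemi

variable {F : Type*} [Field F] [Fintype F]

/-- A self-dual monic polynomial without roots `1` and `-1`. -/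
structure IsLayer (f : F[X]) : Prop where
  monic : f.Monic
  zero : f.coeff 0 = 1
  dual : ∀ k ≤ f.natDegree, f.coeff k = f.coeff (f.natDegree - k)
  one : f.eval 1 ≠ 0
  neg : f.eval (-1) ≠ 0
  even : Even f.natDegree

theorem eval_neg_one_sym {f : F[X]} {d : ℕ} (hd : f.natDegree = d)
    (h : ∀ k ≤ d, f.coeff k = f.coeff (d - k)) : f.eval (-1) = (-1 : F) ^ d * f.eval (-1) := by
  rw [eval_eq_sum_range, hd, Finset.mul_sum]
  conv_lhs => rw [← Finset.sum_range_reflect]
  refine Finset.sum_congr rfl fun k hk => ?_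
  have hk' : k ≤ d := Nat.le_of_lt_succ (Finset.mem_range.1 hk)
  rw [show d + 1 - 1 - k = d - k by omega, ← h k hk']
  have h1 : (-1 : F) ^ k * (-1) ^ k = 1 := by rw [← mul_pow, neg_one_mul, neg_neg, one_pow]
  have h2 : (-1 : F) ^ (d - k) * (-1) ^ k = (-1) ^ d := by rw [← pow_add, Nat.sub_add_cancel hk']
  rw [← h2]
  linear_combination (-(f.coeff k * (-1) ^ (d - k))) * h1

theorem isLayer_of_dual (h2 : (2 : F) ≠ 0) {f : F[X]} (hm : f.Monic) (h0 : f.coeff 0 ≠ 0)
    (hd : dual (RingHom.id F) f = f) (h1 : f.eval 1 ≠ 0) (hn : f.eval (-1) ≠ 0) : IsLayer f := by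
  have hc : ∀ k ≤ f.natDegree, f.coeff k = (f.coeff 0)⁻¹ * f.coeff (f.natDegree - k) := fun k hk => by
    conv_lhs => rw [← hd]
    rw [coeff_dual _ hk]
    simp
  have he : f.eval 1 = (f.coeff 0)⁻¹ * f.eval 1 := by
    rw [eval_eq_sum_range, Finset.mul_sum]
    conv_rhs => rw [← Finset.sum_range_reflect]
    refine Finset.sum_congr rfl fun k hk => ?_
    have hk' : k ≤ f.natDegree := Nat.le_of_lt_succ (Finset.mem_range.1 hk)
    rw [one_pow, one_pow, mul_one, mul_one, show f.natDegree + 1 - 1 - k = f.natDegree - k by omega]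
    exact hc k hk'
  have hzero : f.coeff 0 = 1 := by
    have h3 : (f.coeff 0)⁻¹ = 1 := by
      have h4 : ((f.coeff 0)⁻¹ - 1) * f.eval 1 = 0 := by linear_combination -he
      exact sub_eq_zero.1 ((mul_eq_zero.1 h4).resolve_right h1)
    rw [← inv_inv (f.coeff 0), h3, inv_one]
  have hsym : ∀ k ≤ f.natDegree, f.coeff k = f.coeff (f.natDegree - k) := fun k hk => by
    rw [hc k hk, hzero, inv_one, one_mul]
  refine ⟨hm, hzero, hsym, h1, hn, ?_⟩
  rcases Nat.even_or_odd f.natDegree with h | h
  · exact h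
  · have h3 := eval_neg_one_sym rfl hsym
    rw [h.neg_one_pow, neg_one_mul] at h3
    exact absurd ((mul_eq_zero.1 (show (2 : F) * f.eval (-1) = 0 by linear_combination h3)).resolve_left h2) hn

variable [DecidableEq F] {V : Type*} [AddCommGroup V] [Module F V] [FiniteDimensional F V]
  {B : LinearMap.BilinForm F V} {T : V →ₗ[F] V}

/-- The matrix of a map in the standard basis. -/
noncomputable def matOf (T : V →ₗ[F] V) : Matrix (Fin (finrank F V)) (Fin (finrank F V)) F :=
  LinearMap.toMatrix (Module.finBasis F V) (Module.finBasis F V) T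

/-- The layer polynomials. -/
noncomputable def layer (T : V →ₗ[F] V) (j : ℕ) : F[X] := polys (elemDiv (matOf T)) j

theorem equiv_of_layers {V' : Type*} [AddCommGroup V'] [Module F V'] [FiniteDimensional F V'] {T' : V' →ₗ[F] V'}
    (hV : finrank F V = finrank F V') (h : ∀ j, layer T j = layer T' j) :
    ∃ e : V ≃ₗ[F] V', ∀ x, e (T x) = T' (e x) := by
  set b := Module.finBasis F V
  set b' := (Module.finBasis F V').reindex (finCongr hV.symm) with hb'
  set A' := LinearMap.toMatrix b' b' T'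
  have hA' : elemDiv A' = elemDiv (matOf T') := by
    have : ∀ {n m : ℕ} (e : n = m) (M : Matrix (Fin n) (Fin n) F),
        elemDiv (M.submatrix (finCongr e.symm) (finCongr e.symm)) = elemDiv M := by
      rintro n m rfl M; simp
    refine Eq.trans (congrArg elemDiv ?_) (this hV.symm (matOf T'))
    funext i j
    simp [A', hb', matOf, LinearMap.toMatrix_apply]
  have heq : elemDiv (matOf T) = elemDiv A' := by
    rw [hA']
    exact eq_of_polys_eq (fun x hx => ⟨(elemDiv_spec _ hx).1, (elemDiv_spec _ hx).2.1⟩)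
      (fun x hx => ⟨(elemDiv_spec _ hx).1, (elemDiv_spec _ hx).2.1⟩) fun x _ => h x.2
  obtain ⟨P, hP⟩ := exists_conj_of_elemDiv_eq heq
  let eP : (Fin (finrank F V) → F) ≃ₗ[F] (Fin (finrank F V) → F) :=
    Matrix.toLin'OfInv (M := (P⁻¹).val) (M' := P.val) (Units.inv_mul P) (Units.mul_inv P)
  refine ⟨(b.equivFun.trans eP).trans b'.equivFun.symm, fun x => ?_⟩
  simp only [LinearEquiv.trans_apply]
  rw [LinearEquiv.symm_apply_eq]
  have h1 : ∀ (z : V'), b'.equivFun (T' z) = A' *ᵥ b'.equivFun z := fun z => by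
    rw [Module.Basis.equivFun_apply, Module.Basis.equivFun_apply, LinearMap.toMatrix_mulVec_repr]
  have h2 : b.equivFun (T x) = matOf T *ᵥ b.equivFun x := by
    rw [Module.Basis.equivFun_apply, Module.Basis.equivFun_apply]
    exact (LinearMap.toMatrix_mulVec_repr b b T x).symm
  rw [h1, LinearEquiv.apply_symm_apply, h2]
  show P.val *ᵥ (matOf T *ᵥ b.equivFun x) = A' *ᵥ (P.val *ᵥ b.equivFun x)
  rw [mulVec_mulVec, mulVec_mulVec, hP]

/-- The product of the divisors by layers. -/
theorem prod_layers {J : ℕ} (hJ : finrank F V ≤ J) :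
    ((elemDiv (matOf T)).map fun x => x.1 ^ x.2).prod =
      ∏ i : Fin J, layer T ((i : ℕ) + 1) ^ ((i : ℕ) + 1) := by
  have key : ∀ D : Multiset (F[X] × ℕ), (∀ x ∈ D, 0 < x.2 ∧ x.2 ≤ J) →
      (D.map fun x => x.1 ^ x.2).prod = ∏ i : Fin J, polys D ((i : ℕ) + 1) ^ ((i : ℕ) + 1) := by
    intro D hD
    induction D using Multiset.induction_on with
    | empty => simp [polys]
    | cons a D ih =>
      obtain ⟨ha, ha'⟩ := hD a (Multiset.mem_cons_self a D)
      rw [Multiset.map_cons, Multiset.prod_cons, ih fun x hx => hD x (Multiset.mem_cons_of_mem hx)]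
      have hstep : ∀ i : Fin J, polys (a ::ₘ D) ((i : ℕ) + 1) ^ ((i : ℕ) + 1) =
          (if i = ⟨a.2 - 1, by omega⟩ then a.1 ^ a.2 else 1) * polys D ((i : ℕ) + 1) ^ ((i : ℕ) + 1) := by
        intro i
        rw [polys, Multiset.filter_cons]
        by_cases hi : a.2 = (i : ℕ) + 1
        · rw [if_pos hi, if_pos (Fin.ext (show (i : ℕ) = a.2 - 1 by omega))]
          simp [polys, mul_pow, hi]
        · rw [if_neg hi, if_neg (fun e => hi (by have := congrArg Fin.val e; simp only at this; omega))]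
          simp [polys]
      rw [Finset.prod_congr rfl fun i _ => hstep i, Finset.prod_mul_distrib, Finset.prod_ite_eq',
        if_pos (Finset.mem_univ _)]
  exact key _ fun x hx => ⟨(elemDiv_spec _ hx).2.2, (exp_le _ hx).trans hJ⟩

theorem charpoly_eq_layers {J : ℕ} (hJ : finrank F V ≤ J) (h0 : (matOf T).det ≠ 0) :
    (matOf T).charpoly = ∏ i : Fin J, layer T ((i : ℕ) + 1) ^ ((i : ℕ) + 1) := by
  rw [← prod_layers hJ]
  exact charpoly_eq_prod_elemDiv (Matrix.GeneralLinearGroup.mkOfDetNeZero (matOf T) h0)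

theorem layer_of_lt {j : ℕ} (hj : finrank F V < j) : layer T j = 1 := by
  rw [layer, polys, Multiset.filter_eq_nil.2 fun x hx h => absurd (exp_le _ hx) (by omega),
    Multiset.map_zero, Multiset.prod_zero]

variable (hB : IsForm (1 : F) B) (hT : IsIsom B T)
include hB hT

theorem gram_transpose_eq :
    (LinearMap.BilinForm.toMatrix (Module.finBasis F V) B)ᵀ = LinearMap.BilinForm.toMatrix (Module.finBasis F V) B := by
  funext i j
  rw [Matrix.transpose_apply, LinearMap.BilinForm.toMatrix_apply, LinearMap.BilinForm.toMatrix_apply,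
    hB.swap, one_mul]

theorem gram_det_ne : (LinearMap.BilinForm.toMatrix (Module.finBasis F V) B).det ≠ 0 :=
  (LinearMap.BilinForm.nondegenerate_iff_det_ne_zero (Module.finBasis F V)).1 hB.nondeg

theorem gram_invariant :
    (matOf T)ᵀ * LinearMap.BilinForm.toMatrix (Module.finBasis F V) B * matOf T =
      LinearMap.BilinForm.toMatrix (Module.finBasis F V) B := by
  have h := LinearMap.BilinForm.toMatrix_comp (Module.finBasis F V) (Module.finBasis F V) B T T
  rw [show B.comp T T = B from LinearMap.ext fun x => LinearMap.ext fun y => hT x y] at h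
  exact h.symm

theorem det_matOf_ne : (matOf T).det ≠ 0 := by
  have h := congrArg Matrix.det (gram_invariant hB hT)
  intro h0
  rw [Matrix.det_mul, h0, mul_zero] at h
  exact gram_det_ne hB hT h.symm

theorem elemDiv_dual :
    (elemDiv (matOf T)).map (fun x => (dual (RingHom.id F) x.1, x.2)) = elemDiv (matOf T) := by
  let g : GL (Fin (finrank F V)) F := Matrix.GeneralLinearGroup.mkOfDetNeZero (matOf T) (det_matOf_ne hB hT)
  let M : GL (Fin (finrank F V)) F :=
    Matrix.GeneralLinearGroup.mkOfDetNeZero (LinearMap.BilinForm.toMatrix (Module.finBasis F V) B) (gram_det_ne hB hT)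
  have hstar : IsConj g (star' (RingHom.id F) g) := by
    refine isConj_iff.2 ⟨M, Units.ext ?_⟩
    rw [star'_val]
    refine (Matrix.inv_eq_left_inv ?_).symm
    show (M.val * g.val * (M⁻¹).val) * CfsgLib.Unitary.adj (RingHom.id F) g.val = 1
    rw [mul_eq_one_comm]
    have h1 : g.valᵀ * M.val * g.val = M.val := gram_invariant hB hT
    rw [CfsgLib.Unitary.adj, RingHom.coe_id, Matrix.map_id, ← mul_assoc, ← mul_assoc, h1, Units.mul_inv]
  have h := elemDiv_star' (σ := RingHom.id F) (fun _ => rfl) g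
  rw [← elemDiv_eq_of_isConj hstar] at h
  exact h.symm

variable (hne : ∀ x, T (T x) = x → x = 0) (h2 : (2 : F) ≠ 0)
include hne h2

theorem eval_ne (ε : F) (hε : ε = 1 ∨ ε = -1) : (matOf T).charpoly.eval ε ≠ 0 := by
  rw [Matrix.eval_charpoly]
  intro h0
  obtain ⟨v, hv0, hv⟩ := Matrix.exists_mulVec_eq_zero_iff.2 h0
  set b := Module.finBasis F V
  refine hv0 ?_
  have hTv : matOf T *ᵥ v = ε • v := by
    rw [Matrix.sub_mulVec, sub_eq_zero] at hv
    rw [← hv, Matrix.scalar_apply]
    funext i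
    rw [Matrix.mulVec_diagonal]
    rfl
  have hx : T (b.equivFun.symm v) = ε • b.equivFun.symm v := by
    apply b.equivFun.injective
    rw [map_smul, LinearEquiv.apply_symm_apply, ← hTv, Module.Basis.equivFun_apply,
      ← LinearMap.toMatrix_mulVec_repr b b T, ← Module.Basis.equivFun_apply, LinearEquiv.apply_symm_apply]
    rfl
  have hεε : ε * ε = 1 := by rcases hε with rfl | rfl <;> simp
  have h3 := hne (b.equivFun.symm v) (by rw [hx, map_smul, hx, smul_smul, hεε, one_smul])
  exact b.equivFun.symm.map_eq_zero_iff.1 h3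

theorem isLayer_layer (j : ℕ) : IsLayer (layer T j) := by
  have hmem : ∀ x ∈ elemDiv (matOf T), x.1.Monic ∧ x.1.coeff 0 ≠ 0 ∧
      (∀ ε : F, ε = 1 ∨ ε = -1 → x.1.eval ε ≠ 0) := by
    intro x hx
    have hdvd := dvd_charpoly_of_mem hx
    refine ⟨(elemDiv_spec _ hx).1, coeff_zero_ne_of_dvd hdvd ?_, fun ε hε h0 => ?_⟩
    · intro h0
      apply det_matOf_ne hB hT
      rw [Matrix.det_eq_sign_charpoly_coeff, h0, mul_zero]
    · obtain ⟨k, hk⟩ := hdvd
      apply eval_ne hB hT hne h2 ε hε
      rw [hk, eval_mul, h0, zero_mul]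
  have heval : ∀ ε : F, ε = 1 ∨ ε = -1 → (layer T j).eval ε ≠ 0 := by
    intro ε hε
    rw [layer, polys, eval_multiset_prod]
    refine Multiset.prod_ne_zero fun h0 => ?_
    obtain ⟨f, hf, hf0⟩ := Multiset.mem_map.1 h0
    obtain ⟨x, hx, rfl⟩ := Multiset.mem_map.1 hf
    exact (hmem x (Multiset.mem_of_mem_filter hx)).2.2 ε hε hf0
  refine isLayer_of_dual h2 (polys_monic (fun x hx => (hmem x hx).1) j) ?_ ?_ (heval 1 (Or.inl rfl))
    (heval (-1) (Or.inr rfl))
  · rw [layer, polys, coeff_zero_eq_eval_zero, eval_multiset_prod]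
    refine Multiset.prod_ne_zero fun h0 => ?_
    obtain ⟨f, hf, hf0⟩ := Multiset.mem_map.1 h0
    obtain ⟨x, hx, rfl⟩ := Multiset.mem_map.1 hf
    rw [← coeff_zero_eq_eval_zero] at hf0
    exact (hmem x (Multiset.mem_of_mem_filter hx)).2.1 hf0
  · rw [layer, polys, dual_prod, Multiset.map_map]
    conv_rhs => rw [← elemDiv_dual hB hT, Multiset.filter_map, Multiset.map_map]
    rfl

omit hne h2 in
theorem layer_zero : layer T 0 = 1 := by
  rw [layer, polys, Multiset.filter_eq_nil.2 fun x hx h => absurd (elemDiv_spec _ hx).2.2 (by omega),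
    Multiset.map_zero, Multiset.prod_zero]

omit hB hT hne h2 in
theorem sum_layers {J : ℕ} (hJ : finrank F V ≤ J) :
    ∑ i : Fin J, ((i : ℕ) + 1) * (layer T ((i : ℕ) + 1)).natDegree = finrank F V := by
  unfold layer
  rw [sum_polys _ fun x hx => ⟨(elemDiv_spec _ hx).1, (elemDiv_spec _ hx).2.2, (exp_le _ hx).trans hJ⟩, sum_elemDiv]

theorem charpoly_props : (matOf T).charpoly.coeff 0 = 1 ∧ Even (finrank F V) := by
  let g : GL (Fin (finrank F V)) F := Matrix.GeneralLinearGroup.mkOfDetNeZero (matOf T) (det_matOf_ne hB hT)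
  have hch : (matOf T).charpoly = ((elemDiv (matOf T)).map fun x => x.1 ^ x.2).prod := charpoly_eq_prod_elemDiv g
  have hprod : ((elemDiv (matOf T)).map fun x => x.1 ^ x.2).prod =
      ∏ i : Fin (finrank F V), layer T ((i : ℕ) + 1) ^ ((i : ℕ) + 1) := prod_layers le_rfl
  refine ⟨?_, ?_⟩
  · rw [hch, hprod, coeff_zero_eq_eval_zero, eval_prod]
    refine Finset.prod_eq_one fun i _ => ?_
    rw [eval_pow, ← coeff_zero_eq_eval_zero, (isLayer_layer hB hT hne h2 _).zero, one_pow]
  · rw [← sum_layers (T := T) le_rfl]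
    exact Finset.even_sum _ fun i _ => (isLayer_layer hB hT hne h2 _).even.mul_left _

theorem disc_rest : disc B = quadraticChar F
    ((matOf T).charpoly.eval 1 * (matOf T).charpoly.eval (-1)) := by
  obtain ⟨hc0, hev⟩ := charpoly_props hB hT hne h2
  set A := matOf T with hA
  set M := LinearMap.BilinForm.toMatrix (Module.finBasis F V) B with hM
  have hsym : Mᵀ = M := gram_transpose_eq hB hT
  have hinv : Aᵀ * M * A = M := gram_invariant hB hT
  have hdetA : A.det = 1 := by
    rw [Matrix.det_eq_sign_charpoly_coeff, hc0, mul_one, Fintype.card_fin, hev.neg_one_pow]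
  let K := M * A - (M * A)ᵀ
  have hKA : K * A = M * (A * A - 1) := by
    simp only [K, Matrix.transpose_mul, hsym, sub_mul, mul_sub, mul_one, mul_assoc]
    rw [← mul_assoc Aᵀ, hinv]
  have hd1 : (A * A - 1).det = A.charpoly.eval 1 * A.charpoly.eval (-1) := by
    rw [show A * A - 1 = (Matrix.scalar _ (1 : F) - A) * (Matrix.scalar _ (-1 : F) - A) by
      simp only [map_one, map_neg, sub_mul, mul_sub, mul_neg, neg_mul, one_mul, mul_one]; abel,
      Matrix.det_mul, Matrix.eval_charpoly, Matrix.eval_charpoly]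
  have hKdet : K.det = M.det * (A.charpoly.eval 1 * A.charpoly.eval (-1)) := by
    have := congrArg Matrix.det hKA
    rwa [Matrix.det_mul, Matrix.det_mul, hdetA, mul_one, hd1] at this
  have hne0 : A.charpoly.eval 1 * A.charpoly.eval (-1) ≠ 0 :=
    mul_ne_zero (eval_ne hB hT hne h2 1 (Or.inl rfl)) (eval_ne hB hT hne h2 (-1) (Or.inr rfl))
  obtain ⟨t, ht, htK, -⟩ := det_skew_isSquare h2 (K := K) (by simp [K]) (by
    rw [hKdet]; exact mul_ne_zero (gram_det_ne hB hT) hne0)
  show quadraticChar F M.det = _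
  have h3 : quadraticChar F M.det * quadraticChar F (A.charpoly.eval 1 * A.charpoly.eval (-1)) = 1 := by
    rw [← map_mul, ← hKdet, htK, quadraticChar_sq_one' ht]
  have hsq : quadraticChar F (A.charpoly.eval 1 * A.charpoly.eval (-1)) ^ 2 = 1 := quadraticChar_sq_one hne0
  linear_combination quadraticChar F (A.charpoly.eval 1 * A.charpoly.eval (-1)) * h3 - quadraticChar F M.det * hsq

end CfsgLib.Geo.FormClasses
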