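import Cfsg.Agent.Geo.FormClasses.PrimaryRing
import Cfsg.Agent.Geo.FormClasses.RestDiv

/-!
# A model with a diagonal centralising isometry

For a self-dual family of divisors without roots `1`, `-1` a symmetric invariant form on the product of
cyclic modules, and, when one exponent is odd, a diagonal isometry with non-square `det ((1 + h) / 2)`.
-/

set_option autoImplicit false
set_option linter.style.haveILetI false
set_option linter.unusedSectionVars false

namespace CfsgLib.Geo.FormClasses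

open Polynomial Module CfsgLib.GLClass CfsgLib.Geo.USemi Matrix

variable {F : Type*} [Field F] [Fintype F]

theorem det_piComponents {ι : Type*} [Fintype ι] [DecidableEq ι] {M : ι → Type*} [∀ i, AddCommGroup (M i)]
    [∀ i, Module F (M i)] [∀ i, FiniteDimensional F (M i)] (f : ∀ i, M i →ₗ[F] M i) :
    LinearMap.det (LinearMap.pi fun i => (f i).comp (LinearMap.proj i)) = ∏ i, LinearMap.det (f i) := by
  classical
  let e := Fintype.equivFin ι
  let b := Pi.basis fun i => Module.finBasis F (M i)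
  rw [← LinearMap.det_toMatrix b]
  have hM : ∀ x y, LinearMap.toMatrix b b (LinearMap.pi fun i => (f i).comp (LinearMap.proj i)) x y =
      if h : y.1 = x.1 then LinearMap.toMatrix (Module.finBasis F (M x.1)) (Module.finBasis F (M x.1)) (f x.1) x.2
        (h ▸ y.2) else 0 := by
    rintro ⟨i, a⟩ ⟨j, c⟩
    rw [LinearMap.toMatrix_apply]
    simp only [b, Pi.basis_repr, Pi.basis_apply, LinearMap.pi_apply, LinearMap.comp_apply, LinearMap.proj_apply]
    by_cases hij : j = i
    · subst hij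
      rw [Pi.single_eq_same, dif_pos rfl, LinearMap.toMatrix_apply]
    · rw [Pi.single_eq_of_ne (Ne.symm hij), dif_neg hij, map_zero, map_zero]
      rfl
  have hbt : Matrix.BlockTriangular (LinearMap.toMatrix b b (LinearMap.pi fun i => (f i).comp (LinearMap.proj i)))
      (fun x => e x.1) := fun x y hxy => by
    rw [hM, dif_neg fun h => (ne_of_lt hxy) (congrArg e h)]
  rw [hbt.det_fintype, ← e.prod_comp]
  refine Finset.prod_congr rfl fun i _ => ?_
  rw [← LinearMap.det_toMatrix (Module.finBasis F (M i))]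
  let g : Fin (finrank F (M i)) ≃ {x : Σ j, Fin (finrank F (M j)) // e x.1 = e i} :=
    ((Equiv.sigmaSubtype (β := fun j => Fin (finrank F (M j))) i).symm).trans (Equiv.subtypeEquivRight fun x => e.injective.eq_iff.symm)
  rw [← Matrix.det_submatrix_equiv_self g]
  congr 1
  funext a c
  show LinearMap.toMatrix b b _ ((⟨i, a⟩ : Σ j, Fin (finrank F (M j)))) ⟨i, c⟩ = _
  rw [hM, dif_pos rfl]

variable {N : ℕ} {p : Fin N → F[X]} {e : Fin N → ℕ}

/-- A self-dual family of divisors. -/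
structure DualFam (p : Fin N → F[X]) (e : Fin N → ℕ) (σ : Fin N → Fin N) : Prop where
  irr : ∀ i, Irreducible (p i)
  pos : ∀ i, 0 < e i
  c0 : ∀ i, (p i).coeff 0 ≠ 0
  inv : ∀ i, σ (σ i) = i
  poly : ∀ i, p (σ i) = dual (RingHom.id F) (p i)
  expo : ∀ i, e (σ i) = e i
  ne : ∀ i, ¬ p i ∣ X ^ 2 - 1

theorem exists_involution {ι α : Type*} [Fintype ι] [Fintype α] {t : ι → α} (d : α → α) (hd : ∀ a, d (d a) = a)
    (hcount : ∀ a, Nat.card {i // t i = a} = Nat.card {i // t i = d a}) :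
    ∃ σ : ι → ι, (∀ i, σ (σ i) = i) ∧ (∀ i, t (σ i) = d (t i)) ∧ ∀ i, d (t i) = t i → σ i = i := by
  classical
  let key := Fintype.equivFin α
  have he : ∀ a : α, ∃ f : {i // t i = a} → {i // t i = d a}, Function.Bijective f := fun a =>
    ⟨_, (Classical.choice (Finite.card_eq.1 (hcount a))).bijective⟩
  choose f hf using he
  let σ : ι → ι := fun i =>
    if d (t i) = t i then i
    else if key (t i) < key (d (t i)) then (f (t i) ⟨i, rfl⟩).1
    else ((Equiv.ofBijective _ (hf (d (t i)))).symm ⟨i, (hd (t i)).symm⟩).1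
  have ht : ∀ i, t (σ i) = d (t i) := by
    intro i
    simp only [σ]
    split_ifs with h1 h2
    · exact h1.symm
    · exact (f (t i) ⟨i, rfl⟩).2
    · exact ((Equiv.ofBijective _ (hf (d (t i)))).symm ⟨i, (hd (t i)).symm⟩).2
  refine ⟨σ, fun i => ?_, ht, fun i h => if_pos h⟩
  have hfix : d (t (σ i)) = t (σ i) ↔ d (t i) = t i := by rw [ht, hd]; exact eq_comm
  by_cases h1 : d (t i) = t i
  · simp only [σ, if_pos h1]
  have h1' : ¬ d (t (σ i)) = t (σ i) := fun h => h1 (hfix.1 h)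
  by_cases h2 : key (t i) < key (d (t i))
  · have h2' : ¬ key (t (σ i)) < key (d (t (σ i))) := by rw [ht, hd]; exact not_lt.2 h2.le
    have e1 : σ i = (f (t i) ⟨i, rfl⟩).1 := by simp only [σ, if_neg h1, if_pos h2]
    have e2 : σ (σ i) = ((Equiv.ofBijective _ (hf (d (t (σ i))))).symm ⟨σ i, (hd (t (σ i))).symm⟩).1 := by
      conv_lhs => simp only [σ]
      rw [if_neg h1', if_neg h2']
    rw [e2]
    have key2 : ∀ (a : α) (ha : d (t (σ i)) = a) (hi : t i = a),
        ((Equiv.ofBijective _ (hf (d (t (σ i))))).symm ⟨σ i, (hd (t (σ i))).symm⟩).1 =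
          ((Equiv.ofBijective _ (hf a)).symm ⟨σ i, by rw [← ha, hd]⟩).1 := fun a ha _ => by subst ha; rfl
    rw [key2 (t i) (by rw [ht, hd]) rfl]
    have : (Equiv.ofBijective _ (hf (t i))) ⟨i, rfl⟩ = ⟨σ i, by rw [ht]⟩ := Subtype.ext e1.symm
    rw [← this, Equiv.symm_apply_apply]
  · have hne : key (t i) ≠ key (d (t i)) := fun h => h1 (key.injective h).symm
    have h2' : key (t (σ i)) < key (d (t (σ i))) := by
      rw [ht, hd]; exact lt_of_le_of_ne (not_lt.1 h2) (Ne.symm hne)
    set j := (Equiv.ofBijective _ (hf (d (t i)))).symm ⟨i, (hd (t i)).symm⟩ with hj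
    have e1 : σ i = j.1 := by simp only [σ, if_neg h1, if_neg h2, hj]
    have e2 : σ (σ i) = (f (t (σ i)) ⟨σ i, rfl⟩).1 := by
      conv_lhs => simp only [σ]
      rw [if_neg h1', if_pos h2']
    rw [e2]
    have key2 : ∀ (a : α) (ha : t (σ i) = a), (f (t (σ i)) ⟨σ i, rfl⟩).1 = (f a ⟨σ i, ha⟩).1 := fun a ha => by
      subst ha; rfl
    rw [key2 (d (t i)) (ht i), show (⟨σ i, ht i⟩ : {k // t k = d (t i)}) = j from Subtype.ext e1]
    exact congrArg Subtype.val ((Equiv.ofBijective _ (hf (d (t i)))).apply_symm_apply ⟨i, (hd (t i)).symm⟩)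

/-- The cyclic algebras. -/
abbrev Cyc (p : Fin N → F[X]) (e : Fin N → ℕ) (i : Fin N) : Type _ := AdjoinRoot (p i ^ e i)

theorem fun_dual {σ : Fin N → Fin N} (h : DualFam p e σ) {i k : Fin N} (hik : σ i = k) :
    p k ^ e k = dual (RingHom.id F) (p i ^ e i) := by
  subst hik; rw [dual_pow, h.poly, h.expo]

theorem c0_pow {σ : Fin N → Fin N} (h : DualFam p e σ) (i : Fin N) : (p i ^ e i).coeff 0 ≠ 0 := by
  rw [coeff_zero_eq_eval_zero, eval_pow, ← coeff_zero_eq_eval_zero]; exact pow_ne_zero _ (h.c0 i)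

/-- The involution from factor `i` to factor `σ i = k`. -/
noncomputable def bb {σ : Fin N → Fin N} (h : DualFam p e σ) {i k : Fin N} (hik : σ i = k) :
    Cyc p e i →ₐ[F] Cyc p e k :=
  bar (fun_dual h hik) (c0_pow h i) (c0_pow h k)

theorem bb_bb {σ : Fin N → Fin N} (h : DualFam p e σ) {i k : Fin N} (hik : σ i = k) (hki : σ k = i)
    (x : Cyc p e i) : bb h hki (bb h hik x) = x :=
  bar_bar (fun_dual h hik) (fun_dual h hki) (c0_pow h i) (c0_pow h k) x

theorem bb_root {σ : Fin N → Fin N} (h : DualFam p e σ) {i k : Fin N} (hik : σ i = k) :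
    bb h hik (AdjoinRoot.root _) * AdjoinRoot.root _ = 1 :=
  bar_root (fun_dual h hik) (c0_pow h i) (c0_pow h k)

theorem norm_bb {σ : Fin N → Fin N} (h : DualFam p e σ) {i k : Fin N} (hik : σ i = k) (hki : σ k = i)
    (x : Cyc p e i) : Algebra.norm F (bb h hik x) = Algebra.norm F x :=
  norm_bar (fun_dual h hik) (fun_dual h hki) (c0_pow h i) (c0_pow h k) x

variable {σ : Fin N → Fin N} (h : DualFam p e σ)
include h

/-- An element killed by the prime. -/
theorem exists_socle (i : Fin N) : ∃ z : Cyc p e i, z ≠ 0 ∧ (∀ x : Cyc p e i, x ≠ 0 → ∃ r, x * r = z) ∧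
    ∀ hi : σ i = i, z + bb h hi z ≠ 0 := by
  obtain ⟨m, hm⟩ : ∃ m, e i = m + 1 := ⟨e i - 1, by have := h.pos i; omega⟩
  have hP := h.irr i
  set z0 : Cyc p e i := AdjoinRoot.mk _ (p i ^ m) with hz0
  have hz0ne : ∀ g : F[X], ¬ p i ∣ g → AdjoinRoot.mk (p i ^ e i) (g * p i ^ m) ≠ 0 := fun g hg hz => by
    rw [AdjoinRoot.mk_eq_zero, hm, pow_succ, mul_comm g] at hz
    exact hg ((mul_dvd_mul_iff_left (pow_ne_zero m hP.ne_zero)).1 hz)
  have hdiv : ∀ (g : F[X]) (x : Cyc p e i), x ≠ 0 → ∃ r, x * r = AdjoinRoot.mk _ (g * p i ^ m) := by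
    intro g x hx
    obtain ⟨u, rfl⟩ := AdjoinRoot.mk_surjective x
    rw [ne_eq, AdjoinRoot.mk_eq_zero] at hx
    have hu0 : u ≠ 0 := fun e => hx (e ▸ dvd_zero _)
    obtain ⟨a, v, hv, rfl⟩ := WfDvdMonoid.max_power_factor hu0 hP
    have ha : a ≤ m := by
      by_contra hc
      exact hx (Dvd.dvd.mul_right (pow_dvd_pow _ (by omega)) v)
    obtain ⟨s, t, hst⟩ := (hP.coprime_iff_not_dvd.2 hv)
    refine ⟨AdjoinRoot.mk _ (p i ^ (m - a) * t * g), ?_⟩
    rw [← map_mul, AdjoinRoot.mk_eq_mk]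
    refine ⟨-(g * s), ?_⟩
    have hpow : p i ^ a * p i ^ (m - a) = p i ^ m := by rw [← pow_add, Nat.add_sub_cancel' ha]
    rw [hm, pow_succ]
    linear_combination (v * t * g) * hpow + (g * p i ^ m) * hst
  by_cases hz : ∀ hi : σ i = i, z0 + bb h hi z0 ≠ 0
  · refine ⟨z0, ?_, fun x hx => ?_, hz⟩
    · have := hz0ne 1 (fun h1 => hP.not_isUnit (isUnit_of_dvd_one h1))
      rwa [one_mul] at this
    · obtain ⟨r, hr⟩ := hdiv 1 x hx
      exact ⟨r, by rw [hr, one_mul]⟩
  · push Not at hz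
    obtain ⟨hi, hz⟩ := hz
    have hX : ¬ p i ∣ (X : F[X]) := fun h1 => h.c0 i (by
      obtain ⟨c, hc⟩ := h1
      have h3 := congrArg (fun f : F[X] => f.coeff 0) hc
      simp only [coeff_X_zero, mul_coeff_zero] at h3
      rcases mul_eq_zero.1 h3.symm with h4 | h4
      · exact h4
      · exfalso
        have h5 : X ∣ c := Polynomial.X_dvd_iff.2 h4
        obtain ⟨c', rfl⟩ := h5
        have h6 : (1 : F[X]) = p i * c' := mul_left_cancel₀ X_ne_zero (by rw [mul_one]; linear_combination hc)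
        exact hP.not_isUnit (IsUnit.of_mul_eq_one _ h6.symm))
    refine ⟨AdjoinRoot.mk _ (X * p i ^ m), hz0ne _ hX, hdiv X, fun _ hzz => ?_⟩
    rw [map_mul, AdjoinRoot.mk_X, ← hz0] at hzz
    rw [map_mul] at hzz
    have h1 := bb_root h hi
    have h3 : (AdjoinRoot.root (p i ^ e i) * AdjoinRoot.root _ - 1) * z0 = 0 := by
      linear_combination AdjoinRoot.root (p i ^ e i) * hzz - (AdjoinRoot.root (p i ^ e i) *
        bb h hi (AdjoinRoot.root (p i ^ e i))) * hz + z0 * h1
    rw [← AdjoinRoot.mk_X, ← map_mul, ← map_one (AdjoinRoot.mk (p i ^ e i)), ← map_sub, hz0, ← map_mul] at h3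
    refine hz0ne (X * X - 1) ?_ h3
    rw [← pow_two]; exact h.ne i

/-- Symmetric functionals which kill no ideal. -/
theorem exists_functionals (h2 : (2 : F) ≠ 0) : ∃ lam : ∀ i, Cyc p e i →ₗ[F] F,
    (∀ i k (hik : σ i = k) (r : Cyc p e i), lam k (bb h hik r) = lam i r) ∧
    ∀ i (x : Cyc p e i), x ≠ 0 → ∃ r, lam i (x * r) ≠ 0 := by
  classical
  choose z hz0 hz1 hz2 using fun i => exists_socle h i
  have hfun : ∀ i, ∀ w : Cyc p e i, w ≠ 0 → ∃ μ : Cyc p e i →ₗ[F] F, μ w = 1 := fun i w hw => by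
    obtain ⟨μ, hμ⟩ := LinearMap.exists_leftInverse_of_injective (LinearMap.toSpanSingleton F (Cyc p e i) w)
      (LinearMap.ker_toSpanSingleton F hw)
    exact ⟨μ, by simpa using congrArg (fun f : F →ₗ[F] F => f 1) hμ⟩
  let w : ∀ i, Cyc p e i := fun i => if hi : σ i = i then z i + bb h hi (z i) else z i
  have hw : ∀ i, w i ≠ 0 := fun i => by
    simp only [w]; split_ifs with hi
    · exact hz2 i hi
    · exact hz0 i
  choose μ0 hμ0 using fun i => hfun i (w i) (hw i)
  let μ : ∀ i, Cyc p e i →ₗ[F] F := fun i => if i ≤ σ i then μ0 i else 0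
  let lam : ∀ i, Cyc p e i →ₗ[F] F := fun i => μ i + (μ (σ i)).comp (bb h (rfl : σ i = σ i)).toLinearMap
  have hsym : ∀ i k (hik : σ i = k) (r : Cyc p e i), lam k (bb h hik r) = lam i r := by
    intro i k hik r
    subst hik
    simp only [lam, LinearMap.add_apply, LinearMap.comp_apply, AlgHom.toLinearMap_apply]
    have key : ∀ j (hj : σ (σ i) = j), μ (σ (σ i)) (bb h (rfl : σ (σ i) = σ (σ i)) (bb h (rfl : σ i = σ i) r)) =
        μ j (bb h hj (bb h (rfl : σ i = σ i) r)) := fun j hj => by subst hj; rfl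
    rw [key i (h.inv i), bb_bb h rfl (h.inv i), add_comm]
  have hle : ∀ i, i ≤ σ i → lam i (z i) ≠ 0 := by
    intro i hi
    simp only [lam, LinearMap.add_apply, LinearMap.comp_apply, AlgHom.toLinearMap_apply]
    rcases hi.lt_or_eq with hlt | heq
    · rw [show μ i = μ0 i from if_pos hlt.le, show μ (σ i) = 0 from if_neg (by rw [h.inv]; exact not_le.2 hlt),
        LinearMap.zero_apply, add_zero, ← (dif_neg hlt.ne' : w i = z i), hμ0]
      exact one_ne_zero
    · have key : ∀ j (hj : σ i = j), μ (σ i) (bb h (rfl : σ i = σ i) (z i)) = μ j (bb h hj (z i)) := fun j hj => by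
        subst hj; rfl
      rw [key i heq.symm, ← map_add, show μ i = μ0 i from if_pos hi, show z i + bb h heq.symm (z i) = w i from
        (dif_pos heq.symm : w i = _).symm, hμ0]
      exact one_ne_zero
  refine ⟨lam, hsym, fun i x hx => ?_⟩
  rcases le_or_gt i (σ i) with hi | hi
  · obtain ⟨r, hr⟩ := hz1 i x hx
    exact ⟨r, by rw [hr]; exact hle i hi⟩
  · have hx' : bb h (rfl : σ i = σ i) x ≠ 0 := fun h0 => hx (by
      have := congrArg (bb h (h.inv i)) h0
      rwa [bb_bb, map_zero] at this)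
    obtain ⟨r, hr⟩ := hz1 (σ i) _ hx'
    refine ⟨bb h (h.inv i) r, ?_⟩
    rw [← hsym i (σ i) rfl, map_mul, bb_bb, hr]
    exact hle _ (by rw [h.inv]; exact hi.le)

omit h in
/-- Reduction kills only non-units. -/
theorem red_root_sq (hne : ∀ i, ¬ p i ∣ X ^ 2 - 1) (hpos : ∀ i, 0 < e i) (i : Fin N) :
    red (p i) (hpos i) (AdjoinRoot.root (p i ^ e i)) * red (p i) (hpos i) (AdjoinRoot.root (p i ^ e i)) ≠ 1 := by
  intro h1
  refine hne i ?_
  rw [← AdjoinRoot.mk_X, red_mk, ← map_mul, ← map_one (AdjoinRoot.mk (p i)), AdjoinRoot.mk_eq_mk] at h1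
  rwa [← pow_two] at h1

theorem isUnit_root_sub (i : Fin N) (hi : σ i = i) :
    IsUnit (AdjoinRoot.root (p i ^ e i) - bb h hi (AdjoinRoot.root (p i ^ e i))) := by
  haveI := Fact.mk (h.irr i)
  rw [isUnit_iff_red (h.irr i) (h.pos i)]
  intro h0
  have h1 := congrArg (red (p i) (h.pos i)) (bb_root h hi)
  rw [map_mul, map_one] at h1
  rw [map_sub, sub_eq_zero] at h0
  rw [← h0] at h1
  exact red_root_sq h.ne h.pos i h1

/-- A fixed element of a self-dual factor has square norm. -/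
theorem norm_fixed (h2 : (2 : F) ≠ 0) {lam : ∀ i, Cyc p e i →ₗ[F] F}
    (hsym : ∀ i k (hik : σ i = k) (r : Cyc p e i), lam k (bb h hik r) = lam i r)
    (hnd : ∀ i (x : Cyc p e i), x ≠ 0 → ∃ r, lam i (x * r) ≠ 0)
    (i : Fin N) (hi : σ i = i) {b : Cyc p e i} (hb : bb h hi b = b) (hbu : IsUnit b) :
    IsSquare (Algebra.norm F b) ∧ IsSquare (Algebra.norm F (2 : Cyc p e i)) := by
  classical
  haveI : FiniteDimensional F (Cyc p e i) := finite_adjoin (pow_ne_zero _ (h.irr i).ne_zero)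
  set bs := Module.finBasis F (Cyc p e i)
  let G : LinearMap.BilinForm F (Cyc p e i) :=
    LinearMap.mk₂ F (fun x y => lam i (x * bb h hi y)) (fun a b c => by rw [add_mul, map_add])
      (fun c a b => by rw [smul_mul_assoc, map_smul]) (fun a b c => by rw [map_add, mul_add, map_add])
      (fun c a b => by rw [map_smul, mul_smul_comm, map_smul])
  have key : ∀ c : Cyc p e i, bb h hi c = -c → IsUnit c →
      ∃ t : F, t ≠ 0 ∧ Algebra.norm F c * (LinearMap.BilinForm.toMatrix bs G).det = t ^ 2 ∧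
        Even (finrank F (Cyc p e i)) := by
    intro c hc hcu
    let K := G.compLeft (LinearMap.mulLeft F c)
    have hK : ∀ x y, K x y = lam i (c * x * bb h hi y) := fun x y => rfl
    have hdet : (LinearMap.BilinForm.toMatrix bs K).det =
        Algebra.norm F c * (LinearMap.BilinForm.toMatrix bs G).det := by
      rw [LinearMap.BilinForm.toMatrix_compLeft, Matrix.det_mul, Matrix.det_transpose, LinearMap.det_toMatrix,
        Algebra.norm_apply]
      rfl
    have hne : (LinearMap.BilinForm.toMatrix bs K).det ≠ 0 := by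
      rw [← LinearMap.BilinForm.nondegenerate_iff_det_ne_zero]
      refine LinearMap.BilinForm.Nondegenerate.ofSeparatingLeft fun x hx => ?_
      by_contra hx0
      obtain ⟨r, hr⟩ := hnd i (c * x) fun h0 => hx0 (hcu.mul_right_eq_zero.1 h0)
      refine hr ?_
      have h1 := hx (bb h hi r)
      rwa [hK, bb_bb] at h1
    have hT : (LinearMap.BilinForm.toMatrix bs K)ᵀ = -LinearMap.BilinForm.toMatrix bs K := by
      funext a b'
      rw [Matrix.transpose_apply, Matrix.neg_apply, LinearMap.BilinForm.toMatrix_apply,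
        LinearMap.BilinForm.toMatrix_apply, hK, hK, ← hsym i i hi, map_mul (bb h hi), map_mul (bb h hi), bb_bb, hc,
        ← map_neg]
      congr 1
      ring
    obtain ⟨t, ht, hdt, hev⟩ := det_skew_isSquare h2 hT hne
    exact ⟨t, ht, by rw [← hdet, hdt], by rwa [Fintype.card_fin] at hev⟩
  have hd : bb h hi (AdjoinRoot.root (p i ^ e i) - bb h hi (AdjoinRoot.root (p i ^ e i))) =
      -(AdjoinRoot.root (p i ^ e i) - bb h hi (AdjoinRoot.root (p i ^ e i))) := by
    rw [map_sub, bb_bb, neg_sub]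
  obtain ⟨t, ht, e1, hev⟩ := key _ hd (isUnit_root_sub h i hi)
  obtain ⟨s, hs, e2, -⟩ := key ((AdjoinRoot.root (p i ^ e i) - bb h hi (AdjoinRoot.root (p i ^ e i))) * b)
    (by rw [map_mul, hd, hb, neg_mul]) ((isUnit_root_sub h i hi).mul hbu)
  refine ⟨⟨s / t, ?_⟩, ?_⟩
  · rw [map_mul] at e2
    field_simp
    linear_combination (-Algebra.norm F b) * e1 + e2
  · rw [show (2 : Cyc p e i) = algebraMap F (Cyc p e i) 2 from (map_ofNat _ 2).symm, Algebra.norm_algebraMap]
    obtain ⟨m, hm⟩ := hev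
    exact ⟨2 ^ m, by rw [hm, pow_add]⟩

/-- A good unit in a self-dual factor of odd exponent. -/
theorem exists_unit_fixed (h2 : (2 : F) ≠ 0) {i : Fin N} (hi : σ i = i) (ho : Odd (e i)) :
    ∃ a : Cyc p e i, IsUnit a ∧ ¬IsSquare (Algebra.norm F a) ∧ IsUnit (a + bb h hi a) := by
  haveI := Fact.mk (h.irr i)
  have hu := isUnit_iff_red (h.irr i) (h.pos i)
  obtain ⟨a, hau, hns⟩ := exists_norm_nonsquare h2 (h.irr i) ho
  by_cases hg : IsUnit (a + bb h hi a)
  · exact ⟨a, hau, hns, hg⟩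
  set R := red (p i) (h.pos i)
  set r := AdjoinRoot.root (p i ^ e i)
  rw [hu, not_not] at hg
  have hne := red_root_sq h.ne h.pos i
  have h1 := congrArg R (bb_root h hi)
  rw [map_mul, map_one] at h1
  have hr1 : R r + 1 ≠ 0 := fun h0 => hne (by linear_combination (R r - 1) * h0)
  have hs : IsUnit (r + 1) := by rw [hu, map_add, map_one]; exact hr1
  refine ⟨a * ((r + 1) * (r + 1)), hau.mul (hs.mul hs), ?_, ?_⟩
  · rw [map_mul, map_mul]
    intro hsq
    refine hns ?_
    have hn : Algebra.norm F (r + 1) ≠ 0 := (hs.map (Algebra.norm F)).ne_zero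
    have h3 := hsq.mul (IsSquare.mul_self (Algebra.norm F (r + 1))⁻¹)
    rwa [show Algebra.norm F a * (Algebra.norm F (r + 1) * Algebra.norm F (r + 1)) *
      ((Algebra.norm F (r + 1))⁻¹ * (Algebra.norm F (r + 1))⁻¹) = Algebra.norm F a by field_simp] at h3
  · rw [hu]
    intro h0
    simp only [map_add, map_mul, map_one] at h0 hg
    have ha0 : R a ≠ 0 := (hu a).1 hau
    have h4 : R a * ((R r + 1) * (R r + 1) - (R (bb h hi r) + 1) * (R (bb h hi r) + 1)) = 0 := by
      linear_combination h0 - (R (bb h hi r) + 1) * (R (bb h hi r) + 1) * hg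
    have h5 : (R r * R r - 1) * ((R r + 1) * (R r + 1)) = 0 := by
      have h6 := (mul_eq_zero.1 h4).resolve_left ha0
      linear_combination (R r * R r) * h6 + (2 * R r + R r * R (bb h hi r) + 1) * h1
    rcases mul_eq_zero.1 h5 with h7 | h7
    · exact hne (sub_eq_zero.1 h7)
    · exact hr1 (mul_self_eq_zero.1 h7)

/-- A good unit in one of a pair of factors of odd exponent. -/
theorem exists_unit_pair (h2 : (2 : F) ≠ 0) {i : Fin N} (ho : Odd (e i)) :
    ∃ a : Cyc p e i, IsUnit a ∧ ¬IsSquare (Algebra.norm F a) ∧ IsUnit (1 + a) := by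
  haveI := Fact.mk (h.irr i)
  have hu := isUnit_iff_red (h.irr i) (h.pos i)
  obtain ⟨a, hau, hns⟩ := exists_norm_nonsquare h2 (h.irr i) ho
  by_cases hg : IsUnit (1 + a)
  · exact ⟨a, hau, hns, hg⟩
  set R := red (p i) (h.pos i)
  set r := AdjoinRoot.root (p i ^ e i)
  rw [hu, not_not, map_add, map_one] at hg
  have hru : IsUnit r := isUnit_root (c0_pow h i)
  refine ⟨a * (r * r), hau.mul (hru.mul hru), ?_, ?_⟩
  · rw [map_mul, map_mul]
    intro hsq
    refine hns ?_
    have hn : Algebra.norm F r ≠ 0 := (hru.map (Algebra.norm F)).ne_zero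
    have h3 := hsq.mul (IsSquare.mul_self (Algebra.norm F r)⁻¹)
    rwa [show Algebra.norm F a * (Algebra.norm F r * Algebra.norm F r) *
      ((Algebra.norm F r)⁻¹ * (Algebra.norm F r)⁻¹) = Algebra.norm F a by field_simp] at h3
  · rw [hu, map_add, map_one, map_mul, map_mul]
    intro h0
    exact red_root_sq h.ne h.pos i (by linear_combination -h0 + (R r * R r) * hg)

/-- The form of the model. -/
noncomputable def modelB (lam : ∀ i, Cyc p e i →ₗ[F] F) : LinearMap.BilinForm F (∀ i, Cyc p e i) :=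
  LinearMap.mk₂ F (fun x y => ∑ i, lam i (x i * bb h (h.inv i) (y (σ i))))
    (fun a b c => by simp [add_mul, Finset.sum_add_distrib])
    (fun c a b => by simp [Finset.mul_sum])
    (fun a b c => by simp [mul_add, Finset.sum_add_distrib])
    (fun c a b => by simp [Finset.mul_sum])

theorem modelB_apply (lam : ∀ i, Cyc p e i →ₗ[F] F) (x y : ∀ i, Cyc p e i) :
    modelB h lam x y = ∑ i, lam i (x i * bb h (h.inv i) (y (σ i))) := rfl

theorem bb_congr {i j k : Fin N} (hij : j = k) (hj : σ j = i) (y : ∀ i, Cyc p e i) :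
    bb h hj (y j) = bb h (hij ▸ hj) (y k) := by subst hij; rfl

theorem isForm_model (h2 : (2 : F) ≠ 0) {lam : ∀ i, Cyc p e i →ₗ[F] F}
    (hsym : ∀ i k (hik : σ i = k) (r : Cyc p e i), lam k (bb h hik r) = lam i r)
    (hnd : ∀ i (x : Cyc p e i), x ≠ 0 → ∃ r, lam i (x * r) ≠ 0) : IsForm (1 : F) (modelB h lam) := by
  classical
  refine ⟨one_mul 1, fun x y => ?_, fun x hx => funext fun i => ?_⟩
  · rw [one_mul, modelB_apply, modelB_apply]
    refine Fintype.sum_equiv ⟨σ, σ, h.inv, h.inv⟩ _ _ fun i => ?_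
    show lam i (y i * bb h (h.inv i) (x (σ i))) = lam (σ i) (x (σ i) * bb h (h.inv (σ i)) (y (σ (σ i))))
    rw [bb_congr h (h.inv i) (h.inv (σ i)) y, ← hsym i (σ i) rfl (y i * bb h (h.inv i) (x (σ i))), map_mul, bb_bb,
      mul_comm]
  · by_contra hx0
    obtain ⟨r, hr⟩ := hnd i (x i) hx0
    refine hr ?_
    have h1 := hx (Pi.single (σ i) (bb h (rfl : σ i = σ i) r))
    rw [modelB_apply, Finset.sum_eq_single i ?_ (fun h0 => absurd (Finset.mem_univ i) h0), Pi.single_eq_same,
      bb_bb] at h1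
    · exact h1
    · intro j _ hj
      rw [Pi.single_eq_of_ne (fun h0 => hj (by rw [← h.inv j, h0, h.inv])), map_zero, mul_zero, map_zero]

theorem isIsom_mul {lam : ∀ i, Cyc p e i →ₗ[F] F} (u : ∀ i, Cyc p e i)
    (hu : ∀ i, u i * bb h (h.inv i) (u (σ i)) = 1) :
    IsIsom (modelB h lam) (LinearMap.mulLeft F u) := fun x y => by
  rw [modelB_apply, modelB_apply]
  refine Finset.sum_congr rfl fun i _ => congrArg (lam i) ?_
  simp only [LinearMap.mulLeft_apply, Pi.mul_apply, map_mul]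
  linear_combination (x i * bb h (h.inv i) (y (σ i))) * hu i

omit h in
theorem det_mulLeft (hp : ∀ i, p i ≠ 0) (u : ∀ i, Cyc p e i) :
    LinearMap.det (LinearMap.mulLeft F u) = ∏ i, Algebra.norm F (u i) := by
  classical
  haveI : ∀ i, FiniteDimensional F (Cyc p e i) := fun i => finite_adjoin (pow_ne_zero _ (hp i))
  rw [show LinearMap.mulLeft F u = LinearMap.pi fun i => (LinearMap.mulLeft F (u i)).comp (LinearMap.proj i) from
    LinearMap.ext fun x => funext fun i => rfl, det_piComponents]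
  exact Finset.prod_congr rfl fun i _ => rfl

/-- The model isometry. -/
theorem exists_model_iso (h2 : (2 : F) ≠ 0) {i0 : Fin N} (ho : Odd (e i0)) :
    ∃ (B : LinearMap.BilinForm F (∀ i, Cyc p e i)) (f : (∀ i, Cyc p e i) →ₗ[F] (∀ i, Cyc p e i)),
      IsForm (1 : F) B ∧ IsIsom B (LinearMap.mulLeft F fun i => AdjoinRoot.root (p i ^ e i)) ∧ IsIsom B f ∧
        (∀ x, f ((fun i => AdjoinRoot.root (p i ^ e i)) * x) = (fun i => AdjoinRoot.root (p i ^ e i)) * f x) ∧
        LinearMap.det f = 1 ∧ ¬IsSquare (LinearMap.det ((2 : F)⁻¹ • (1 + f))) := by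
  classical
  obtain ⟨lam, hsym, hnd⟩ := exists_functionals h h2
  have hfin : ∀ i, FiniteDimensional F (Cyc p e i) := fun i => finite_adjoin (pow_ne_zero _ (h.irr i).ne_zero)
  have hroot : ∀ i, AdjoinRoot.root (p i ^ e i) * bb h (h.inv i) (AdjoinRoot.root (p (σ i) ^ e (σ i))) = 1 :=
    fun i => by rw [mul_comm]; exact bb_root h (h.inv i)
  have hcomm : ∀ u x : (∀ i, Cyc p e i), LinearMap.mulLeft F u ((fun i => AdjoinRoot.root (p i ^ e i)) * x) =
      (fun i => AdjoinRoot.root (p i ^ e i)) * LinearMap.mulLeft F u x := fun u x => by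
    simp only [LinearMap.mulLeft_apply]; exact mul_left_comm _ _ _
  have hhalf : ∀ u : (∀ i, Cyc p e i), (2 : F)⁻¹ • (1 + LinearMap.mulLeft F u) =
      LinearMap.mulLeft F ((2 : F)⁻¹ • (1 + u)) := fun u => LinearMap.ext fun x => by
    simp only [LinearMap.smul_apply, LinearMap.add_apply, Module.End.one_apply, LinearMap.mulLeft_apply]
    rw [smul_mul_assoc, add_mul, one_mul]
  have hp0 := fun i => (h.irr i).ne_zero
  suffices hu : ∃ u : ∀ i, Cyc p e i, (∀ i, u i * bb h (h.inv i) (u (σ i)) = 1) ∧ ∏ i, Algebra.norm F (u i) = 1 ∧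
      ¬IsSquare (∏ i, Algebra.norm F ((2 : F)⁻¹ • (1 + u i))) by
    obtain ⟨u, hu1, hu2, hu3⟩ := hu
    refine ⟨modelB h lam, LinearMap.mulLeft F u, isForm_model h h2 hsym hnd, isIsom_mul h _ hroot, isIsom_mul h u hu1,
      hcomm u, by rw [det_mulLeft hp0, hu2], ?_⟩
    rw [hhalf, det_mulLeft hp0]
    exact hu3
  have hhalf1 : ∀ i, (2 : F)⁻¹ • ((1 : Cyc p e i) + 1) = 1 := fun i => by
    rw [← two_smul F (1 : Cyc p e i), smul_smul, inv_mul_cancel₀ h2, one_smul]
  have h2u : ∀ i, IsUnit (2 : Cyc p e i) := fun i => by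
    rw [show (2 : Cyc p e i) = algebraMap F (Cyc p e i) 2 from (map_ofNat _ 2).symm]
    exact (IsUnit.mk0 _ h2).map _
  by_cases hi0 : σ i0 = i0
  · obtain ⟨a, hau, hns, hab⟩ := exists_unit_fixed h h2 hi0 ho
    obtain ⟨au, hau'⟩ := hau.map (bb h hi0)
    have hb0 : bb h hi0 (au : Cyc p e i0) = a := by rw [hau', bb_bb]
    set u0 : Cyc p e i0 := a * ↑au⁻¹ with hu0
    have hu0b : u0 * bb h hi0 u0 = 1 := by
      have h1 : (au : Cyc p e i0) * ↑au⁻¹ = 1 := au.mul_inv
      have h3 := congrArg (bb h hi0) h1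
      rw [map_mul, map_one, hb0] at h3
      rw [hu0, map_mul, ← hau']
      linear_combination ((au : Cyc p e i0) * ↑au⁻¹) * h3 + h1
    let u : ∀ i, Cyc p e i := Function.update 1 i0 u0
    have hu_0 : u i0 = u0 := Function.update_self _ _ _
    have hu_n : ∀ i, i ≠ i0 → u i = 1 := fun i hi => Function.update_of_ne hi _ _
    refine ⟨u, fun i => ?_, ?_, ?_⟩
    · by_cases hi : i = i0
      · subst hi
        rw [bb_congr h hi0 (h.inv i) u, hu_0]
        exact hu0b
      · rw [hu_n i hi, hu_n (σ i) (fun h1 => hi (by rw [← h.inv i, h1, hi0])), map_one, one_mul]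
    · rw [Finset.prod_eq_single i0 (fun i _ hi => by rw [hu_n i hi, map_one])
        (fun h1 => absurd (Finset.mem_univ i0) h1), hu_0]
      have h1 := congrArg (Algebra.norm F) au.mul_inv
      rw [map_mul, map_one, hau', norm_bb h hi0 hi0] at h1
      rw [hu0, map_mul, h1]
    · rw [Finset.prod_eq_single i0 (fun i _ hi => by rw [hu_n i hi, hhalf1, map_one])
        (fun h1 => absurd (Finset.mem_univ i0) h1), hu_0]
      obtain ⟨hsq, h2sq⟩ := norm_fixed h h2 hsym hnd i0 hi0 (b := a + bb h hi0 a)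
        (by rw [map_add, bb_bb, add_comm]) hab
      have hs : ((2 : F)⁻¹ • (1 + u0)) * (2 * (au : Cyc p e i0)) = a + bb h hi0 a := by
        rw [show (2 : Cyc p e i0) = algebraMap F (Cyc p e i0) 2 from (map_ofNat _ 2).symm, ← Algebra.smul_def,
          smul_mul_smul_comm, inv_mul_cancel₀ h2, one_smul, hu0, ← hau']
        linear_combination a * au.inv_mul
      intro hX
      rw [← hs, map_mul, map_mul] at hsq
      have hab0 : Algebra.norm F (a + bb h hi0 a) ≠ 0 := (hab.map (Algebra.norm F)).ne_zero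
      rw [← hs, map_mul, map_mul] at hab0
      have h20 : Algebra.norm F (2 : Cyc p e i0) ≠ 0 := ((h2u i0).map (Algebra.norm F)).ne_zero
      have hX0 := left_ne_zero_of_mul hab0
      have h3 := (hsq.mul hX.inv).mul h2sq.inv
      refine hns ?_
      rw [← norm_bb h hi0 hi0 a, ← hau']
      rwa [mul_comm (Algebra.norm F ((2 : F)⁻¹ • (1 + u0))), mul_assoc (Algebra.norm F (2 : Cyc p e i0) * _),
        mul_inv_cancel₀ hX0, mul_one, mul_comm (Algebra.norm F (2 : Cyc p e i0)), mul_assoc, mul_inv_cancel₀ h20,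
        mul_one] at h3
  · obtain ⟨a, hau, hns, hab⟩ := exists_unit_pair h h2 ho
    obtain ⟨bu, hbu⟩ := hau.map (bb h (rfl : σ i0 = σ i0))
    have hN : Algebra.norm F (bu : Cyc p e (σ i0)) = Algebra.norm F a := by rw [hbu, norm_bb h rfl (h.inv i0)]
    let u : ∀ i, Cyc p e i := Function.update (Function.update 1 (σ i0) (↑bu⁻¹ : Cyc p e (σ i0))) i0 a
    have hne : σ i0 ≠ i0 := hi0
    have hu_0 : u i0 = a := Function.update_self _ _ _
    have hu_k : u (σ i0) = ↑bu⁻¹ := by
      simp only [u]; rw [Function.update_of_ne hne, Function.update_self]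
    have hu_n : ∀ i, i ≠ i0 → i ≠ σ i0 → u i = 1 := fun i hi hi' => by
      simp only [u]; rw [Function.update_of_ne hi, Function.update_of_ne hi']; rfl
    refine ⟨u, fun i => ?_, ?_, ?_⟩
    · by_cases hi : i = i0
      · subst hi
        rw [hu_0, hu_k]
        have h1 := congrArg (bb h (h.inv i)) bu.mul_inv
        rw [map_mul, map_one, hbu, bb_bb] at h1
        exact h1
      by_cases hi' : i = σ i0
      · subst hi'
        rw [hu_k, bb_congr h (h.inv i0) (h.inv (σ i0)) u, hu_0, ← hbu]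
        exact bu.inv_mul
      · rw [hu_n i hi hi', hu_n (σ i) (fun h1 => hi' (by rw [← h1, h.inv]))
          (fun h1 => hi (by rw [← h.inv i, h1, h.inv])), map_one, one_mul]
    · rw [Fintype.prod_eq_mul i0 (σ i0) (Ne.symm hne) (fun i hi => by rw [hu_n i hi.1 hi.2, map_one]), hu_0, hu_k,
        ← hN, ← map_mul, bu.mul_inv, map_one]
    · rw [Fintype.prod_eq_mul i0 (σ i0) (Ne.symm hne) (fun i hi => by rw [hu_n i hi.1 hi.2, hhalf1, map_one]),
        hu_0, hu_k]
      set X := Algebra.norm F ((2 : F)⁻¹ • (1 + a))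
      set Y := Algebra.norm F ((2 : F)⁻¹ • (1 + (↑bu⁻¹ : Cyc p e (σ i0))))
      have hrel : Y * Algebra.norm F a = X := by
        rw [← hN, ← map_mul, smul_mul_assoc, add_mul, one_mul, bu.inv_mul, hbu, ← map_one (bb h (rfl : σ i0 = σ i0)),
          ← map_add, ← map_smul, norm_bb h rfl (h.inv i0), add_comm a]
      have hhu : IsUnit ((2 : F)⁻¹ • (1 + a)) := by
        rw [Algebra.smul_def]; exact ((IsUnit.mk0 _ (inv_ne_zero h2)).map _).mul hab
      have hX0 : X ≠ 0 := (hhu.map (Algebra.norm F)).ne_zero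
      intro hsq
      refine hns ?_
      have hY0 : Y ≠ 0 := fun h0 => hX0 (by rw [← hrel, h0, zero_mul])
      have h3 := (IsSquare.mul_self X).mul hsq.inv
      rwa [show X * X * (X * Y)⁻¹ = Algebra.norm F a by
        rw [← hrel]; field_simp] at h3

end CfsgLib.Geo.FormClasses
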