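import Cfsg.Agent.Geo.FormClasses.InnerCount

/-!
# The arithmetic for the classes of orthogonal groups of odd dimension
-/

set_option autoImplicit false
set_option linter.unusedSectionVars false

namespace CfsgLib.Geo.FormClasses

open CfsgLib.GLClass CfsgLib.GLClass.Symp

theorem gg_fAll_le (J : ℕ) : gg fAll J ≤ 263 / 50 :=
  gg_le (fun _ hk => fAll_one_le hk) (fun _ hk => fAll_tail hk)
    (by norm_num [gg, fAll, u0, wt, sig, Nat.even_iff]) J

theorem all_odd_le {q : ℕ} (hq : 3 ≤ q) (n : ℕ) :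
    1000 * (∑ d ∈ degs (2 * n), ∏ i : Fin (2 * n + 1), cAll q ((i : ℕ) + 1) (d i : ℕ)) ≤ 28343 * q ^ n := by
  set t : ℚ := 1 / q with ht
  have hq0 : (q : ℚ) ≠ 0 := by exact_mod_cast (show q ≠ 0 by omega)
  have hqt : (q : ℚ) * t = 1 := mul_one_div_cancel hq0
  have h0 : 0 ≤ t := by positivity
  have h3 : t ≤ 1 / 3 := one_div_le_one_div_of_le (by norm_num) (by exact_mod_cast hq)
  have hA := sum_degs_le h0 h3 (cAll q) (28 / 9) fAll (fun d => by
    rw [cAll, if_neg (by decide)]; exact wgt_wt_le hqt h0 h3 d) (fun k hk M => sum_cAll_le hqt h0 h3 hk M) (2 * n)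
  rw [prod_eq_gg, wt, if_neg (Nat.not_even_iff_odd.2 ⟨n, rfl⟩), show (2 * n + 1) / 2 = n by omega] at hA
  have hg := gg_fAll_le (2 * n)
  set A := ∑ d ∈ degs (2 * n), ∏ i : Fin (2 * n + 1), cAll q ((i : ℕ) + 1) (d i : ℕ)
  have h : ((A : ℕ) : ℚ) * t ^ n * 1000 ≤ 28343 := by
    have h1 : (A : ℚ) * t ^ n * sig ≤ 28 / 9 * (263 / 50) := by linarith
    unfold sig at h1
    linarith
  have e : (t : ℚ) ^ n * (q : ℚ) ^ n = 1 := by rw [← mul_pow, mul_comm, hqt, one_pow]
  have h' := mul_le_mul_of_nonneg_right h (show (0 : ℚ) ≤ (q : ℚ) ^ n by positivity)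
  rw [show (A : ℚ) * t ^ n * 1000 * (q : ℚ) ^ n = 1000 * A * (t ^ n * (q : ℚ) ^ n) by ring, e, mul_one] at h'
  exact_mod_cast h'

/-! ## Without layers of odd size -/

theorem cInn_mono {q : ℕ} (hq : 3 ≤ q) {k : ℕ} (hk0 : 1 ≤ k) (d : ℕ) :
    cInn q k d * 3 ^ (k * d / 2) ≤ cInn 3 k d * q ^ (k * d / 2) := by
  rw [cInn, cInn]
  split_ifs with hk hd
  · rw [cFix, cFix]
    split_ifs with he
    · obtain ⟨c, rfl⟩ := he
      obtain ⟨m, hm⟩ : ∃ m, k * (c + c) / 2 = c + m := by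
        refine ⟨k * c - c, ?_⟩
        have : c ≤ k * c := Nat.le_mul_of_pos_left _ hk0
        rw [show k * (c + c) / 2 = k * c by rw [mul_add]; omega]
        omega
      rw [show (c + c) / 2 = c by omega, hm, pow_add, pow_add,
        show q ^ c * (3 ^ c * 3 ^ m) = 3 ^ c * q ^ c * 3 ^ m by ring,
        show 3 ^ c * (q ^ c * q ^ m) = 3 ^ c * q ^ c * q ^ m by ring]
      exact Nat.mul_le_mul_left _ (Nat.pow_le_pow_left hq _)
    · simp
  · exact Nat.mul_le_mul_left _ (Nat.pow_le_pow_left hq _)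
  · exact Nat.mul_le_mul_left _ (Nat.pow_le_pow_left hq _)

theorem cInn_mono_sum {q : ℕ} (hq : 3 ≤ q) (n : ℕ) :
    3 ^ n * (∑ d ∈ degs (2 * n), ∏ i : Fin (2 * n + 1), cInn q ((i : ℕ) + 1) (d i : ℕ)) ≤
      q ^ n * ∑ d ∈ degs (2 * n), ∏ i : Fin (2 * n + 1), cInn 3 ((i : ℕ) + 1) (d i : ℕ) := by
  rw [Finset.mul_sum, Finset.mul_sum]
  refine Finset.sum_le_sum fun d hd => ?_
  have hd' : ∑ i : Fin (2 * n + 1), ((i : ℕ) + 1) * (d i : ℕ) = 2 * n + 1 := (Finset.mem_filter.1 hd).2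
  obtain ⟨r, hr⟩ : ∃ r, n = (∑ i : Fin (2 * n + 1), ((i : ℕ) + 1) * (d i : ℕ) / 2) + r := by
    refine ⟨n - _, (Nat.add_sub_cancel' ?_).symm⟩
    have h : 2 * (∑ i : Fin (2 * n + 1), ((i : ℕ) + 1) * (d i : ℕ) / 2) ≤ 2 * n + 1 := by
      rw [Finset.mul_sum]
      exact le_of_le_of_eq (Finset.sum_le_sum fun i _ => by omega) hd'
    omega
  have hk := Finset.prod_le_prod' (s := (Finset.univ : Finset (Fin (2 * n + 1)))) fun i _ =>
    cInn_mono hq (k := (i : ℕ) + 1) (Nat.le_add_left 1 _) (d i : ℕ)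
  rw [Finset.prod_mul_distrib, Finset.prod_mul_distrib, Finset.prod_pow_eq_pow_sum,
    Finset.prod_pow_eq_pow_sum] at hk
  generalize ∑ i : Fin (2 * n + 1), ((i : ℕ) + 1) * (d i : ℕ) / 2 = c at hk hr
  generalize ∏ i : Fin (2 * n + 1), cInn q ((i : ℕ) + 1) (d i : ℕ) = A at hk
  generalize ∏ i : Fin (2 * n + 1), cInn 3 ((i : ℕ) + 1) (d i : ℕ) = B at hk
  rw [hr, pow_add, pow_add]
  calc 3 ^ c * 3 ^ r * A = A * 3 ^ c * 3 ^ r := by ring
    _ ≤ B * q ^ c * q ^ r := Nat.mul_le_mul hk (Nat.pow_le_pow_left hq _)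
    _ = q ^ c * q ^ r * B := by ring

/-- The count of degree `r` with `J` exponents from `k` on, computed by recursion. -/
def rec3 : ℕ → ℕ → ℕ → ℕ
  | 0, _, r => if r = 0 then 1 else 0
  | J + 1, k, r => if r < k then (if r = 0 then 1 else 0) else
      ((List.range (r / k + 1)).map fun d => cInn 3 k d * rec3 J (k + 1) (r - k * d)).sum

theorem sum_le_rec3 (M : ℕ) : ∀ J k r, 1 ≤ k →
    (∑ d ∈ Finset.univ.filter (fun d : Fin J → Fin M => ∑ i : Fin J, (k + (i : ℕ)) * (d i : ℕ) = r),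
      ∏ i : Fin J, cInn 3 (k + (i : ℕ)) (d i : ℕ)) ≤ rec3 J k r
  | 0, k, r, _ => by
    by_cases hr : r = 0
    · subst hr; simp [rec3]
    · simp [rec3, hr, eq_comm (a := 0)]
  | J + 1, k, r, hk => by
    classical
    by_cases hrk : r < k
    · rw [rec3, if_pos hrk]
      have hz : ∀ d : Fin (J + 1) → Fin M, ∑ i : Fin (J + 1), (k + (i : ℕ)) * (d i : ℕ) = r → ∀ i, (d i : ℕ) = 0 := by
        intro d hd i
        have h := Finset.single_le_sum (f := fun i : Fin (J + 1) => (k + (i : ℕ)) * (d i : ℕ)) (fun _ _ => Nat.zero_le _)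
          (Finset.mem_univ i)
        rw [hd] at h
        by_contra hne
        have : k + (i : ℕ) ≤ (k + (i : ℕ)) * (d i : ℕ) := Nat.le_mul_of_pos_right _ (Nat.pos_of_ne_zero hne)
        omega
      split_ifs with hr
      · refine le_trans (le_of_eq (Finset.sum_congr rfl fun d hd => Finset.prod_eq_one fun i _ => ?_))
          (le_of_eq_of_le (Finset.card_eq_sum_ones _).symm (Finset.card_le_one.2 fun a ha b hb => ?_))
        · rw [hz d (Finset.mem_filter.1 hd).2 i, cInn]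
          split_ifs <;> first | rfl | decide | omega | contradiction
        · funext i
          exact Fin.ext ((hz a (Finset.mem_filter.1 ha).2 i).trans (hz b (Finset.mem_filter.1 hb).2 i).symm)
      · refine le_of_eq (Finset.sum_eq_zero fun d hd => absurd ?_ hr)
        have h := (Finset.mem_filter.1 hd).2
        rw [← h]
        exact Finset.sum_eq_zero fun i _ => by rw [hz d h i, mul_zero]
    let f : ℕ → ℕ := fun a => if a < r / k + 1 then cInn 3 k a * rec3 J (k + 1) (r - k * a) else 0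
    have hlt : ∀ a, a < r / k + 1 ↔ k * a ≤ r := fun a => by
      rw [Nat.lt_succ_iff, Nat.le_div_iff_mul_le (by omega), mul_comm]
    have hrec : rec3 (J + 1) k r = ∑ a ∈ Finset.range (r / k + 1), f a := by
      rw [rec3, if_neg hrk, Finset.sum_congr rfl fun a ha => if_pos (Finset.mem_range.1 ha),
        Finset.sum_eq_multiset_sum]
      rfl
    rw [Finset.sum_filter, ← Equiv.sum_comp (Fin.consEquiv fun _ => Fin M), Fintype.sum_prod_type]
    simp only [Fin.consEquiv_apply, Fin.sum_univ_succ, Fin.prod_univ_succ, Fin.cons_zero, Fin.cons_succ,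
      Fin.val_zero, add_zero, Fin.val_succ]
    refine le_trans (Finset.sum_le_sum (g := fun a : Fin M => f a) fun a _ => ?_) ?_
    · by_cases ha : k * (a : ℕ) ≤ r
      · simp only [f, if_pos ((hlt a).2 ha)]
        refine le_trans (le_of_eq ?_) (Nat.mul_le_mul_left _ (sum_le_rec3 M J (k + 1) (r - k * a) (by omega)))
        rw [Finset.mul_sum, Finset.sum_filter]
        refine Finset.sum_congr rfl fun d _ => ?_
        simp only [show ∀ i : ℕ, k + 1 + i = k + (i + 1) from fun i => by omega]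
        exact if_congr (by omega) rfl rfl
      · refine le_of_eq_of_le (Finset.sum_eq_zero fun d _ => if_neg fun h => ha ?_) (Nat.zero_le _)
        omega
    · rw [hrec, Fin.sum_univ_eq_sum_range f M]
      refine le_trans (le_of_eq (Finset.sum_filter_of_ne (p := fun a => a < r / k + 1) fun a _ h => ?_).symm)
        (Finset.sum_le_sum_of_subset fun a ha => ?_)
      · by_contra hlt
        exact h (if_neg hlt)
      · exact Finset.mem_range.2 (Finset.mem_filter.1 ha).2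

theorem rec3_small : ∀ n, n < 12 → 2 ≤ n → rec3 (2 * n + 1) 1 (2 * n + 1) ≤ 10 * 3 ^ n := by
  decide +kernel

/-- The factor of exponent `k`. -/
def fInn (k : ℕ) : ℚ :=
  if Even k then 1 / (1 - 3 * ((5 / 8 : ℚ) ^ k) ^ 2) else ((1 + (5 / 8 : ℚ) ^ k) / (1 - (5 / 8 : ℚ) ^ k)) ^ 2

theorem pow_small {k : ℕ} (hk : 2 ≤ k) : 0 ≤ (5 / 8 : ℚ) ^ k ∧ (5 / 8 : ℚ) ^ k ≤ 25 / 64 :=
  ⟨by positivity, (pow_le_pow_of_le_one (by norm_num) (by norm_num) hk).trans (by norm_num)⟩

theorem sum_cInn_le {k : ℕ} (hk : 2 ≤ k) (M : ℕ) :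
    ∑ d ∈ Finset.range M, (cInn 3 k d : ℚ) * ((5 / 8 : ℚ) ^ k) ^ d ≤ fInn k := by
  obtain ⟨h0, h1⟩ := pow_small hk
  rw [fInn]
  generalize (5 / 8 : ℚ) ^ k = y at h0 h1
  have hy1 : (0 : ℚ) < 1 - y := by linarith
  split_ifs with he
  · set z := 3 * y ^ 2
    have hz0 : 0 ≤ z := by positivity
    have hz1 : z < 1 := by nlinarith
    have hM : ∀ M, ∑ d ∈ Finset.range (2 * M), (cInn 3 k d : ℚ) * y ^ d = ∑ i ∈ Finset.range M, z ^ i := by
      intro M
      induction M with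
      | zero => simp
      | succ M ih =>
        rw [show 2 * (M + 1) = 2 * M + 1 + 1 by ring, Finset.sum_range_succ, Finset.sum_range_succ, ih,
          Finset.sum_range_succ]
        simp only [cInn, if_pos he, cFix, even_two_mul M, if_true,
          Nat.not_even_iff_odd.2 (odd_two_mul_add_one M), if_false, Nat.cast_zero, zero_mul, add_zero]
        rw [Nat.mul_div_cancel_left _ two_pos, Nat.cast_pow, mul_pow, ← pow_mul]
        norm_num
    refine (Finset.sum_le_sum_of_subset_of_nonneg (Finset.range_mono (show M ≤ 2 * M by omega))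
      fun d _ _ => by positivity).trans ?_
    rw [hM]
    exact geom_le hz0 hz1 M
  · have key : ∀ M : ℕ, (∑ d ∈ Finset.range (M + 1), (cInn 3 k d : ℚ) * y ^ d) +
        4 * y ^ (M + 1) * (((M : ℚ) + 1) * (1 - y) + y) / (1 - y) ^ 2 = ((1 + y) / (1 - y)) ^ 2 := by
      intro M
      induction M with
      | zero => simp [cInn, he]; field_simp; ring
      | succ M ih =>
        rw [Finset.sum_range_succ, ← ih, add_assoc, add_right_inj, cInn, if_neg he, if_neg M.succ_ne_zero]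
        push_cast
        field_simp
        ring
    refine (Finset.sum_le_sum_of_subset_of_nonneg (Finset.range_mono (show M ≤ M + 1 by omega))
      fun d _ _ => by positivity).trans ?_
    rw [← key M]
    refine le_add_of_nonneg_right (div_nonneg (mul_nonneg (by positivity) ?_) (by positivity))
    positivity

theorem cInn_head (d : ℕ) : (cInn 3 1 d : ℚ) * (5 / 8 : ℚ) ^ d ≤ 25 / 8 := by
  rw [cInn, if_neg (by decide)]
  rcases d with _ | _ | d
  · norm_num
  · norm_num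
  · rw [if_neg (by omega)]
    induction d with
    | zero => norm_num
    | succ d ih =>
      refine le_trans ?_ ih
      push_cast
      rw [pow_succ (5 / 8 : ℚ) (d + 1 + 1)]
      have hp : (0 : ℚ) ≤ (5 / 8) ^ (d + 1 + 1) := by positivity
      nlinarith

theorem sum_degs_inn_le (J : ℕ) :
    ((∑ d ∈ degs J, ∏ i : Fin (J + 1), cInn 3 ((i : ℕ) + 1) (d i : ℕ) : ℕ) : ℚ) * (5 / 8 : ℚ) ^ (J + 1) ≤
      25 / 8 * gg fInn J := by
  classical
  let a : Fin J → Fin (J + 2) → ℚ :=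
    fun i e => (cInn 3 ((i : ℕ) + 2) (e : ℕ) : ℚ) * ((5 / 8 : ℚ) ^ ((i : ℕ) + 2)) ^ (e : ℕ)
  have ha : ∀ i e, 0 ≤ a i e := fun i e => by positivity
  rw [Nat.cast_sum, Finset.sum_mul, ← prod_eq_gg]
  have hstep : ∀ d ∈ degs J, ((∏ i : Fin (J + 1), cInn 3 ((i : ℕ) + 1) (d i : ℕ) : ℕ) : ℚ) * (5 / 8 : ℚ) ^ (J + 1) ≤
      25 / 8 * ∏ i : Fin J, a i (d i.succ) := by
    intro d hd
    have hd' : ∑ i : Fin (J + 1), ((i : ℕ) + 1) * (d i : ℕ) = J + 1 := (Finset.mem_filter.1 hd).2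
    rw [show (5 / 8 : ℚ) ^ (J + 1) = (5 / 8 : ℚ) ^ (∑ i : Fin (J + 1), ((i : ℕ) + 1) * (d i : ℕ)) by rw [hd']]
    rw [← Finset.prod_pow_eq_pow_sum, Nat.cast_prod, ← Finset.prod_mul_distrib, Fin.prod_univ_succ]
    simp only [Fin.val_zero, zero_add, one_mul, Fin.val_succ, pow_mul]
    exact mul_le_mul_of_nonneg_right (cInn_head _) (Finset.prod_nonneg fun i _ => by positivity)
  refine (Finset.sum_le_sum hstep).trans ?_
  rw [← Finset.mul_sum]
  refine mul_le_mul_of_nonneg_left ?_ (by norm_num)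
  have hinj : Set.InjOn (fun d : Fin (J + 1) → Fin (J + 2) => fun i : Fin J => d i.succ) (degs J : Set _) := by
    intro d hd d' hd' he
    have e1 : ∑ i : Fin (J + 1), ((i : ℕ) + 1) * (d i : ℕ) = J + 1 := (Finset.mem_filter.1 hd).2
    have e2 : ∑ i : Fin (J + 1), ((i : ℕ) + 1) * (d' i : ℕ) = J + 1 := (Finset.mem_filter.1 hd').2
    rw [Fin.sum_univ_succ] at e1 e2
    have hs : ∀ i : Fin J, d i.succ = d' i.succ := fun i => congrFun he i
    simp only [Fin.val_zero, zero_add, one_mul, hs] at e1 e2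
    funext i
    exact Fin.cases (Fin.ext (by omega)) hs i
  rw [← Finset.sum_image (f := fun e : Fin J → Fin (J + 2) => ∏ i, a i (e i))
    (g := fun d : Fin (J + 1) → Fin (J + 2) => fun i : Fin J => d i.succ) hinj]
  refine (Finset.sum_le_sum_of_subset_of_nonneg (Finset.subset_univ _)
    fun e _ _ => Finset.prod_nonneg fun i _ => ha i (e i)).trans ?_
  rw [← Fintype.prod_sum]
  refine Finset.prod_le_prod (fun i _ => Finset.sum_nonneg fun e _ => ha i e) fun i _ => ?_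
  refine le_trans (le_of_eq ?_) (sum_cInn_le (k := (i : ℕ) + 2) (by omega) (J + 2))
  exact Fin.sum_univ_eq_sum_range (fun e => (cInn 3 ((i : ℕ) + 2) e : ℚ) * ((5 / 8 : ℚ) ^ ((i : ℕ) + 2)) ^ e) (J + 2)

theorem fInn_one_le {k : ℕ} (hk : 2 ≤ k) : 1 ≤ fInn k := by
  obtain ⟨h0, h1⟩ := pow_small hk
  rw [fInn]
  split_ifs
  · rw [one_le_div (by nlinarith)]; nlinarith
  · exact one_le_pow₀ (by rw [one_le_div (by linarith)]; linarith)

theorem fInn_tail {k : ℕ} (hk : 26 ≤ k) : fInn k ≤ 1 + 5 * (5 / 8 : ℚ) ^ k := by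
  have h1 : (5 / 8 : ℚ) ^ k ≤ 1 / 100000 :=
    (pow_le_pow_of_le_one (by norm_num) (by norm_num) hk).trans (by norm_num)
  have h0 : 0 ≤ (5 / 8 : ℚ) ^ k := by positivity
  rw [fInn]
  generalize (5 / 8 : ℚ) ^ k = a at *
  split_ifs
  · rw [div_le_iff₀ (by nlinarith)]; nlinarith
  · rw [div_pow, div_le_iff₀ (by nlinarith)]
    nlinarith [mul_le_mul_of_nonneg_left h1 h0, mul_nonneg h0 (mul_nonneg h0 h0)]

theorem gg_fInn_le (J : ℕ) : gg fInn J ≤ 54 / 5 := by
  have hnn : ∀ J, 0 ≤ gg fInn J := fun J => by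
    induction J with
    | zero => exact zero_le_one
    | succ J ih => exact mul_nonneg ih (zero_le_one.trans (fInn_one_le (by omega)))
  have hmono : Monotone (gg fInn) :=
    monotone_nat_of_le_succ fun K => le_mul_of_one_le_right (hnn K) (fInn_one_le (by omega))
  have hanti : ∀ i, gg fInn (24 + i) * (1 + 16 * (5 / 8 : ℚ) ^ (26 + i)) ≤ 54 / 5 := by
    intro i
    induction i with
    | zero => norm_num [gg, fInn, Nat.even_iff]
    | succ i ih =>
      refine le_trans ?_ ih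
      have e : gg fInn (24 + (i + 1)) = gg fInn (24 + i) * fInn (26 + i) := by
        rw [show 24 + (i + 1) = 24 + i + 1 by ring, gg]; congr 2; ring
      rw [e, mul_assoc, show 26 + (i + 1) = 26 + i + 1 by ring, pow_succ]
      refine mul_le_mul_of_nonneg_left ?_ (hnn _)
      have h1 := fInn_tail (show 26 ≤ 26 + i by omega)
      have h2 : (5 / 8 : ℚ) ^ (26 + i) ≤ 1 / 100000 :=
        (pow_le_pow_of_le_one (by norm_num) (by norm_num) (show 26 ≤ 26 + i by omega)).trans (by norm_num)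
      have h0 : 0 ≤ (5 / 8 : ℚ) ^ (26 + i) := by positivity
      generalize (5 / 8 : ℚ) ^ (26 + i) = a at *
      calc fInn (26 + i) * (1 + 16 * (a * (5 / 8))) ≤ (1 + 5 * a) * (1 + 16 * (a * (5 / 8))) :=
            mul_le_mul_of_nonneg_right h1 (by positivity)
        _ ≤ 1 + 16 * a := by nlinarith
  refine le_trans (hmono (show J ≤ 24 + J by omega)) (le_trans ?_ (hanti J))
  exact le_mul_of_one_le_right (hnn _) (by
    have : 0 ≤ (5 / 8 : ℚ) ^ (26 + J) := by positivity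
    linarith)

theorem inn_le {q : ℕ} (hq : 3 ≤ q) {n : ℕ} (hn : 2 ≤ n) :
    (∑ d ∈ degs (2 * n), ∏ i : Fin (2 * n + 1), cInn q ((i : ℕ) + 1) (d i : ℕ)) ≤ 10 * q ^ n := by
  have h3 : (∑ d ∈ degs (2 * n), ∏ i : Fin (2 * n + 1), cInn 3 ((i : ℕ) + 1) (d i : ℕ)) ≤ 10 * 3 ^ n := by
    rcases Nat.lt_or_ge n 12 with hs | hb
    · refine le_trans (le_trans (le_of_eq ?_) (sum_le_rec3 (2 * n + 2) (2 * n + 1) 1 (2 * n + 1) le_rfl))
        (rec3_small n hs hn)
      rw [degs]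
      simp only [add_comm 1]
    · have h := (sum_degs_inn_le (2 * n)).trans (mul_le_mul_of_nonneg_left (gg_fInn_le (2 * n)) (by norm_num))
      set A := ∑ d ∈ degs (2 * n), ∏ i : Fin (2 * n + 1), cInn 3 ((i : ℕ) + 1) (d i : ℕ)
      obtain ⟨m, rfl⟩ : ∃ m, n = 12 + m := ⟨n - 12, by omega⟩
      rw [pow_succ, pow_mul, pow_add, show ((5 / 8 : ℚ) ^ 2) = 25 / 64 by norm_num] at h
      have hm : (1 : ℚ) ≤ 3 ^ m * (25 / 64 : ℚ) ^ m := by rw [← mul_pow]; exact one_le_pow₀ (by norm_num)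
      have h' : (A : ℚ) * ((25 / 64 : ℚ) ^ m) ≤ 10 * 3 ^ 12 := by
        have : 0 ≤ (A : ℚ) * ((25 / 64 : ℚ) ^ m) := by positivity
        linarith
      have h'' : (A : ℚ) ≤ 10 * 3 ^ (12 + m) := by
        rw [pow_add, ← mul_assoc]
        calc (A : ℚ) ≤ (A : ℚ) * (3 ^ m * (25 / 64 : ℚ) ^ m) := le_mul_of_one_le_right (by positivity) hm
          _ = (A : ℚ) * (25 / 64 : ℚ) ^ m * 3 ^ m := by ring
          _ ≤ 10 * 3 ^ 12 * 3 ^ m := mul_le_mul_of_nonneg_right h' (by positivity)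
      exact_mod_cast h''
  refine Nat.le_of_mul_le_mul_left ?_ (pow_pos (show 0 < 3 by norm_num) n)
  calc _ ≤ _ := cInn_mono_sum hq n
    _ ≤ q ^ n * (10 * 3 ^ n) := Nat.mul_le_mul_left _ h3
    _ = 3 ^ n * (10 * q ^ n) := by ring

end CfsgLib.Geo.FormClasses
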