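import Cfsg.Agent.Geo.FormClasses.OrthClasses
import Cfsg.Agent.Geo.OSemisimple
import Cfsg.Agent.Geo.SpSemiClasses

/-!
# Classes of orthogonal groups of even dimension, `q` odd: the lower bound

A self-dual polynomial with root `1` is a characteristic polynomial for both types; one without roots `1`,
`-1` for the type given by the character of `f(1) f(-1)`.
-/

set_option autoImplicit false
set_option linter.style.haveILetI false
set_option linter.unusedSectionVars false

namespace CfsgLib.Geo.FormClasses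

open Matrix Module Polynomial CfsgLib.Geo.USemi CfsgLib.Geo.OSemi CfsgLib.Geo.OCounts CfsgLib.GLClass.Symp

variable {K : Type*} [Field K]

/-- Self-dual polynomials of degree `2n` with constant term one. -/
abbrev SDP (K : Type*) [Field K] (n : ℕ) : Type _ :=
  {f : K[X] // f.Monic ∧ f.natDegree = n + n ∧ f.coeff 0 = 1 ∧ dual (RingHom.id K) f = f}

theorem sdp_sym {n : ℕ} (f : SDP K n) : ∀ k ≤ n + n, f.1.coeff k = f.1.coeff (n + n - k) := fun k hk => by
  conv_lhs => rw [← f.2.2.2.2]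
  rw [coeff_dual _ (f.2.2.1.symm ▸ hk), f.2.2.1, f.2.2.2.1, map_one, inv_one, one_mul, RingHom.id_apply]

variable [Fintype K]

theorem finite_sdp (n : ℕ) : Finite (SDP K n) :=
  Nat.finite_of_card_ne_zero (by rw [CfsgLib.Geo.SpSemiClasses.card_polys]; exact pow_ne_zero _ Fintype.card_ne_zero)

/-- Dividing a self-dual polynomial by a double root `c = ±1`. -/
theorem exists_double (h2 : (2 : K) ≠ 0) {d : ℕ} {f : K[X]} (hm : f.Monic) (hd : f.natDegree = d) (hev : Even d)
    (h0 : f.coeff 0 = 1) (hdual : dual (RingHom.id K) f = f) {c : K} (hc : c * c = 1) (hroot : f.eval c = 0) :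
    ∃ h : K[X], h.Monic ∧ f = (X - C c) ^ 2 * h ∧ h.natDegree + 2 = d ∧ h.coeff 0 = 1 ∧
      dual (RingHom.id K) h = h := by
  obtain ⟨g, hd1, hg, hg0⟩ := exists_factor_root (⟨⟨f, hm, hd, by rw [h0]; exact one_ne_zero⟩, hdual⟩ : SD K d) hc hroot
  simp only at hg hg0
  rw [h0, mul_one] at hg0
  have hodd : Odd (d - 1) := Nat.Even.sub_odd hd1 hev odd_one
  have hgroot : g.1.1.eval c = 0 := by
    have h := (eval_selfDual g.2 hc).resolve_right g.1.2.2.2
    refine (mul_eq_zero.1 h).resolve_right fun hh => h2 ?_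
    obtain ⟨m, hm'⟩ := hodd
    have e : c ^ (d - 1) = c := by rw [hm', pow_succ, pow_mul, sq, hc, one_pow, one_mul]
    rw [g.1.2.2.1, hg0, e, neg_mul, hc] at hh
    linear_combination -hh
  obtain ⟨h, hd2, hh, hh0⟩ := exists_factor_root g hc hgroot
  refine ⟨h.1.1, h.1.2.1, by rw [hg, hh]; ring, ?_, ?_, h.2⟩
  · rw [h.1.2.2.1]; omega
  · rw [hh0, hg0]; linear_combination hc

variable (p : ℕ) [Fact p.Prime] [CharP K p]

theorem realQ_of_dual (h2 : (2 : K) ≠ 0) : ∀ d : ℕ, ∀ f : K[X], f.natDegree = d → f.Monic → f.coeff 0 = 1 →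
    dual (RingHom.id K) f = f → Even d → RealQ p f := by
  intro d
  induction d using Nat.strong_induction_on with
  | _ d ih =>
  intro f hfd hfm hf0 hfdual hev
  by_cases hd : f.natDegree = 0
  · rw [hfm.natDegree_eq_zero.1 hd]; exact realQ_one p
  by_cases hR : ∃ c : K, c * c = 1 ∧ f.eval c = 0
  · obtain ⟨c, hc, hroot⟩ := hR
    obtain ⟨h, hhm, hfh, hhd, hh0, hhdual⟩ := exists_double h2 hfm hfd hev hf0 hfdual hc hroot
    have hc0 : (X - C c).coeff 0 ≠ 0 := by simpa using left_ne_zero_of_mul_eq_one hc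
    have hp := realQ_pair p (monic_X_sub_C c) hc0
    rw [dual_X_sub_C hc, ← sq] at hp
    rw [hfh]
    exact hp.mul p (ih h.natDegree (by omega) h rfl hhm hh0 hhdual
      (by rw [← hhd, Nat.even_add] at hev; exact hev.2 even_two))
  push Not at hR
  have hf0' : f.coeff 0 ≠ 0 := by rw [hf0]; exact one_ne_zero
  obtain ⟨P, hPm, hPi, hPf⟩ := Polynomial.exists_monic_irreducible_factor f
    (not_isUnit_of_natDegree_pos f (Nat.pos_of_ne_zero hd))
  have hP0 : P.coeff 0 ≠ 0 := CfsgLib.GLClass.coeff_zero_ne_of_dvd hPf hf0'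
  obtain ⟨B, hBm, hBd, hBr, hBf, hBp, hBev⟩ : ∃ B : K[X], B.Monic ∧
      dual (RingHom.id K) B = B ∧ RealQ p B ∧ B ∣ f ∧ 0 < B.natDegree ∧ B.coeff 0 = 1 ∧ Even B.natDegree := by
    have hne : ∀ c : K, c * c = 1 → ∀ B : K[X], B ∣ f → B.eval c ≠ 0 := fun c hc B hB h0 => by
      obtain ⟨h, rfl⟩ := hB
      exact hR c hc (by rw [eval_mul, h0, zero_mul])
    have key : ∀ B : K[X], B.Monic → dual (RingHom.id K) B = B → RealQ p B → B ∣ f → 0 < B.natDegree →
        ∃ B : K[X], B.Monic ∧ dual (RingHom.id K) B = B ∧ RealQ p B ∧ B ∣ f ∧ 0 < B.natDegree ∧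
          B.coeff 0 = 1 ∧ Even B.natDegree := fun B hm hd hr hf hpos => by
      classical
      have hl := isLayer_of_dual h2 hm (CfsgLib.GLClass.coeff_zero_ne_of_dvd hf hf0') hd
        (hne 1 (one_mul 1) B hf) (hne (-1) (by norm_num) B hf)
      exact ⟨B, hm, hd, hr, hf, hpos, hl.zero, hl.even⟩
    by_cases hPd : dual (RingHom.id K) P = P
    · refine key P hPm hPd (realQ_irreducible p hPm hPi hP0 hPd fun h => ?_) hPf hPi.natDegree_pos
      rw [show (X : K[X]) ^ 2 - 1 = (X - C 1) * (X - C (-1)) by simp; ring] at h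
      rcases hPi.prime.dvd_or_dvd h with h | h
      · have e := eq_of_monic_of_associated hPm (monic_X_sub_C 1) (hPi.associated_of_dvd (irreducible_X_sub_C 1) h)
        exact hne 1 (one_mul 1) P hPf (by rw [e]; simp)
      · have e := eq_of_monic_of_associated hPm (monic_X_sub_C _) (hPi.associated_of_dvd (irreducible_X_sub_C _) h)
        exact hne (-1) (by norm_num) P hPf (by rw [e]; simp)
    · refine key (P * dual (RingHom.id K) P) (hPm.mul (monic_dual _ hP0))
        (by rw [dual_mul, dual_dual _ (fun a => rfl) hPm hP0, mul_comm]) (realQ_pair p hPm hP0) ?_ ?_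
      · have hQf : dual (RingHom.id K) P ∣ f := by
          obtain ⟨R', hR'⟩ := hPf
          exact ⟨dual (RingHom.id K) R', by rw [← dual_mul, ← hR', hfdual]⟩
        refine IsCoprime.mul_dvd (hPi.coprime_iff_not_dvd.2 fun h => hPd ?_) hPf hQf
        exact eq_of_monic_of_dvd_of_natDegree_le hPm (monic_dual _ hP0) h (natDegree_dual _ hP0).le
      · rw [hPm.natDegree_mul (monic_dual _ hP0)]; have := hPi.natDegree_pos; omega
  obtain ⟨hB0, hBe⟩ := hBev
  obtain ⟨h, rfl⟩ := hBf
  have hhm : h.Monic := hBm.of_mul_monic_left hfm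
  have hdd := hBm.natDegree_mul hhm
  refine hBr.mul p (ih h.natDegree (by omega) h rfl hhm ?_ ?_ ?_)
  · rwa [mul_coeff_zero, hB0, one_mul] at hf0
  · rw [dual_mul, hBd] at hfdual
    exact mul_left_cancel₀ hBm.ne_zero hfdual
  · rw [← hfd, hdd] at hev
    exact (Nat.even_add.1 hev).1 hBe

theorem exists_realE (h2 : (2 : K) ≠ 0) {m : ℕ} (f : SDP K m) :
    ∃ ε : ℤ, (ε = 1 ∨ ε = -1) ∧ RealE p f.1 m ε := by
  obtain ⟨N, g, M, hgo, hgc, hgq⟩ := realQ_of_dual p h2 (m + m) f.1 f.2.2.1 f.2.1 f.2.2.2.1 f.2.2.2.2 ⟨m, rfl⟩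
  have hN : N = 2 * m := by
    have := f.2.2.1
    rw [← hgc, Matrix.charpoly_natDegree_eq_dim, Fintype.card_fin] at this
    omega
  obtain ⟨ε, hε, hE⟩ := exists_etype (qf_nondeg hgq.2) (k := m) (by rw [Module.finrank_fin_fun, hN])
  exact ⟨ε, hε, N, g, M, hN, hgo, hgc, hgq, hE⟩

theorem realE_of_root (h2 : (2 : K) ≠ 0) {n : ℕ} (f : SDP K n) (hroot : f.1.eval 1 = 0) {ε : ℤ}
    (hε : ε = 1 ∨ ε = -1) : RealE p f.1 n ε := by
  obtain ⟨h, hhm, hfh, hhd, hh0, hhdual⟩ :=
    exists_double h2 f.2.1 f.2.2.1 ⟨n, rfl⟩ f.2.2.2.1 f.2.2.2.2 (one_mul 1) hroot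
  obtain ⟨m, rfl⟩ : ∃ m, n = m + 1 := ⟨n - 1, by omega⟩
  obtain ⟨δ, hδ, hE⟩ := exists_realE p h2 (⟨h, hhm, by omega, hh0, hhdual⟩ : SDP K m)
  have := realE_padded p hE 1 ε (by
    rcases hε with rfl | rfl <;> rcases hδ with rfl | rfl <;> simp)
  rw [mul_one] at this
  rwa [hfh, mul_comm]

/-! ## Types and discriminants -/

section DiscType

variable [DecidableEq K]

theorem disc_plus (m : ℕ) :
    disc (QuadraticMap.polarBilin (CfsgLib.Quad.plusQ (F := K) m)) = quadraticChar K ((-1) ^ m) := by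
  classical
  rw [disc_basis _ (Pi.basisFun K _)]
  have hM : LinearMap.BilinForm.toMatrix (Pi.basisFun K (Fin m ⊕ Fin m))
      (QuadraticMap.polarBilin (CfsgLib.Quad.plusQ (F := K) m)) =
      Matrix.fromBlocks (-1) 0 0 1 * Matrix.J (Fin m) K := by
    rw [Matrix.J, Matrix.fromBlocks_multiply]
    funext i j
    rw [LinearMap.BilinForm.toMatrix_apply, Pi.basisFun_apply, Pi.basisFun_apply,
      QuadraticMap.polarBilin_apply_apply, QuadraticMap.polar, CfsgLib.Quad.plusQ_coe]
    rcases i with i | i <;> rcases j with j | j <;>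
      simp [Cfsg.quadFormPlus, Pi.single_apply, Matrix.one_apply, add_mul, mul_add, Finset.sum_add_distrib, eq_comm]
  rw [hM, Matrix.det_mul, Matrix.det_fromBlocks_zero₂₁, Matrix.det_one, mul_one, Matrix.det_neg, Matrix.det_one,
    mul_one, Fintype.card_fin, SymplecticGroup.det_eq_one (SymplecticGroup.J_mem (Fin m) K), mul_one]

theorem disc_minus (h2 : (2 : K) ≠ 0) (m : ℕ) {a b : K}
    (hab : ∀ z₁ z₂ : K, z₁ ^ 2 + a * z₁ * z₂ + b * z₂ ^ 2 = 0 → z₁ = 0 ∧ z₂ = 0) :
    disc (QuadraticMap.polarBilin (CfsgLib.Quad.minusQ (F := K) m a b)) = -quadraticChar K ((-1) ^ (m + 1)) := by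
  classical
  rw [disc_basis _ (Pi.basisFun K _)]
  have hM : LinearMap.BilinForm.toMatrix (Pi.basisFun K ((Fin m ⊕ Fin m) ⊕ Fin 2))
      (QuadraticMap.polarBilin (CfsgLib.Quad.minusQ (F := K) m a b)) =
      Matrix.fromBlocks (Matrix.fromBlocks (-1) 0 0 1 * Matrix.J (Fin m) K) 0 0 !![2, a; a, 2 * b] := by
    rw [Matrix.J, Matrix.fromBlocks_multiply]
    funext i j
    rw [LinearMap.BilinForm.toMatrix_apply, Pi.basisFun_apply, Pi.basisFun_apply,
      QuadraticMap.polarBilin_apply_apply, QuadraticMap.polar, CfsgLib.Quad.minusQ_coe]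
    rcases i with (i | i) | i <;> rcases j with (j | j) | j <;>
      (try fin_cases i) <;> (try fin_cases j) <;>
      simp [Cfsg.quadFormMinus, Pi.single_apply, Matrix.one_apply, add_mul, mul_add, Finset.sum_add_distrib,
        eq_comm] <;> ring
  have hns : ¬IsSquare (a ^ 2 - 4 * b) := by
    rintro ⟨r, hr⟩
    have h := hab ((-a + r) / 2) 1 (by field_simp; linear_combination -hr)
    exact one_ne_zero h.2
  have hdet : (!![2, a; a, 2 * b] : Matrix (Fin 2) (Fin 2) K).det = -1 * (a ^ 2 - 4 * b) := by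
    rw [Matrix.det_fin_two]; simp; ring
  rw [hM, Matrix.det_fromBlocks_zero₂₁, Matrix.det_mul, Matrix.det_fromBlocks_zero₂₁, Matrix.det_one, mul_one,
    Matrix.det_neg, Matrix.det_one, mul_one, Fintype.card_fin,
    SymplecticGroup.det_eq_one (SymplecticGroup.J_mem (Fin m) K), mul_one, hdet, ← mul_assoc, ← pow_succ, map_mul,
    quadraticChar_neg_one_iff_not_isSquare.2 hns, mul_neg_one]

theorem disc_etype (h2 : (2 : K) ≠ 0) {ν : Type*} [Fintype ν] {Q : QuadraticForm K (ν → K)}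
    (hQ : (QuadraticMap.polarBilin Q).Nondegenerate) {k : ℕ} (hk : 1 ≤ k) (hV : Fintype.card ν = 2 * k) {ε : ℤ}
    (hε : ε = 1 ∨ ε = -1) (hE : EType (⇑Q) k ε) :
    disc (QuadraticMap.polarBilin Q) = ε * quadraticChar K ((-1) ^ k) := by
  classical
  rcases hε with rfl | rfl
  · obtain ⟨φ, hφ⟩ := exists_equiv hQ (CfsgLib.Quad.plusQ_nondeg k) (k := k)
      (by rw [Module.finrank_fintype_fun_eq_card, hV])
      (by rw [Module.finrank_fintype_fun_eq_card, Fintype.card_sum, Fintype.card_fin]; omega) hE (etype_plus k)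
    rw [one_mul, ← disc_plus]
    exact (disc_of_similar φ fun x y => by
      simp only [QuadraticMap.polarBilin_apply_apply, QuadraticMap.polar, ← map_add, hφ]).symm
  · obtain ⟨a, b, hab⟩ := CfsgLib.AutPOm.exists_aniso_pair K
    obtain ⟨m, rfl⟩ : ∃ m, k = m + 1 := ⟨k - 1, by omega⟩
    obtain ⟨φ, hφ⟩ := exists_equiv hQ (CfsgLib.Quad.minusQ_nondeg hab m) (k := m + 1)
      (by rw [Module.finrank_fintype_fun_eq_card, hV])
      (by simp [Module.finrank_fintype_fun_eq_card]; omega) hE (etype_minus hab m)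
    rw [neg_one_mul, ← disc_minus h2 m hab]
    exact (disc_of_similar φ fun x y => by
      simp only [QuadraticMap.polarBilin_apply_apply, QuadraticMap.polar, ← map_add, hφ]).symm

theorem realE_of_char (h2 : (2 : K) ≠ 0) {n : ℕ} (hn : 1 ≤ n) (f : SDP K n)
    (hne : f.1.eval 1 * f.1.eval (-1) ≠ 0) {ε : ℤ} (hε : ε = 1 ∨ ε = -1)
    (hch : quadraticChar K (f.1.eval 1 * f.1.eval (-1)) = ε * quadraticChar K ((-1) ^ n)) : RealE p f.1 n ε := by
  classical
  obtain ⟨δ, hδ, N, g, M, hN, hgo, hgc, hgq, hE⟩ := exists_realE p h2 f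
  suffices h : δ = ε from h ▸ ⟨N, g, M, hN, hgo, hgc, hgq, hE⟩
  set T := Matrix.toLin' g.val with hTdef
  have hB : IsForm (1 : K) (QuadraticMap.polarBilin (qf M)) := isForm_polar _ (qf_nondeg hgq.2)
  have hT : IsIsom (QuadraticMap.polarBilin (qf M)) T := fun x y => by
    simp only [QuadraticMap.polarBilin_apply_apply, hTdef, Matrix.toLin'_apply, QuadraticMap.polar,
      ← Matrix.mulVec_add, hgq.map_qf]
  have hfix : ∀ c : K, f.1.eval c ≠ 0 → ∀ x : Fin N → K, T x = c • x → x = 0 := by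
    intro c hc x hx
    by_contra hx0
    refine hc ?_
    rw [← hgc, Matrix.eval_charpoly]
    refine Matrix.exists_mulVec_eq_zero_iff.1 ⟨x, hx0, ?_⟩
    rw [Matrix.sub_mulVec, sub_eq_zero, ← Matrix.toLin'_apply g.val, ← hTdef, hx, Matrix.scalar_apply]
    funext i
    rw [Matrix.mulVec_diagonal]; rfl
  have hno : ∀ x, T (T x) = x → x = 0 := by
    intro x hx
    have h1 := hfix 1 (left_ne_zero_of_mul hne) (T x + x) (by rw [map_add, hx, one_smul, add_comm])
    exact hfix (-1) (right_ne_zero_of_mul hne) x (by rw [neg_one_smul, eq_neg_iff_add_eq_zero, h1])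
  have hd := disc_rest hB hT hno h2
  rw [show (matOf T).charpoly = f.1 by rw [matOf, LinearMap.charpoly_toMatrix, hTdef, Matrix.charpoly_toLin', hgc],
    disc_etype h2 (qf_nondeg hgq.2) hn (by rw [Fintype.card_fin, hN]) hδ hE, hch] at hd
  refine mul_right_cancel₀ ?_ hd
  rw [ne_eq, quadraticChar_eq_zero_iff]
  exact pow_ne_zero _ (neg_ne_zero.2 one_ne_zero)

end DiscType

/-! ## Counting -/

/-- The bump polynomial: `1` at `s`, `0` at `-s`, symmetric. -/
noncomputable def bump (n : ℕ) (s : K) : K[X] :=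
  C (4 * s ^ (n + 1))⁻¹ * (X ^ (n + 1) + C (2 * s) * X ^ n + X ^ (n - 1))

theorem bump_eval {n : ℕ} (hn : 1 ≤ n) (h2 : (2 : K) ≠ 0) {s : K} (hs : s * s = 1) :
    (bump n s).eval s = 1 ∧ (bump n s).eval (-s) = 0 := by
  obtain ⟨m, rfl⟩ : ∃ m, n = m + 1 := ⟨n - 1, by omega⟩
  have hs0 : s ≠ 0 := left_ne_zero_of_mul_eq_one hs
  have h4 : (4 : K) ≠ 0 := by rw [show (4 : K) = 2 * 2 by norm_num]; exact mul_ne_zero h2 h2
  constructor
  · simp only [bump, eval_mul, eval_add, eval_pow, eval_X, eval_C, Nat.add_sub_cancel]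
    rw [show s ^ (m + 1 + 1) + 2 * s * s ^ (m + 1) + s ^ m = 4 * s ^ (m + 1 + 1) by
      linear_combination (-(s ^ m)) * hs]
    exact inv_mul_cancel₀ (mul_ne_zero h4 (pow_ne_zero _ hs0))
  · simp only [bump, eval_mul, eval_add, eval_pow, eval_X, eval_C, Nat.add_sub_cancel]
    rw [show (-s) ^ (m + 1 + 1) + 2 * s * (-s) ^ (m + 1) + (-s) ^ m = 0 by
      linear_combination (-((-s) ^ m)) * hs, mul_zero]

theorem add_bump_mem {n : ℕ} (hn : 2 ≤ n) (f : SDP K n) (c : K) (s : K) :
    (f.1 + C c * bump n s).Monic ∧ (f.1 + C c * bump n s).natDegree = n + n ∧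
      (f.1 + C c * bump n s).coeff 0 = 1 ∧
      dual (RingHom.id K) (f.1 + C c * bump n s) = f.1 + C c * bump n s := by
  set g := f.1 + C c * bump n s with hg
  have hb : ∀ k, (C c * bump n s).coeff k = c * (4 * s ^ (n + 1))⁻¹ *
      ((if k = n + 1 then 1 else 0) + (if k = n then 2 * s else 0) + (if k = n - 1 then 1 else 0)) := fun k => by
    rw [bump, ← mul_assoc, ← C_mul, coeff_C_mul, coeff_add, coeff_add, coeff_C_mul, coeff_X_pow, coeff_X_pow,
      coeff_X_pow, mul_ite, mul_one, mul_zero]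
  have hco : ∀ k, g.coeff k = f.1.coeff k + (C c * bump n s).coeff k := fun k => coeff_add _ _ _
  have hzero : ∀ k, (k = 0 ∨ n + n ≤ k) → (C c * bump n s).coeff k = 0 := fun k hk => by
    rw [hb, if_neg (by omega), if_neg (by omega), if_neg (by omega)]; ring
  have htop : g.coeff (n + n) = 1 := by
    rw [hco, hzero _ (Or.inr le_rfl), add_zero]
    have := f.2.1.coeff_natDegree
    rwa [f.2.2.1] at this
  have hdeg : g.natDegree = n + n :=
    natDegree_eq_of_le_of_coeff_ne_zero (natDegree_le_iff_coeff_eq_zero.2 fun k hk => by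
      rw [hco, hzero _ (Or.inr hk.le), coeff_eq_zero_of_natDegree_lt (by rw [f.2.2.1]; exact hk), add_zero])
      (by rw [htop]; exact one_ne_zero)
  have h0 : g.coeff 0 = 1 := by rw [hco, hzero _ (Or.inl rfl), add_zero, f.2.2.2.1]
  refine ⟨by rw [Monic, leadingCoeff, hdeg, htop], hdeg, h0, Polynomial.ext fun k => ?_⟩
  rcases le_or_gt k (n + n) with hk | hk
  · rw [coeff_dual _ (hdeg.symm ▸ hk), hdeg, h0, map_one, inv_one, one_mul, RingHom.id_apply, hco, hco,
      ← sdp_sym f k hk, hb, hb]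
    congr 2
    split_ifs <;> first | omega | ring
  · rw [coeff_eq_zero_of_natDegree_lt (p := g) (by omega), coeff_eq_zero_of_natDegree_lt]
    rw [natDegree_dual _ (by rw [h0]; exact one_ne_zero)]; omega

/-- Add a multiple of a bump. -/
noncomputable def addBump {n : ℕ} (hn : 2 ≤ n) (f : SDP K n) (c s : K) : SDP K n :=
  ⟨f.1 + C c * bump n s, add_bump_mem hn f c s⟩

theorem eval_addBump {n : ℕ} (hn : 2 ≤ n) (f : SDP K n) (c s x : K) :
    (addBump hn f c s).1.eval x = f.1.eval x + c * (bump n s).eval x := by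
  simp [addBump]

theorem card_root {n : ℕ} (hn : 2 ≤ n) (h2 : (2 : K) ≠ 0) {s : K} (hs : s * s = 1) :
    Nat.card {f : SDP K n // f.1.eval s = 0} * Fintype.card K = Fintype.card K ^ n := by
  have he := (bump_eval (n := n) (by omega) h2 hs).1
  rw [← CfsgLib.Geo.SpSemiClasses.card_polys (K := K) n, ← Nat.card_eq_fintype_card (α := K), ← Nat.card_prod]
  refine Nat.card_eq_of_bijective (fun z => addBump hn z.1.1 z.2 s) ⟨fun z w h => ?_, fun f => ?_⟩
  · have h1 := congrArg (fun g : SDP K n => g.1.eval s) h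
    simp only [eval_addBump, z.1.2, w.1.2, he, zero_add, mul_one] at h1
    have h2' : z.1.1.1 + C z.2 * bump n s = w.1.1.1 + C w.2 * bump n s := congrArg Subtype.val h
    rw [h1] at h2'
    exact Prod.ext (Subtype.ext (Subtype.ext (add_right_cancel h2'))) h1
  · refine ⟨(⟨addBump hn f (-f.1.eval s) s, by rw [eval_addBump, he]; ring⟩, f.1.eval s), Subtype.ext ?_⟩
    simp [addBump]

theorem card_char {n : ℕ} (hn : 2 ≤ n) (h2 : (2 : K) ≠ 0) [DecidableEq K] {ν : K} (hν : ¬IsSquare ν) (δ : ℤ) :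
    Nat.card {f : SDP K n // quadraticChar K (f.1.eval 1 * f.1.eval (-1)) = δ} ≤
      Nat.card {f : SDP K n // quadraticChar K (f.1.eval 1 * f.1.eval (-1)) = -δ} := by
  haveI := finite_sdp (K := K) n
  obtain ⟨he, he'⟩ := bump_eval (n := n) (by omega) h2 (one_mul (1 : K))
  have hν0 : ν ≠ 0 := fun h => hν (by rw [h]; exact IsSquare.zero)
  have h1 : ∀ f : SDP K n, (addBump hn f ((ν - 1) * f.1.eval 1) 1).1.eval 1 = ν * f.1.eval 1 := fun f => by
    rw [eval_addBump, he]; ring
  have h1' : ∀ f : SDP K n, (addBump hn f ((ν - 1) * f.1.eval 1) 1).1.eval (-1) = f.1.eval (-1) := fun f => by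
    rw [eval_addBump, he', mul_zero, add_zero]
  refine Nat.card_le_card_of_injective
    (fun f => ⟨addBump hn f.1 ((ν - 1) * f.1.1.eval 1) 1, ?_⟩) fun f g h => ?_
  · rw [h1, h1', mul_assoc, map_mul, quadraticChar_neg_one_iff_not_isSquare.2 hν, f.2, neg_one_mul]
  · have e := congrArg Subtype.val h
    have e1 := congrArg (fun g : SDP K n => g.1.eval 1) e
    simp only [h1] at e1
    have e2 : f.1.1.eval 1 = g.1.1.eval 1 := mul_left_cancel₀ hν0 e1
    have e3 : f.1.1 + C ((ν - 1) * f.1.1.eval 1) * bump n 1 = g.1.1 + C ((ν - 1) * g.1.1.eval 1) * bump n 1 :=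
      congrArg Subtype.val e
    rw [e2] at e3
    exact Subtype.ext (Subtype.ext (add_right_cancel e3))

omit p in
theorem card_classes_ge {ι : Type} [Fintype ι] [DecidableEq ι] [DecidableEq K] (h2 : (2 : K) ≠ 0) {n : ℕ}
    (hn : 2 ≤ n) (Q : QuadraticForm K (ι → K)) (hQ : (QuadraticMap.polarBilin Q).Nondegenerate)
    (hcard : Fintype.card ι = n + n) {ε : ℤ} (hε : ε = 1 ∨ ε = -1) (hE : EType (⇑Q) n ε) :
    Fintype.card K ^ n ≤ 2 * Nat.card (ConjClasses (Cfsg.isometryGroup K ⇑Q)) := by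
  classical
  obtain ⟨p, hp⟩ := CharP.exists K
  haveI := hp
  haveI : Fact p.Prime := ⟨CharP.char_is_prime K p⟩
  haveI := finite_sdp (K := K) n
  haveI := Fintype.ofFinite (SDP K n)
  obtain ⟨ν, hν⟩ := FiniteField.exists_nonsquare (F := K) (fun h => h2 (by
    haveI := ringChar.charP K
    rw [h] at this
    exact CharTwo.two_eq_zero))
  set τ : ℤ := ε * quadraticChar K ((-1) ^ n) with hτdef
  have hτ : τ = 1 ∨ τ = -1 := by
    rcases quadraticChar_dichotomy (pow_ne_zero n (neg_ne_zero.2 (one_ne_zero (α := K)))) with h | h <;>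
      rcases hε with rfl | rfl <;> rw [hτdef, h] <;> norm_num
  have hreal : ∀ f : SDP K n, (f.1.eval 1 = 0 ∨ quadraticChar K (f.1.eval 1 * f.1.eval (-1)) = τ) →
      ∃ g : Cfsg.isometryGroup K ⇑Q, (g.1 : GL ι K).val.charpoly = f.1 := by
    intro f hf
    have hR : RealE p f.1 n ε := by
      rcases hf with h | h
      · exact realE_of_root p h2 f h hε
      · refine realE_of_char p h2 (by omega) f (fun h0 => ?_) hε h
        rw [h0, quadraticChar_zero] at h
        omega
    obtain ⟨N, g, M, hN, -, hgc, hgq, hE'⟩ := hR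
    obtain ⟨φ, hφ⟩ := exists_equiv hQ (qf_nondeg hgq.2) (k := n)
      (by rw [Module.finrank_fintype_fun_eq_card, hcard, two_mul]) (by rw [Module.finrank_fin_fun, hN]) hE hE'
    obtain ⟨h, hh, -, hhc⟩ := transfer hgq (⇑Q) φ one_ne_zero fun v => by rw [hφ, one_mul]
    exact ⟨⟨h, fun u _ => hh u⟩, hhc.trans hgc⟩
  choose r hr using hreal
  let R := {f : SDP K n // f.1.eval 1 = 0 ∨ quadraticChar K (f.1.eval 1 * f.1.eval (-1)) = τ}
  have hR : Nat.card R ≤ Nat.card (ConjClasses (Cfsg.isometryGroup K ⇑Q)) := by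
    refine Nat.card_le_card_of_injective (fun f : R => ConjClasses.mk (r f.1 f.2)) fun f g h => ?_
    obtain ⟨c, hc⟩ := isConj_iff.1 (ConjClasses.mk_eq_mk_iff_isConj.1 h)
    refine Subtype.ext (Subtype.ext ?_)
    rw [← hr f.1 f.2, ← hr g.1 g.2, ← hc]
    rw [Subgroup.coe_mul, Subgroup.coe_mul, Subgroup.coe_inv, Units.val_mul, Units.val_mul, Matrix.coe_units_inv,
      Matrix.charpoly_units_conj]
  have hcount : Fintype.card K ^ n ≤ 2 * Nat.card R := by
    have hq0 : 0 < Fintype.card K := Fintype.card_pos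
    have hZ : Nat.card {f : SDP K n // f.1.eval (-1) = 0} = Nat.card {f : SDP K n // f.1.eval 1 = 0} :=
      Nat.eq_of_mul_eq_mul_right hq0 ((card_root hn h2 (by norm_num)).trans (card_root hn h2 (one_mul 1)).symm)
    have hC := card_char (n := n) hn h2 hν (-τ)
    rw [neg_neg] at hC
    rw [← CfsgLib.Geo.SpSemiClasses.card_polys (K := K) n]
    simp only [R, Nat.card_eq_fintype_card, Fintype.card_subtype] at hZ hC ⊢
    have hsplit : ∀ f : SDP K n, (f.1.eval 1 = 0 ∨ f.1.eval (-1) = 0) ∨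
        (quadraticChar K (f.1.eval 1 * f.1.eval (-1)) = τ ∨
          quadraticChar K (f.1.eval 1 * f.1.eval (-1)) = -τ) := by
      intro f
      by_cases h0 : f.1.eval 1 * f.1.eval (-1) = 0
      · exact Or.inl (mul_eq_zero.1 h0)
      · exact Or.inr (by rcases quadraticChar_dichotomy h0 with h | h <;> rw [h] <;> omega)
    have hall : (Finset.univ : Finset (SDP K n)) =
        Finset.univ.filter (fun f => f.1.eval 1 = 0) ∪ Finset.univ.filter (fun f => f.1.eval (-1) = 0) ∪
        (Finset.univ.filter (fun f => quadraticChar K (f.1.eval 1 * f.1.eval (-1)) = τ) ∪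
          Finset.univ.filter (fun f => quadraticChar K (f.1.eval 1 * f.1.eval (-1)) = -τ)) := by
      ext f
      simpa [or_assoc] using hsplit f
    have hdisj : Disjoint (Finset.univ.filter fun f : SDP K n => f.1.eval 1 = 0)
        (Finset.univ.filter fun f : SDP K n => quadraticChar K (f.1.eval 1 * f.1.eval (-1)) = τ) := by
      refine Finset.disjoint_filter.2 fun f _ h h' => ?_
      rw [h, zero_mul, quadraticChar_zero] at h'
      omega
    rw [← Finset.card_univ, Finset.filter_or, Finset.card_union_of_disjoint hdisj]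
    conv_lhs => rw [hall]
    refine (Finset.card_union_le _ _).trans ((Nat.add_le_add (Finset.card_union_le _ _) (Finset.card_union_le _ _)).trans ?_)
    omega
  omega

end CfsgLib.Geo.FormClasses
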