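import Mathlib.GroupTheory.GroupAction.CardCommute
import Mathlib.GroupTheory.GroupAction.ConjAct
import Mathlib.GroupTheory.GroupAction.Quotient
import Mathlib.Algebra.Group.Subgroup.Finite
import Mathlib.Tactic

/-!
# Classes of a subgroup of index two

With `a` the number of classes whose centralisers lie in the subgroup `H`, `4 k(H) = 2 k(G) + 6 a`.
-/

set_option autoImplicit false

namespace CfsgLib.Geo.FormClasses

variable {G : Type*} [Group G] [Finite G]

theorem card_pairs_of_class (c : ConjClasses G) :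
    Nat.card {p : G × G // ConjClasses.mk p.1 = c ∧ Commute p.1 p.2} = Nat.card G := by
  classical
  haveI := Fintype.ofFinite G
  obtain ⟨x0, rfl⟩ := ConjClasses.exists_rep c
  let O := MulAction.orbit (ConjAct G) x0
  let e : {p : G × G // ConjClasses.mk p.1 = ConjClasses.mk x0 ∧ Commute p.1 p.2} ≃
      Σ x : O, MulAction.stabilizer (ConjAct G) (x : G) :=
    { toFun := fun p => ⟨⟨p.1.1, by
          show p.1.1 ∈ MulAction.orbit (ConjAct G) x0
          rw [ConjAct.orbit_eq_carrier_conjClasses, ConjClasses.mem_carrier_iff_mk_eq]; exact p.2.1⟩,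
        ⟨ConjAct.toConjAct p.1.2, by
          rw [MulAction.mem_stabilizer_iff, ConjAct.smul_def, ConjAct.ofConjAct_toConjAct]
          exact mul_inv_eq_iff_eq_mul.2 p.2.2.symm.eq⟩⟩
      invFun := fun z => ⟨(z.1.1, ConjAct.ofConjAct z.2.1), by
          have h := z.1.2
          simp only [O, ConjAct.orbit_eq_carrier_conjClasses, ConjClasses.mem_carrier_iff_mk_eq] at h
          exact h, by
          have h := MulAction.mem_stabilizer_iff.1 z.2.2
          rw [ConjAct.smul_def] at h
          exact (mul_inv_eq_iff_eq_mul.1 h).symm⟩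
      left_inv := fun p => by rfl
      right_inv := fun z => by rfl }
  rw [Nat.card_congr e, Nat.card_sigma]
  have hconst : ∀ x : O, Nat.card (MulAction.stabilizer (ConjAct G) (x : G)) * Nat.card O = Nat.card G := by
    intro x
    rw [show Nat.card O = Nat.card (MulAction.orbit (ConjAct G) (x : G)) by
        rw [MulAction.orbit_eq_iff.2 x.2], mul_comm, Nat.card_eq_fintype_card, Nat.card_eq_fintype_card,
      MulAction.card_orbit_mul_card_stabilizer_eq_card_group, Nat.card_eq_fintype_card]
    exact Fintype.card_congr ConjAct.ofConjAct.toEquiv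
  have hO : 0 < Nat.card O := by
    haveI : Nonempty O := ⟨⟨x0, MulAction.mem_orbit_self x0⟩⟩
    exact Nat.card_pos
  refine Nat.eq_of_mul_eq_mul_right hO ?_
  rw [Finset.sum_mul, Finset.sum_congr rfl fun x _ => hconst x, Finset.sum_const, Finset.card_univ,
    ← Nat.card_eq_fintype_card, smul_eq_mul, mul_comm]

theorem card_pairs_of_classes (P : ConjClasses G → Prop) :
    Nat.card {p : G × G // P (ConjClasses.mk p.1) ∧ Commute p.1 p.2} = Nat.card {c // P c} * Nat.card G := by
  classical
  haveI := Fintype.ofFinite G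
  let e : {p : G × G // P (ConjClasses.mk p.1) ∧ Commute p.1 p.2} ≃
      Σ c : {c // P c}, {p : G × G // ConjClasses.mk p.1 = c.1 ∧ Commute p.1 p.2} :=
    { toFun := fun p => ⟨⟨_, p.2.1⟩, ⟨p.1, rfl, p.2.2⟩⟩
      invFun := fun z => ⟨z.2.1, z.2.2.1.symm ▸ z.1.2, z.2.2.2⟩
      left_inv := fun p => rfl
      right_inv := fun z => Sigma.subtype_ext (Subtype.ext z.2.2.1) rfl }
  haveI : Fintype {c : ConjClasses G // P c} := Fintype.ofFinite _
  rw [Nat.card_congr e, Nat.card_sigma, Finset.sum_congr rfl fun c _ => card_pairs_of_class c.1, Finset.sum_const,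
    Finset.card_univ, smul_eq_mul, Nat.card_eq_fintype_card (α := {c // P c})]

/-- Classes all of whose elements have their centralisers in the kernel. -/
def Inner (φ : G →* ℤˣ) (c : ConjClasses G) : Prop :=
  ∀ x, ConjClasses.mk x = c → φ x = 1 ∧ ∀ y, Commute x y → φ y = 1

theorem split_formula (φ : G →* ℤˣ) {g1 : G} (hg1 : φ g1 = -1) :
    4 * Nat.card (ConjClasses φ.ker) = 2 * Nat.card (ConjClasses G) + 6 * Nat.card {c // Inner φ c} := by
  classical
  haveI := Fintype.ofFinite G
  let S : ℤˣ → ℤˣ → ℕ := fun s t => Nat.card {p : G × G // φ p.1 = s ∧ φ p.2 = t ∧ Commute p.1 p.2}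
  have hu : ∀ s : ℤˣ, s = 1 ∨ s = -1 := Int.units_eq_one_or
  have hswap : S (-1) 1 = S 1 (-1) := Nat.card_congr ((Equiv.prodComm G G).subtypeEquiv fun p =>
    ⟨fun h => ⟨h.2.1, h.1, h.2.2.symm⟩, fun h => ⟨h.2.1, h.1, h.2.2.symm⟩⟩)
  have hshift : S (-1) (-1) = S (-1) 1 := Nat.card_congr
    (({ toFun := fun p => (p.1, p.1 * p.2), invFun := fun p => (p.1, p.1⁻¹ * p.2),
        left_inv := fun p => by simp, right_inv := fun p => by simp } : G × G ≃ G × G).subtypeEquiv fun p => by
      constructor
      · rintro ⟨h1, h2, h3⟩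
        exact ⟨h1, by simp [h1, h2], (Commute.refl p.1).mul_right h3⟩
      · rintro ⟨h1, h2, h3⟩
        change φ p.1 = -1 at h1
        change φ (p.1 * p.2) = 1 at h2
        change Commute p.1 (p.1 * p.2) at h3
        refine ⟨h1, ?_, ?_⟩
        · rw [map_mul, h1, neg_one_mul, neg_eq_iff_eq_neg] at h2; exact h2
        · have h4 := ((Commute.refl p.1).inv_right).mul_right h3
          rwa [inv_mul_cancel_left] at h4)
  have hall : S 1 1 + S 1 (-1) + (S (-1) 1 + S (-1) (-1)) = Nat.card (ConjClasses G) * Nat.card G := by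
    rw [← card_comm_eq_card_conjClasses_mul_card]
    simp only [S, Nat.card_eq_fintype_card, Fintype.card_subtype]
    rw [← Finset.card_union_of_disjoint ?_, ← Finset.card_union_of_disjoint ?_,
      ← Finset.card_union_of_disjoint ?_]
    · congr 1
      ext p
      rcases hu (φ p.1) with a | a <;> rcases hu (φ p.2) with b | b <;> simp [a, b]
    all_goals
      rw [Finset.disjoint_left]
      intro p hp hp'
      simp only [Finset.mem_union, Finset.mem_filter] at hp hp'
      rcases hu (φ p.1) with a | a <;> rcases hu (φ p.2) with b | b <;> simp [a, b] at hp hp'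
  have hker : S 1 1 = Nat.card (ConjClasses φ.ker) * Nat.card φ.ker := by
    rw [← card_comm_eq_card_conjClasses_mul_card]
    exact Nat.card_congr
      { toFun := fun p => ⟨(⟨p.1.1, p.2.1⟩, ⟨p.1.2, p.2.2.1⟩), Subtype.ext p.2.2.2.eq⟩
        invFun := fun z => ⟨(z.1.1.1, z.1.2.1), z.1.1.2, z.1.2.2, congrArg Subtype.val z.2.eq⟩
        left_inv := fun p => rfl
        right_inv := fun z => rfl }
  have hG : Nat.card G = 2 * Nat.card φ.ker := by
    have h := φ.ker.card_mul_index
    rw [Subgroup.index_ker, MonoidHom.range_eq_top.2 (fun y => (hu y).elim (fun e => ⟨1, by rw [map_one, e]⟩)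
      fun e => ⟨g1, by rw [hg1, e]⟩), Subgroup.card_top] at h
    rw [← h, mul_comm, Nat.card_eq_fintype_card (α := ℤˣ)]
    rfl
  have hA := card_pairs_of_classes (fun c : ConjClasses G => Inner φ c)
  have hsplit : S 1 1 = S 1 (-1) + Nat.card {c // Inner φ c} * Nat.card G := by
    rw [← hA]
    let A : Type _ := {p : G × G // Inner φ (ConjClasses.mk p.1) ∧ Commute p.1 p.2}
    let B : Type _ := {p : G × G // φ p.1 = 1 ∧ φ p.2 = 1 ∧ Commute p.1 p.2 ∧ ¬Inner φ (ConjClasses.mk p.1)}
    have e1 : S 1 1 = Nat.card B + Nat.card A := by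
      simp only [S, A, B, Nat.card_eq_fintype_card, Fintype.card_subtype]
      rw [← Finset.card_union_of_disjoint]
      · congr 1
        ext p
        simp only [Finset.mem_filter, Finset.mem_univ, true_and, Finset.mem_union]
        constructor
        · rintro ⟨a, b, c⟩
          by_cases hi : Inner φ (ConjClasses.mk p.1)
          · exact Or.inr ⟨hi, c⟩
          · exact Or.inl ⟨a, b, c, hi⟩
        · rintro (⟨a, b, c, -⟩ | ⟨hi, c⟩)
          · exact ⟨a, b, c⟩
          · exact ⟨(hi p.1 rfl).1, (hi p.1 rfl).2 p.2 c, c⟩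
      · rw [Finset.disjoint_left]
        intro p hp hp'
        simp only [Finset.mem_filter] at hp hp'
        exact hp.2.2.2.2 hp'.2.1
    have hex : ∀ x : G, φ x = 1 → ¬Inner φ (ConjClasses.mk x) → ∃ z, Commute x z ∧ φ z = -1 := by
      intro x hx hni
      by_contra hno
      push Not at hno
      refine hni fun x' hx' => ?_
      obtain ⟨g, hg⟩ := isConj_iff.1 (ConjClasses.mk_eq_mk_iff_isConj.1 hx'.symm)
      refine ⟨?_, fun y hy => (hu _).resolve_right fun hy' => hno (g⁻¹ * y * g) ?_ ?_⟩
      · rw [← hg, map_mul, map_mul, map_inv, hx, mul_one, mul_inv_cancel]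
      · have h3 := (Commute.conj_iff g⁻¹).2 hy
        rw [← hg, inv_inv] at h3
        simpa [mul_assoc] using h3
      · rw [map_mul, map_mul, map_inv, hy', mul_neg_one, neg_mul, inv_mul_cancel]
    choose! z hz using hex
    have e2 : S 1 (-1) = Nat.card B := by
      refine Nat.card_congr
        { toFun := fun p => ⟨(p.1.1, (z p.1.1)⁻¹ * p.1.2), ?_⟩
          invFun := fun q => ⟨(q.1.1, z q.1.1 * q.1.2), ?_⟩
          left_inv := fun p => Subtype.ext (Prod.ext rfl (mul_inv_cancel_left _ _))
          right_inv := fun q => Subtype.ext (Prod.ext rfl (inv_mul_cancel_left _ _)) }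
      · obtain ⟨a, b, c⟩ := p.2
        have hni : ¬Inner φ (ConjClasses.mk p.1.1) := fun hi => by
          have h5 := (hi _ rfl).2 _ c
          rw [b] at h5
          exact absurd h5 (by decide)
        exact ⟨a, by rw [map_mul, map_inv, (hz _ a hni).2, b]; rfl, (hz _ a hni).1.inv_right.mul_right c, hni⟩
      · obtain ⟨a, b, c, hni⟩ := q.2
        exact ⟨a, by rw [map_mul, (hz _ a hni).2, b, mul_one], (hz _ a hni).1.mul_right c⟩
    rw [e1, e2]
  rw [hshift, hswap, hker, hG] at hall
  rw [hker, hG] at hsplit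
  have hpos : 0 < Nat.card φ.ker := Nat.card_pos
  refine Nat.eq_of_mul_eq_mul_right hpos ?_
  nlinarith [hall, hsplit]

end CfsgLib.Geo.FormClasses
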