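import Cfsg.Agent.Geo.FormClasses.OddNumeric
import Cfsg.Agent.Geo.FormClasses.SplitCount
import Cfsg.Agent.Geo.FormClasses.OddLayer
import Cfsg.Agent.Geo.FormClasses.OrthLower
import Cfsg.Agent.Quad.NegOne
import Cfsg.Agent.QuadStd.Split

/-!
# Classes of orthogonal groups of odd dimension, `q` odd
-/

set_option autoImplicit false
set_option linter.style.haveILetI false
set_option linter.unusedSectionVars false

namespace CfsgLib.Geo.FormClasses

open Matrix Module Polynomial CfsgLib.Quad CfsgLib.Geo.OSemi CfsgLib.Geo.USemi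

theorem card_conjClasses_congr {G H : Type*} [Group G] [Group H] (e : G ≃* H) :
    Nat.card (ConjClasses G) = Nat.card (ConjClasses H) := by
  refine Nat.card_congr ⟨ConjClasses.map e.toMonoidHom, ConjClasses.map e.symm.toMonoidHom, ?_, ?_⟩
  · rintro ⟨x⟩
    exact congrArg ConjClasses.mk (e.symm_apply_apply x)
  · rintro ⟨x⟩
    exact congrArg ConjClasses.mk (e.apply_symm_apply x)

variable {F : Type*} [Field F] [Fintype F] [DecidableEq F] {ι : Type} [Fintype ι] [DecidableEq ι]
  {Q : QuadraticForm F (ι → F)} (hQ : (QuadraticMap.polarBilin Q).Nondegenerate) (h2 : (2 : F) ≠ 0)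
  {n : ℕ} (hcard : Fintype.card ι = 2 * n + 1)

theorem toLin_symm_iso (g : oGroup Q) :
    Matrix.toLin' (((isoGroupEquiv Q).symm g).1 : GL ι F).val = g.1.toLinearMap :=
  Matrix.toLin'_toMatrix' g.1.toLinearMap

theorem finite_oGroup : Finite (oGroup Q) := Finite.of_equiv _ (isoGroupEquiv Q).toEquiv

include hQ h2

theorem isConj_of_similar_o {g g' : oGroup Q} (h : Similar (QuadraticMap.polarBilin Q) g.1.toLinearMap
    (QuadraticMap.polarBilin Q) g'.1.toLinearMap) : IsConj g g' := by
  rw [← toLin_symm_iso g, ← toLin_symm_iso g'] at h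
  have h' := (isoGroupEquiv Q).toMonoidHom.map_isConj (isConj_of_similar Q h2 h)
  simpa using h'

include hcard

/-- Classes of `O` whose invariants have a flip-stable property are at most half as many as those invariants. -/
theorem two_mul_card_classes_odd_le {ν : F} (hν : ¬IsSquare ν) (P : Dat F (2 * n + 1) → Prop)
    (hP : ∀ x, P x → P x.flip) [Finite {x : Dat F (2 * n + 1) // x.OK ∧ P x}] (R : ConjClasses (oGroup Q) → Prop)
    (hR : ∀ g : oGroup Q, R (ConjClasses.mk g) →
      ∀ x, Desc ν (QuadraticMap.polarBilin Q) g.1.toLinearMap x → P x) :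
    2 * Nat.card {c // R c} ≤ Nat.card {x : Dat F (2 * n + 1) // x.OK ∧ P x} := by
  have hV : finrank F (ι → F) = 2 * n + 1 := by rw [Module.finrank_fintype_fun_eq_card, hcard]
  have hB := isForm_polar Q hQ
  have hI : ∀ g : oGroup Q, IsIsom (QuadraticMap.polarBilin Q) g.1.toLinearMap := fun g x y => polar_oGroup g x y
  have hex := fun c : {c // R c} => exists_desc (L := 2 * n + 1) h2 hν hB (hI (Quotient.out c.1)) hV
  choose f hf hchi using hex
  have hout : ∀ c : ConjClasses (oGroup Q), ConjClasses.mk (Quotient.out c) = c := fun c => Quotient.out_eq c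
  refine two_mul_card_le_odd hν (disc_ne_zero hB) ⟨n, rfl⟩ hP f (fun c c' h => Subtype.ext ?_)
    (fun c => (hf c).ok) (fun c => hR _ (by rw [hout]; exact c.2) _ (hf c)) hchi
  have h1 := similar_of_desc h2 hB (hI (Quotient.out c.1)) (hI (Quotient.out c'.1)) hV.le (hf c) (h ▸ hf c')
  calc c.1 = ConjClasses.mk (Quotient.out c.1) := (hout _).symm
    _ = ConjClasses.mk (Quotient.out c'.1) :=
      ConjClasses.mk_eq_mk_iff_isConj.2 (isConj_of_similar_o hQ h2 h1)
    _ = c'.1 := hout _

theorem detSign_negIso : detSign hQ h2 (negIso Q) = -1 := by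
  refine (Int.units_eq_one_or _).resolve_left fun h => ?_
  have h1 := congrArg Units.val (detSign_eq_one.1 h)
  rw [detO_val, Units.val_one, show (negIso Q).1.toLinearMap = (-1 : F) • (1 : Module.End F (ι → F)) from
    LinearMap.ext fun x => by show -x = (-1 : F) • x; rw [neg_one_smul],
    LinearMap.det_smul, map_one, mul_one, Module.finrank_fintype_fun_eq_card, hcard,
    (odd_two_mul_add_one n).neg_one_pow] at h1
  exact h2 (by linear_combination -h1)

omit hQ h2 hcard in
theorem negIso_comm (g : oGroup Q) : Commute (negIso Q) g :=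
  Subtype.ext (LinearEquiv.ext fun v => by
    show -(g.1 v) = g.1 (-v)
    rw [map_neg])

/-- Replace a conjugating isometry by one of determinant one. -/
theorem exists_conj_so (k : oGroup Q) : ∃ k' : (detSign hQ h2).ker, ∀ x : oGroup Q,
    k'.1 * x * k'.1⁻¹ = k * x * k⁻¹ := by
  rcases Int.units_eq_one_or (detSign hQ h2 k) with h | h
  · exact ⟨⟨k, h⟩, fun x => rfl⟩
  · refine ⟨⟨negIso Q * k, by rw [MonoidHom.mem_ker, map_mul, h, detSign_negIso hQ h2 hcard]; rfl⟩, fun x => ?_⟩
    show negIso Q * k * x * (negIso Q * k)⁻¹ = _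
    rw [_root_.mul_inv_rev, show negIso Q * k * x * (k⁻¹ * (negIso Q)⁻¹) = negIso Q * (k * x * k⁻¹) * (negIso Q)⁻¹ by group,
      (negIso_comm _).eq, mul_inv_cancel_right]

/-- Classes of `SO` with a sign give classes of `O`. -/
noncomputable def signClass (z : ConjClasses (detSign hQ h2).ker × Bool) : ConjClasses (oGroup Q) :=
  ConjClasses.mk (bif z.2 then negIso Q * (Quotient.out z.1).1 else (Quotient.out z.1).1)

theorem signClass_injective : Function.Injective (signClass hQ h2) := by
  rintro ⟨c, b⟩ ⟨c', b'⟩ h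
  obtain ⟨k, hk⟩ := isConj_iff.1 (ConjClasses.mk_eq_mk_iff_isConj.1 h)
  simp only at hk
  have hs : ∀ (c : ConjClasses (detSign hQ h2).ker) (b : Bool),
      detSign hQ h2 (bif b then negIso Q * (Quotient.out c).1 else (Quotient.out c).1) = bif b then -1 else 1 := by
    intro c b
    cases b
    · exact (Quotient.out c).2
    · rw [cond_true, cond_true, map_mul, detSign_negIso hQ h2 hcard, MonoidHom.mem_ker.1 (Quotient.out c).2, mul_one]
  have hb : b = b' := by
    have := congrArg (detSign hQ h2) hk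
    rw [map_mul, map_mul, map_inv, mul_comm (detSign hQ h2 k), mul_inv_cancel_right, hs, hs] at this
    cases b <;> cases b' <;> simp_all
  subst hb
  have hk' : k * (Quotient.out c).1 * k⁻¹ = (Quotient.out c').1 := by
    cases b
    · exact hk
    · simp only [cond_true] at hk
      rw [← mul_assoc k, ← (negIso_comm k).eq, mul_assoc (negIso Q), mul_assoc (negIso Q)] at hk
      exact mul_left_cancel hk
  obtain ⟨k', hk''⟩ := exists_conj_so hQ h2 hcard k
  have hc : c = c' := by
    calc c = ConjClasses.mk (Quotient.out c) := (Quotient.out_eq c).symm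
      _ = ConjClasses.mk (Quotient.out c') :=
        ConjClasses.mk_eq_mk_iff_isConj.2 (isConj_iff.2 ⟨k', Subtype.ext ((hk'' _).trans hk')⟩)
      _ = c' := Quotient.out_eq c'
  rw [hc]

omit hcard in
theorem exists_theta_neg (hn : 2 ≤ finrank F (ι → F)) {θ : oGroup Q →* ℤˣ}
    (hθ : ∀ v, Q v ≠ 0 → (θ (refl Q v) = 1 ↔ IsSquare (Q v))) :
    ∃ g : (detSign hQ h2).ker, θ g.1 = -1 := by
  obtain ⟨a, b, ha, hb, haS, hbS⟩ := exists_classes hQ h2 hn
  refine ⟨⟨refl Q a * refl Q b, by rw [MonoidHom.mem_ker, map_mul, detSign_refl ha, detSign_refl hb]; rfl⟩, ?_⟩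
  show θ (refl Q a * refl Q b) = -1
  rw [map_mul, (hθ a ha).2 haS, one_mul]
  exact (Int.units_eq_one_or _).resolve_left fun e => hbS ((hθ b hb).1 e)

/-- `SO` has at most a quarter as many classes as there are invariants. -/
theorem four_mul_card_so_le :
    4 * Nat.card (ConjClasses (detSign hQ h2).ker) ≤ Nat.card (Tot F False (2 * n + 1)) := by
  obtain ⟨ν, hν⟩ := FiniteField.exists_nonsquare (F := F) (fun h => h2 (by
    haveI := ringChar.charP F
    rw [h] at this
    exact CharTwo.two_eq_zero))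
  haveI := finite_oGroup (Q := Q)
  haveI := (card_tot_le h2 (2 * n) False (F := F)).1
  have h1 := Nat.card_le_card_of_injective _ (signClass_injective hQ h2 hcard)
  have h3 := two_mul_card_classes_odd_le hQ h2 hcard hν (fun x => False → x.Fixd) (fun _ _ h => h.elim)
    (fun _ => True) fun _ _ _ _ h => h.elim
  rw [Nat.card_congr (Equiv.subtypeUnivEquiv fun c => (trivial : (fun _ => True) c))] at h3
  rw [Nat.card_prod, show Nat.card Bool = 2 by simp] at h1
  exact le_trans (by omega) h3

/-- Classes of `SO` all of whose centralisers lie in the kernel of the spinor norm come from invariants without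
layers of odd size. -/
theorem four_mul_card_inner_le {θ : oGroup Q →* ℤˣ}
    (hθ : ∀ v, Q v ≠ 0 → (θ (refl Q v) = 1 ↔ IsSquare (Q v))) :
    4 * Nat.card {c // Inner (θ.comp (detSign hQ h2).ker.subtype) c} ≤
      Nat.card {x : Dat F (2 * n + 1) // x.OK ∧ x.NoOdd} := by
  obtain ⟨ν, hν⟩ := FiniteField.exists_nonsquare (F := F) (fun h => h2 (by
    haveI := ringChar.charP F
    rw [h] at this
    exact CharTwo.two_eq_zero))
  haveI := finite_oGroup (Q := Q)
  haveI := (card_noOdd_le (F := F) h2 (2 * n)).1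
  set φ := θ.comp (detSign hQ h2).ker.subtype
  let R : ConjClasses (oGroup Q) → Prop := fun d =>
    ∀ g, ConjClasses.mk g = d → ∀ h, Commute g h → detSign hQ h2 h = 1 → θ h = 1
  have hR : ∀ g : oGroup Q, R (ConjClasses.mk g) →
      ∀ x : Dat F (2 * n + 1), Desc ν (QuadraticMap.polarBilin Q) g.1.toLinearMap x → x.NoOdd := by
    intro g hg x hx i hi
    by_contra hne
    rw [hx.lay i] at hne
    obtain ⟨h, hc, hd, ht⟩ := exists_centralizing hQ h2 hθ
      (T := g.1.toLinearMap) (fun a b => polar_oGroup g a b) hi hne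
    have h1 := hg g rfl h (Subtype.ext (LinearEquiv.ext fun v => (hc v).symm)) (detSign_eq_one.2 hd)
    rw [ht] at h1
    exact absurd h1 (by decide)
  have hin : ∀ z : {c // Inner φ c} × Bool, R (signClass hQ h2 (z.1.1, z.2)) := by
    rintro ⟨⟨c, hc⟩, b⟩ g hg h hgh hdh
    obtain ⟨k, hk⟩ := isConj_iff.1 (ConjClasses.mk_eq_mk_iff_isConj.1 hg.symm)
    obtain ⟨k', hk'⟩ := exists_conj_so hQ h2 hcard k
    set x := Quotient.out c with hx
    have hcl : ConjClasses.mk (k' * x * k'⁻¹) = c :=
      (ConjClasses.mk_eq_mk_iff_isConj.2 (isConj_iff.2 ⟨k', rfl⟩)).symm.trans (Quotient.out_eq c)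
    refine (hc _ hcl).2 ⟨h, hdh⟩ (Subtype.ext ?_)
    show k'.1 * x.1 * k'.1⁻¹ * h = h * (k'.1 * x.1 * k'.1⁻¹)
    rw [hk']
    cases b
    · rw [show k * x.1 * k⁻¹ = g from hk]; exact hgh.eq
    · have e : k * x.1 * k⁻¹ = (negIso Q)⁻¹ * g := by
        rw [← hk]
        simp only [cond_true]
        rw [← mul_assoc k, ← (negIso_comm k).eq]
        group
      rw [e]
      exact (((negIso_comm h).inv_left).mul_left hgh).eq
  have h1 := Nat.card_le_card_of_injective
    (fun z : {c // Inner φ c} × Bool => (⟨_, hin z⟩ : {d // R d})) fun a b h => by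
      have := signClass_injective hQ h2 hcard (congrArg Subtype.val h)
      simp only [Prod.mk.injEq] at this
      exact Prod.ext (Subtype.ext this.1) this.2
  have h3 := two_mul_card_classes_odd_le hQ h2 hcard hν Dat.NoOdd
    (fun x hx i hi => by rw [Dat.flip_E]; exact hx i hi) R hR
  rw [Nat.card_prod, show Nat.card Bool = 2 by simp] at h1
  omega

/-- Self-dual polynomials give classes of `SO`. -/
theorem card_so_ge (hclass : ∀ {N : ℕ} (M : Matrix (Fin N) (Fin N) F), IsUnit (M + Mᵀ) → N = 2 * n + 1 →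
    ∃ (c : F) (φ : (ι → F) ≃ₗ[F] (Fin N → F)), c ≠ 0 ∧ ∀ v, qf M (φ v) = c * Q v) :
    Fintype.card F ^ n ≤ Nat.card (ConjClasses (detSign hQ h2).ker) := by
  classical
  haveI := finite_oGroup (Q := Q)
  obtain ⟨p, hp⟩ := CharP.exists F
  haveI := hp
  haveI : Fact p.Prime := ⟨CharP.char_is_prime F p⟩
  haveI := finite_sdp (K := F) n
  have hreal : ∀ f : SDP F n, ∃ g : (detSign hQ h2).ker, g.1.1.toLinearMap.charpoly = f.1 * (X - C 1) := by
    intro f
    obtain ⟨N, g, M, -, hgc, hgq⟩ := realQ_of_dual p h2 (n + n) f.1 f.2.2.1 f.2.1 f.2.2.2.1 f.2.2.2.2 ⟨n, rfl⟩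
    have hN : N = n + n := by
      have := f.2.2.1
      rwa [← hgc, Matrix.charpoly_natDegree_eq_dim, Fintype.card_fin] at this
    have h1 : IsQuad (1 : GL (Fin 1) F) 1 := by
      refine ⟨by simp, ?_⟩
      rw [Matrix.transpose_one, Matrix.isUnit_iff_isUnit_det, Matrix.det_fin_one]
      simpa [one_add_one_eq_two] using h2
    have hq := hgq.mul h1
    obtain ⟨c, φ, hc, hφ⟩ := hclass (blk M 1) hq.2 (by omega)
    obtain ⟨h, hh, -, hhc⟩ := transfer hq (⇑Q) φ hc hφ
    rw [charpoly_emb, hgc] at hhc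
    have h1c : (1 : GL (Fin 1) F).val.charpoly = X - C 1 := by
      rw [Matrix.charpoly, Matrix.det_fin_one]; simp [Matrix.charmatrix_apply]
    rw [h1c] at hhc
    let a : oGroup Q := isoGroupEquiv Q ⟨h, fun u _ => hh u⟩
    have ha : a.1.toLinearMap = Matrix.toLin' h.val := LinearMap.ext fun v => rfl
    have hd : detSign hQ h2 a = 1 := by
      refine detSign_eq_one.2 (Units.ext ?_)
      rw [detO_val, ha, LinearMap.det_toLin', Matrix.det_eq_sign_charpoly_coeff, hhc, hcard, mul_coeff_zero,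
        f.2.2.2.1, coeff_sub, coeff_X_zero, coeff_C_zero, (odd_two_mul_add_one n).neg_one_pow]
      simp
    exact ⟨⟨a, hd⟩, by rw [ha, Matrix.charpoly_toLin', hhc]⟩
  choose r hr using hreal
  rw [← CfsgLib.Geo.SpSemiClasses.card_polys (K := F) n]
  refine Nat.card_le_card_of_injective (fun f => ConjClasses.mk (r f)) fun f f' h => ?_
  obtain ⟨k, hk⟩ := isConj_iff.1 (ConjClasses.mk_eq_mk_iff_isConj.1 h)
  refine Subtype.ext (mul_right_cancel₀ (X_sub_C_ne_zero (1 : F)) ?_)
  rw [← hr f, ← hr f', ← hk, ← LinearEquiv.charpoly_conj k.1.1 (r f).1.1.toLinearMap]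
  rfl

/-- The commutator subgroup is the kernel of the spinor norm on `SO`. -/
theorem card_commutator_classes {θ : oGroup Q →* ℤˣ} (hn : 2 ≤ finrank F (ι → F))
    (hθ : ∀ v, Q v ≠ 0 → (θ (refl Q v) = 1 ↔ IsSquare (Q v))) :
    Nat.card (ConjClasses (commutator (Cfsg.isometryGroup F ⇑Q))) =
      Nat.card (ConjClasses (θ.comp (detSign hQ h2).ker.subtype).ker) := by
  refine card_conjClasses_congr ((((isoGroupEquiv Q).subgroupMap _).trans
    (MulEquiv.subgroupCongr (commutator_map_equiv (isoGroupEquiv Q)))).trans ?_)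
  refine (MulEquiv.subgroupCongr ?_).trans
    ((θ.comp (detSign hQ h2).ker.subtype).ker.equivMapOfInjective _ (Subgroup.subtype_injective _)).symm
  ext g
  rw [mem_commutator_iff hQ h2 hn hθ, Subgroup.mem_map, ← detSign_eq_one (hQ := hQ) (h2 := h2)]
  exact ⟨fun h => ⟨⟨g, h.1⟩, h.2, rfl⟩, fun ⟨x, hx, e⟩ => e ▸ ⟨x.2, hx⟩⟩

end CfsgLib.Geo.FormClasses
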