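import Cfsg.Agent.Geo.FormClasses.Data
import Cfsg.Prelude.Def_Classical

/-!
# Classes of orthogonal groups of even dimension, `q` odd: the upper bound
-/

set_option autoImplicit false
set_option linter.style.haveILetI false
set_option linter.unusedSectionVars false

namespace CfsgLib.Geo.FormClasses

open Matrix Module Polynomial CfsgLib.Geo.NilForms CfsgLib.Geo.SpUnipClasses

variable {F : Type*} [Field F] [Fintype F] [DecidableEq F]

theorem disc_ne_zero {V : Type*} [AddCommGroup V] [Module F V] [FiniteDimensional F V]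
    {B : LinearMap.BilinForm F V} (hB : IsForm (1 : F) B) : disc B ≠ 0 := by
  rw [disc, ne_eq, quadraticChar_eq_zero_iff]
  exact (LinearMap.BilinForm.nondegenerate_iff_det_ne_zero (Module.finBasis F V)).1 hB.nondeg

section Iso

variable {V : Type*} [AddCommGroup V] [Module F V] [FiniteDimensional F V] {L : ℕ}

/-- The invariant `x` describes the isometry `T`. -/
structure Desc (ν : F) (B : LinearMap.BilinForm F V) (T : V →ₗ[F] V) (x : Dat F L) : Prop where
  ok : x.OK
  plus : HasType 1 ν (B.restrict (part T 1)) (cay ((1 : F) • resT T (part_inv 1))) x.cp x.sp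
  minus : HasType 1 ν (B.restrict (part T (-1))) (cay ((-1 : F) • resT T (part_inv (-1)))) x.cm x.sm
  lay : ∀ i : Fin L, x.E i = CfsgLib.Geo.FormClasses.layer (resT T rest_inv) ((i : ℕ) + 1)

theorem finrank_parts (h2 : (2 : F) ≠ 0) (T : V →ₗ[F] V) :
    finrank F (part T 1) + finrank F (part T (-1)) + finrank F (rest T) = finrank F V := by
  have h := Submodule.finrank_sup_add_finrank_inf_eq (part T 1) (part T (-1))
  rw [disjoint_parts h2, finrank_bot, add_zero] at h
  rw [← Submodule.finrank_add_eq_of_isCompl (isCompl_rest (T := T)), ker_sq_pow h2, h]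

theorem exists_desc (h2 : (2 : F) ≠ 0) {ν : F} (hν : ¬IsSquare ν) {B : LinearMap.BilinForm F V}
    {T : V →ₗ[F] V} (hB : IsForm (1 : F) B) (hT : IsIsom B T) (hV : finrank F V = L) :
    ∃ x : Dat F L, Desc ν B T x ∧ x.chi ν = disc B := by
  obtain ⟨fp, fm, fr⟩ := isForm_parts h2 hB hT
  have hle := finrank_parts h2 T
  have hν0 : ν ≠ 0 := fun h => hν (by rw [h]; exact IsSquare.zero)
  have hη : (1 : F) = -(-1 : F) ^ 1 := by ring
  have hn1 := smul_nilpotent (ε := (1 : F)) (one_mul 1) (resT_part_nilpotent (T := T) 1)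
  have hn2 := smul_nilpotent (ε := (-1 : F)) (by norm_num) (resT_part_nilpotent (T := T) (-1))
  have S1 := cay_skew h2 fp (isIsom_smul (isIsom_res hT (part_inv 1)) (one_mul (1 : F))) hn1
  have S2 := cay_skew h2 fm (isIsom_smul (isIsom_res hT (part_inv (-1))) (show (-1 : F) * -1 = 1 by norm_num)) hn2
  obtain ⟨cp, sp, gp, zp, tp⟩ := exists_type (D := L) h2 hν hη S1 (cay_nilpotent h2 hn1) (by omega)
  obtain ⟨cm, sm, gm, zm, tm⟩ := exists_type (D := L) h2 hν hη S2 (cay_nilpotent h2 hn2) (by omega)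
  have hr := isIsom_res (W := rest T) hT rest_inv
  have hlay := fun j => isLayer_layer fr hr (rest_no_eigen (T := T)) h2 j
  refine ⟨⟨cp, sp, cm, sm, fun i => layer (resT T rest_inv) ((i : ℕ) + 1)⟩,
    ⟨⟨gp, gm, fun i => hlay _, ?_⟩, tp, tm, fun i => rfl⟩, ?_⟩
  · simp only [mul_add, Finset.sum_add_distrib]
    rw [sum_layers (T := resT T rest_inv) (J := L) (by omega)]
    simp only [size, Fin.sum_univ_succ (n := L), Fin.val_zero, mul_zero, zero_add, Fin.val_succ] at zp zm
    simp only [mul_comm ((_ : ℕ) + 1)]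
    rw [zp, zm, ← hV]
    omega
  · rw [disc_three h2 hB hT, disc_of_type h2 hν0 S1 gp tp, disc_of_type h2 hν0 S2 gm tm,
      disc_rest fr hr (rest_no_eigen (T := T)) h2, charpoly_eq_layers (J := L) (by omega) (det_matOf_ne fr hr)]
    rfl

theorem similar_of_desc (h2 : (2 : F) ≠ 0) {ν : F} {B : LinearMap.BilinForm F V} {T T' : V →ₗ[F] V}
    (hB : IsForm (1 : F) B) (hT : IsIsom B T) (hT' : IsIsom B T') (hV : finrank F V ≤ L) {x : Dat F L}
    (d : Desc ν B T x) (d' : Desc ν B T' x) : Similar B T B T' := by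
  obtain ⟨fp, fm, fr⟩ := isForm_parts h2 hB hT
  obtain ⟨fp', fm', fr'⟩ := isForm_parts h2 hB hT'
  refine similar_of_parts h2 hB hB hT hT' ?_ ?_ ?_
  · exact similar_of_type h2 fp fp' (isIsom_res hT _) (isIsom_res hT' _) (one_mul 1) (resT_part_nilpotent 1)
      (resT_part_nilpotent 1) d.plus d'.plus
  · exact similar_of_type h2 fm fm' (isIsom_res hT _) (isIsom_res hT' _) (by norm_num) (resT_part_nilpotent (-1))
      (resT_part_nilpotent (-1)) d.minus d'.minus
  · have hr := isIsom_res (W := rest T) hT rest_inv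
    have hr' := isIsom_res (W := rest T') hT' rest_inv
    have hl : finrank F (rest T) ≤ L := (Submodule.finrank_le _).trans hV
    have hl' : finrank F (rest T') ≤ L := (Submodule.finrank_le _).trans hV
    have hE : ∀ j, layer (resT T rest_inv) j = layer (resT T' rest_inv) j := by
      intro j
      rcases j with _ | j
      · exact (layer_zero fr hr).trans (layer_zero fr' hr').symm
      · rcases Nat.lt_or_ge j L with hj | hj
        · exact (d.lay ⟨j, hj⟩).symm.trans (d'.lay ⟨j, hj⟩)
        · rw [layer_of_lt (by omega), layer_of_lt (by omega)]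
    have hdim : finrank F (rest T) = finrank F (rest T') := by
      rw [← sum_layers (T := resT T rest_inv) hl, ← sum_layers (T := resT T' rest_inv) hl']
      simp only [hE]
    obtain ⟨e, he⟩ := equiv_of_layers hdim hE
    exact similar_of_linear fr fr' hr hr' (rest_no_eigen (T := T)) e he

end Iso

/-! ## The groups -/

section Group

variable {ι : Type} [Fintype ι] [DecidableEq ι] (Q : QuadraticForm F (ι → F))

theorem isForm_polar (hQ : (QuadraticMap.polarBilin Q).Nondegenerate) :
    IsForm (1 : F) (QuadraticMap.polarBilin Q) :=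
  ⟨one_mul 1, fun x y => by rw [one_mul]; exact QuadraticMap.polar_comm _ _ _, fun x hx => hQ.1 x hx⟩

theorem isIsom_lin (g : Cfsg.isometryGroup F ⇑Q) :
    IsIsom (QuadraticMap.polarBilin Q) (Matrix.toLin' (g.1 : GL ι F).val) := by
  intro x y
  have h : ∀ u, Q ((g.1 : GL ι F).val *ᵥ u) = Q u := fun u => g.2 u u
  simp only [QuadraticMap.polarBilin_apply_apply, Matrix.toLin'_apply, QuadraticMap.polar]
  rw [← Matrix.mulVec_add, h, h, h]

theorem isConj_of_similar (h2 : (2 : F) ≠ 0) {g g' : Cfsg.isometryGroup F ⇑Q}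
    (h : Similar (QuadraticMap.polarBilin Q) (Matrix.toLin' (g.1 : GL ι F).val)
      (QuadraticMap.polarBilin Q) (Matrix.toLin' (g'.1 : GL ι F).val)) : IsConj g g' := by
  obtain ⟨e, he, heB⟩ := h
  let P : GL ι F := ⟨LinearMap.toMatrix' e.toLinearMap, LinearMap.toMatrix' e.symm.toLinearMap,
    by rw [← LinearMap.toMatrix'_comp]; simp, by rw [← LinearMap.toMatrix'_comp]; simp⟩
  have hQe : ∀ v, Q (e v) = Q v := fun v => by
    have h1 := heB v v
    rw [QuadraticMap.polarBilin_apply_apply, QuadraticMap.polarBilin_apply_apply, QuadraticMap.polar_self,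
      QuadraticMap.polar_self] at h1
    simp only [nsmul_eq_mul, Nat.cast_ofNat] at h1
    exact mul_left_cancel₀ h2 h1
  refine isConj_iff.2 ⟨⟨P, fun u v => ?_⟩, ?_⟩
  · show Q (LinearMap.toMatrix' e.toLinearMap *ᵥ u) = Q u
    rw [LinearMap.toMatrix'_mulVec]
    exact hQe u
  · rw [mul_inv_eq_iff_eq_mul]
    refine Subtype.ext (Units.ext (Matrix.ext_of_mulVec_single fun i => ?_))
    show (LinearMap.toMatrix' e.toLinearMap * (g.1 : GL ι F).val) *ᵥ Pi.single i 1 =
      ((g'.1 : GL ι F).val * LinearMap.toMatrix' e.toLinearMap) *ᵥ Pi.single i 1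
    rw [← Matrix.mulVec_mulVec, ← Matrix.mulVec_mulVec, LinearMap.toMatrix'_mulVec, LinearMap.toMatrix'_mulVec]
    have h1 := he (Pi.single i 1)
    simp only [Matrix.toLin'_apply] at h1
    exact h1

theorem two_mul_card_classes_le (h2 : (2 : F) ≠ 0) (hq : 3 ≤ Fintype.card F)
    (hQ : (QuadraticMap.polarBilin Q).Nondegenerate) {n : ℕ} (hn : 1 ≤ n) (hcard : Fintype.card ι = n + n) :
    2 * Nat.card (ConjClasses (Cfsg.isometryGroup F ⇑Q)) ≤ 19 * Fintype.card F ^ n := by
  classical
  obtain ⟨J, hJ⟩ : ∃ J, n + n = J + 1 := ⟨n + n - 1, by omega⟩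
  obtain ⟨ν, hν⟩ := FiniteField.exists_nonsquare (F := F) (fun h => h2 (by
    haveI := ringChar.charP F
    rw [h] at this
    exact CharTwo.two_eq_zero))
  have hV : finrank F (ι → F) = J + 1 := by rw [Module.finrank_fintype_fun_eq_card, hcard, hJ]
  have hB := isForm_polar Q hQ
  have hex := fun c : ConjClasses (Cfsg.isometryGroup F ⇑Q) =>
    exists_desc (L := J + 1) h2 hν hB (isIsom_lin Q (Quotient.out c)) hV
  choose f hf hchi using hex
  have hinj : Function.Injective f := by
    intro c c' h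
    have h1 := similar_of_desc h2 hB (isIsom_lin Q (Quotient.out c)) (isIsom_lin Q (Quotient.out c')) hV.le
      (hf c) (h ▸ hf c')
    calc c = ConjClasses.mk (Quotient.out c) := (Quotient.out_eq c).symm
      _ = ConjClasses.mk (Quotient.out c') := ConjClasses.mk_eq_mk_iff_isConj.2 (isConj_of_similar Q h2 h1)
      _ = c' := Quotient.out_eq c'
  exact (two_mul_card_le h2 hν (disc_ne_zero hB) J f hinj (fun c => (hf c).ok) hchi).trans
    (card_tot_bound h2 hq n hJ)

end Group

end CfsgLib.Geo.FormClasses
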