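import Cfsg.Agent.Geo.FormClasses.RestDiv
import Mathlib.RingTheory.AdjoinRoot
import Mathlib.RingTheory.Norm.Transitivity
import Mathlib.FieldTheory.Finite.GaloisField

/-!
# The algebras `F[X]/(P ^ e)`

The involution `X ↦ X⁻¹` between dual factors, norms from a coefficient field, and units with non-square
norm when `e` is odd.
-/

set_option autoImplicit false
set_option linter.style.haveILetI false
set_option linter.unusedSectionVars false

namespace CfsgLib.Geo.FormClasses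

open Polynomial Module CfsgLib.Geo.USemi

variable {F : Type*} [Field F]

theorem finite_adjoin {f : F[X]} (hf : f ≠ 0) : FiniteDimensional F (AdjoinRoot f) :=
  (AdjoinRoot.powerBasis hf).finite

theorem finrank_adjoin {f : F[X]} (hf : f ≠ 0) : finrank F (AdjoinRoot f) = f.natDegree := by
  rw [(AdjoinRoot.powerBasis hf).finrank, AdjoinRoot.powerBasis_dim]

theorem isUnit_root {f : F[X]} (h0 : f.coeff 0 ≠ 0) : IsUnit (AdjoinRoot.root f) := by
  have h : AdjoinRoot.mk f (X * f.divX) = -algebraMap F (AdjoinRoot f) (f.coeff 0) := by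
    rw [eq_neg_iff_add_eq_zero, show algebraMap F (AdjoinRoot f) (f.coeff 0) = AdjoinRoot.mk f (C (f.coeff 0)) from rfl,
      ← map_add, X_mul_divX_add, AdjoinRoot.mk_self]
  rw [map_mul, AdjoinRoot.mk_X] at h
  refine isUnit_of_mul_isUnit_left (y := AdjoinRoot.mk f f.divX) ?_
  rw [h]
  exact ((IsUnit.mk0 _ h0).map _).neg

/-- The map `X ↦ X⁻¹`. -/
theorem exists_bar {f g : F[X]} (hg : g = dual (RingHom.id F) f) (hf0 : f.coeff 0 ≠ 0) (hg0 : g.coeff 0 ≠ 0) :
    ∃ φ : AdjoinRoot f →ₐ[F] AdjoinRoot g,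
      φ (AdjoinRoot.root f) * AdjoinRoot.root g = 1 := by
  obtain ⟨u, hu⟩ := isUnit_root hg0
  refine ⟨AdjoinRoot.liftAlgHom f (Algebra.ofId F _) (↑u⁻¹) ?_, ?_⟩
  · letI : Invertible (↑u⁻¹ : AdjoinRoot g) := ⟨u, by simp, by simp⟩
    have h1 := eval₂_reverse_mul_pow (algebraMap F (AdjoinRoot g)) (↑u⁻¹ : AdjoinRoot g) f
    rw [show (⅟(↑u⁻¹ : AdjoinRoot g)) = AdjoinRoot.root g from hu] at h1
    show eval₂ (algebraMap F (AdjoinRoot g)) _ f = 0
    rw [← h1]
    have h2 : eval₂ (algebraMap F (AdjoinRoot g)) (AdjoinRoot.root g) g = 0 := AdjoinRoot.eval₂_root g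
    have h3 : eval₂ (algebraMap F (AdjoinRoot g)) (AdjoinRoot.root g) (C (f.coeff 0)⁻¹ * f.reverse) = 0 := by
      rw [dual, Polynomial.map_id, RingHom.id_apply] at hg
      rw [← hg]; exact h2
    rw [eval₂_mul, eval₂_C] at h3
    rw [((IsUnit.mk0 _ (inv_ne_zero hf0)).map _).mul_right_eq_zero.1 h3, zero_mul]
  · rw [AdjoinRoot.liftAlgHom_root, ← hu, Units.inv_mul]

/-- The chosen map `X ↦ X⁻¹`. -/
noncomputable def bar {f g : F[X]} (hg : g = dual (RingHom.id F) f) (hf0 : f.coeff 0 ≠ 0) (hg0 : g.coeff 0 ≠ 0) :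
    AdjoinRoot f →ₐ[F] AdjoinRoot g :=
  (exists_bar hg hf0 hg0).choose

theorem bar_root {f g : F[X]} (hg : g = dual (RingHom.id F) f) (hf0 : f.coeff 0 ≠ 0) (hg0 : g.coeff 0 ≠ 0) :
    bar hg hf0 hg0 (AdjoinRoot.root f) * AdjoinRoot.root g = 1 :=
  (exists_bar hg hf0 hg0).choose_spec

theorem bar_bar {f g : F[X]} (hg : g = dual (RingHom.id F) f) (hf : f = dual (RingHom.id F) g)
    (hf0 : f.coeff 0 ≠ 0) (hg0 : g.coeff 0 ≠ 0) (x : AdjoinRoot f) :
    bar hf hg0 hf0 (bar hg hf0 hg0 x) = x := by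
  suffices h : (bar hf hg0 hf0).comp (bar hg hf0 hg0) = AlgHom.id F _ from congrArg (fun φ : _ →ₐ[F] _ => φ x) h
  refine AdjoinRoot.algHom_ext ?_
  show bar hf hg0 hf0 (bar hg hf0 hg0 (AdjoinRoot.root f)) = AdjoinRoot.root f
  have h1 := congrArg (bar hf hg0 hf0) (bar_root hg hf0 hg0)
  rw [map_mul, map_one] at h1
  exact left_inv_eq_right_inv h1 (bar_root hf hg0 hf0)

/-- The involution as an equivalence. -/
noncomputable def barE {f g : F[X]} (hg : g = dual (RingHom.id F) f) (hf : f = dual (RingHom.id F) g)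
    (hf0 : f.coeff 0 ≠ 0) (hg0 : g.coeff 0 ≠ 0) : AdjoinRoot f ≃ₐ[F] AdjoinRoot g :=
  AlgEquiv.ofAlgHom (bar hg hf0 hg0) (bar hf hg0 hf0)
    (AlgHom.ext (bar_bar hf hg hg0 hf0)) (AlgHom.ext (bar_bar hg hf hf0 hg0))

theorem norm_bar {f g : F[X]} (hg : g = dual (RingHom.id F) f) (hf : f = dual (RingHom.id F) g)
    (hf0 : f.coeff 0 ≠ 0) (hg0 : g.coeff 0 ≠ 0) (x : AdjoinRoot f) :
    Algebra.norm F (bar hg hf0 hg0 x) = Algebra.norm F x :=
  Algebra.norm_eq_of_algEquiv (barE hg hf hf0 hg0) x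

/-! ## The residue field -/

section residue

variable {P : F[X]} {e : ℕ}

/-- Reduction modulo `P`. -/
noncomputable def red (P : F[X]) {e : ℕ} (he : 0 < e) : AdjoinRoot (P ^ e) →ₐ[F] AdjoinRoot P :=
  AdjoinRoot.liftAlgHom (P ^ e) (Algebra.ofId F _) (AdjoinRoot.root P) (by
    show eval₂ (algebraMap F (AdjoinRoot P)) _ _ = 0
    rw [eval₂_pow, show eval₂ (algebraMap F (AdjoinRoot P)) (AdjoinRoot.root P) P = 0 from AdjoinRoot.eval₂_root P,
      zero_pow he.ne'])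

theorem red_mk (he : 0 < e) (g : F[X]) : red P he (AdjoinRoot.mk (P ^ e) g) = AdjoinRoot.mk P g := by
  show eval₂ (algebraMap F (AdjoinRoot P)) (AdjoinRoot.root P) g = _
  rw [← AdjoinRoot.aeval_eq]; rfl

theorem isUnit_iff_red (hP : Irreducible P) (he : 0 < e) (x : AdjoinRoot (P ^ e)) :
    IsUnit x ↔ red P he x ≠ 0 := by
  haveI := Fact.mk hP
  refine ⟨fun h => (h.map (red P he)).ne_zero, fun h => ?_⟩
  obtain ⟨g, rfl⟩ := AdjoinRoot.mk_surjective x
  rw [red_mk, ne_eq, AdjoinRoot.mk_eq_zero, ← hP.coprime_iff_not_dvd] at h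
  obtain ⟨a, b, hab⟩ := h.pow_left (m := e)
  refine IsUnit.of_mul_eq_one (AdjoinRoot.mk (P ^ e) b) ?_
  rw [← map_mul, ← map_one (AdjoinRoot.mk (P ^ e)), AdjoinRoot.mk_eq_mk]
  exact ⟨-a, by linear_combination hab⟩

variable [Fintype F]

theorem exists_norm_nonsquare (h2 : (2 : F) ≠ 0) (hP : Irreducible P) (ho : Odd e) :
    ∃ a : AdjoinRoot (P ^ e), IsUnit a ∧ ¬IsSquare (Algebra.norm F a) := by
  haveI := Fact.mk hP
  haveI : FiniteDimensional F (AdjoinRoot P) := finite_adjoin hP.ne_zero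
  haveI : FiniteDimensional F (AdjoinRoot (P ^ e)) := finite_adjoin (pow_ne_zero e hP.ne_zero)
  haveI : Finite (AdjoinRoot P) := Module.finite_of_finite F
  have he : 0 < e := ho.pos
  obtain ⟨ν, hν⟩ := FiniteField.exists_nonsquare (F := F) (fun h => h2 (by
    haveI := ringChar.charP F
    rw [h] at this
    exact CharTwo.two_eq_zero))
  obtain ⟨c, hc⟩ := FiniteField.norm_surjective F (AdjoinRoot P) ν
  -- a coefficient field
  set N := Fintype.card F ^ e with hN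
  have hNe : e ≤ N := (Nat.lt_pow_self (Fintype.one_lt_card : 1 < Fintype.card F)).le
  have hexp : ∀ (g : F[X]) (m : ℕ), aeval (AdjoinRoot.root (P ^ e) ^ Fintype.card F ^ m) g =
      AdjoinRoot.mk (P ^ e) g ^ Fintype.card F ^ m := by
    intro g m
    induction m with
    | zero => rw [pow_zero, pow_one, pow_one, AdjoinRoot.aeval_eq]
    | succ m ih => rw [pow_succ, pow_mul, pow_mul, ← ih, ← map_pow, ← FiniteField.expand_card, expand_aeval]
  let ι : AdjoinRoot P →ₐ[F] AdjoinRoot (P ^ e) :=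
    AdjoinRoot.liftAlgHom P (Algebra.ofId F _) (AdjoinRoot.root (P ^ e) ^ N) (by
      show aeval (AdjoinRoot.root (P ^ e) ^ N) P = 0
      rw [hN, hexp, ← hN, ← map_pow, AdjoinRoot.mk_eq_zero]
      exact pow_dvd_pow P hNe)
  letI : Algebra (AdjoinRoot P) (AdjoinRoot (P ^ e)) := ι.toRingHom.toAlgebra
  haveI : IsScalarTower F (AdjoinRoot P) (AdjoinRoot (P ^ e)) :=
    IsScalarTower.of_algebraMap_eq fun x => (ι.commutes x).symm
  haveI : FiniteDimensional (AdjoinRoot P) (AdjoinRoot (P ^ e)) :=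
    Module.Finite.of_restrictScalars_finite F _ _
  have hr : finrank (AdjoinRoot P) (AdjoinRoot (P ^ e)) = e := by
    have h := Module.finrank_mul_finrank F (AdjoinRoot P) (AdjoinRoot (P ^ e))
    rw [finrank_adjoin hP.ne_zero, finrank_adjoin (pow_ne_zero e hP.ne_zero), natDegree_pow,
      mul_comm e] at h
    exact Nat.eq_of_mul_eq_mul_left hP.natDegree_pos h
  have hν0 : ν ≠ 0 := fun h => hν (by rw [h]; exact IsSquare.zero)
  have hc0 : c ≠ 0 := fun h => hν0 (by rw [← hc, h, Algebra.norm_zero])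
  refine ⟨algebraMap (AdjoinRoot P) (AdjoinRoot (P ^ e)) c, (IsUnit.mk0 c hc0).map _, ?_⟩
  rw [← Algebra.norm_norm (R := F) (S := AdjoinRoot P), Algebra.norm_algebraMap, hr, map_pow, hc]
  intro hs
  obtain ⟨m, hm⟩ := ho
  rw [hm, pow_succ, pow_mul] at hs
  refine hν ?_
  have h1 : IsSquare ((ν ^ 2) ^ m) := (IsSquare.sq ν).pow m
  have h3 := hs.mul h1.inv
  rwa [mul_comm ((ν ^ 2) ^ m) ν, mul_assoc, mul_inv_cancel₀ (pow_ne_zero _ (pow_ne_zero _ hν0)), mul_one] at h3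

end residue

end CfsgLib.Geo.FormClasses
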