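import Cfsg.Agent.AutPOm.SimQuot
import Cfsg.Agent.AutPOm.PlusSign
import Cfsg.Agent.AutPOm.MinusField
import Cfsg.Agent.Classical.SemisimpleOrth
import Cfsg.Agent.Forms.OfBilin
import Cfsg.Agent.Geo.FormClasses.OddLayer
import Cfsg.Agent.GLClass.Classes

/-!
# Fusion of semisimple similitude classes of odd prime order

An isometry of odd order prime to the characteristic is centralised by an isometry of trivial determinant and
non-trivial spinor norm and by proper similitudes of every multiplier.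
-/

set_option autoImplicit false
set_option linter.style.haveILetI false
set_option linter.unusedSectionVars false

namespace CfsgLib.Geo.FormClasses

open Matrix Module Polynomial CfsgLib.Quad CfsgLib.AutPOm CfsgLib.GLClass

/-- The determinant of a similitude of a non-degenerate alternating form. -/
theorem det_of_alt_simil {F V : Type*} [Field F] [AddCommGroup V] [Module F V] [FiniteDimensional F V]
    {A : LinearMap.BilinForm F V} (hA : A.IsAlt) (hnd : ∀ x, (∀ y, A x y = 0) → x = 0) {n : ℕ}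
    (hn : finrank F V = 2 * n) {c : F} (hc : c ≠ 0) {L : V →ₗ[F] V} (hL : ∀ x y, A (L x) (L y) = c * A x y) :
    LinearMap.det L = c ^ n := by
  classical
  obtain ⟨m, k, b, h1, h2, h3, h4⟩ := CfsgLib.Forms.exists_symplectic_basis _ V A hA rfl
  obtain rfl : k = 0 := by
    by_contra hk
    exact b.ne_zero (Sum.inr ⟨0, Nat.pos_of_ne_zero hk⟩) (hnd _ (h4 _))
  have hm : m = n := by
    have := Module.finrank_eq_card_basis b
    simp only [Fintype.card_sum, Fintype.card_fin] at this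
    omega
  let b' : Basis (Fin m ⊕ Fin m) F V := b.reindex (Equiv.sumEmpty (Fin m ⊕ Fin m) (Fin 0))
  have hb' : ∀ i, b' i = b (Sum.inl i) := fun i => by simp [b']
  have hJ : LinearMap.BilinForm.toMatrix b' A = -Matrix.J (Fin m) F := by
    funext i j
    rw [LinearMap.BilinForm.toMatrix_apply, hb', hb', Matrix.J, Matrix.fromBlocks_neg]
    rcases i with i | i <;> rcases j with j | j
    · rw [Matrix.fromBlocks_apply₁₁, h2]; simp
    · rw [Matrix.fromBlocks_apply₁₂, h1]; simp [Matrix.one_apply]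
    · rw [Matrix.fromBlocks_apply₂₁, ← LinearMap.IsAlt.neg hA, h1]; simp [Matrix.one_apply, eq_comm]
    · rw [Matrix.fromBlocks_apply₂₂, h3]; simp
  set M := LinearMap.toMatrix b' b' L
  have hM : Mᵀ * Matrix.J (Fin m) F * M = c • Matrix.J (Fin m) F := by
    have e := LinearMap.BilinForm.toMatrix_comp b' b' A L L
    rw [show A.comp L L = c • A from LinearMap.ext fun x => LinearMap.ext fun y => hL x y, map_smul, hJ] at e
    rw [Matrix.mul_neg, Matrix.neg_mul, smul_neg, neg_inj] at e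
    exact e.symm
  set D : Matrix (Fin m ⊕ Fin m) (Fin m ⊕ Fin m) F := Matrix.fromBlocks (c⁻¹ • 1) 0 0 1
  have hD : Dᵀ * Matrix.J (Fin m) F * D = c⁻¹ • Matrix.J (Fin m) F := by
    simp [D, Matrix.J, Matrix.fromBlocks_transpose, Matrix.fromBlocks_multiply, Matrix.fromBlocks_smul]
  have hmem : M * D ∈ Matrix.symplecticGroup (Fin m) F := by
    rw [SymplecticGroup.mem_iff', Matrix.transpose_mul,
      show Dᵀ * Mᵀ * Matrix.J (Fin m) F * (M * D) = Dᵀ * (Mᵀ * Matrix.J (Fin m) F * M) * D by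
        simp only [Matrix.mul_assoc],
      hM, Matrix.mul_smul, Matrix.smul_mul, hD, smul_smul, mul_inv_cancel₀ hc, one_smul]
  have hdet := SymplecticGroup.det_eq_one hmem
  rw [Matrix.det_mul, Matrix.det_fromBlocks_zero₂₁, Matrix.det_one, mul_one, Matrix.det_smul, Matrix.det_one,
    mul_one, Fintype.card_fin, LinearMap.det_toMatrix, inv_pow, mul_inv_eq_one₀ (pow_ne_zero _ hc)] at hdet
  rw [hdet, hm]

variable {F : Type*} [Field F] [Finite F] {ι : Type} [Fintype ι] [DecidableEq ι]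
  {Q : QuadraticForm F (ι → F)}

section Elements

variable (hQ : (QuadraticMap.polarBilin Q).Nondegenerate) (h2 : (2 : F) ≠ 0) {r : ℕ} (hro : Odd r)
  (hr0 : (r : F) ≠ 0) {g : oGroup Q} (hg : g ^ r = 1)

theorem pow_toLin (g : oGroup Q) : ∀ k : ℕ, (g ^ k).1.toLinearMap = g.1.toLinearMap ^ k
  | 0 => by rw [pow_zero, pow_zero]; rfl
  | k + 1 => by
    rw [pow_succ, pow_succ, ← pow_toLin g k]
    rfl

include hr0 in
/-- An endomorphism with `A ^ r = 1` and `A - 1` nilpotent is trivial. -/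
theorem eq_one_of_unipotent {V : Type*} [AddCommGroup V] [Module F V] {A : Module.End F V} (hA : A ^ r = 1)
    (hn : IsNilpotent (A - 1)) : A = 1 := by
  have hsum : (∑ i ∈ Finset.range r, A ^ i) * (A - 1) = 0 := by rw [geom_sum_mul, hA, sub_self]
  obtain ⟨B, hB, hBc⟩ : ∃ B, (∑ i ∈ Finset.range r, A ^ i) = (r : Module.End F V) + (A - 1) * B ∧
      Commute (A - 1) B := by
    refine ⟨∑ i ∈ Finset.range r, ∑ j ∈ Finset.range i, A ^ j, ?_, ?_⟩
    · rw [Finset.mul_sum, eq_comm, add_comm, ← eq_sub_iff_add_eq]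
      simp only [mul_geom_sum, Finset.sum_sub_distrib]
      simp
    · exact Commute.sum_right _ _ _ fun i _ => Commute.sum_right _ _ _ fun j _ =>
        (((Commute.refl A).sub_left (Commute.one_left A))).pow_right j
  have hu : IsUnit (r : Module.End F V) := by
    rw [← map_natCast (algebraMap F (Module.End F V))]
    exact (isUnit_iff_ne_zero.2 hr0).map _
  have hU : IsUnit (∑ i ∈ Finset.range r, A ^ i) := by
    rw [hB]
    exact (Commute.isNilpotent_mul_right hBc hn).isUnit_add_left_of_commute hu (Nat.cast_commute _ _).symm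
  exact sub_eq_zero.1 (hU.mul_right_eq_zero.1 hsum)

include hQ h2 hro hr0 hg in
/-- A non-trivial isometry of odd order commutes with one of determinant one and non-trivial spinor norm. -/
theorem exists_centralizing_of_order (hne : g ≠ 1) {θ : oGroup Q →* ℤˣ}
    (hθ : ∀ v, Q v ≠ 0 → (θ (refl Q v) = 1 ↔ IsSquare (Q v))) :
    ∃ h : oGroup Q, Commute g h ∧ detO Q h = 1 ∧ θ h = -1 := by
  classical
  haveI := Fintype.ofFinite F
  set T := g.1.toLinearMap with hT
  have hTr : T ^ r = 1 := by rw [hT, ← pow_toLin, hg]; rfl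
  have hI : IsIsom (QuadraticMap.polarBilin Q) T := fun x y => polar_oGroup g x y
  have hmat : matOf (resT T rest_inv) ^ r = 1 := by
    have h1 : (resT T rest_inv : Module.End F (rest T)) ^ r = 1 := by
      have hi : ∀ (i : ℕ) (x : rest T), (((resT T rest_inv : Module.End F (rest T)) ^ i) x).1 = (T ^ i) x.1 := by
        intro i x
        induction i with
        | zero => rfl
        | succ i ih =>
          rw [pow_succ', pow_succ', Module.End.mul_apply, Module.End.mul_apply, ← ih]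
          rfl
      refine LinearMap.ext fun x => Subtype.ext ?_
      rw [hi, hTr]; rfl
    have h2' := congrArg (LinearMap.toMatrixAlgEquiv (Module.finBasis F (rest T))) h1
    rwa [map_pow, map_one] at h2'
  by_cases hl : layer (resT T rest_inv) 1 = 1
  · exfalso
    have hd := natDegree_polys_one hmat hr0
    rw [show polys (elemDiv (matOf (resT T rest_inv))) 1 = layer (resT T rest_inv) 1 from rfl, hl,
      natDegree_one] at hd
    have hbot : rest T = ⊥ := Submodule.finrank_eq_zero.1 hd.symm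
    have htop : LinearMap.ker ((T * T - 1) ^ finrank F (ι → F)) = ⊤ := by
      have h := (isCompl_rest (T := T)).sup_eq_top
      rwa [hbot, sup_bot_eq] at h
    have hA2 : T * T = 1 := by
      refine eq_one_of_unipotent hr0 (by rw [← sq, ← pow_mul, mul_comm, pow_mul, hTr, one_pow])
        ⟨finrank F (ι → F), LinearMap.ext fun x => ?_⟩
      exact LinearMap.mem_ker.1 (htop.symm ▸ Submodule.mem_top : x ∈ _)
    obtain ⟨k, hk⟩ := hro
    rw [← sq] at hA2
    have hT1 : T = 1 := by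
      rw [← hTr, hk, pow_succ, pow_mul, hA2, one_pow, one_mul]
    exact hne (Subtype.ext (LinearEquiv.toLinearMap_injective hT1))
  · obtain ⟨h, hc, hd, ht⟩ := exists_centralizing hQ h2 hθ hI odd_one hl
    exact ⟨h, Subtype.ext (LinearEquiv.ext fun v => (hc v).symm), hd, ht⟩

include hQ h2 hro hr0 hg in
/-- Either a reflection commutes or there are no fixed vectors. -/
theorem exists_refl_or_fpf :
    (∃ v, Q v ≠ 0 ∧ Commute g (refl Q v)) ∨ ∀ x, g.1 x = x → x = 0 := by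
  refine or_iff_not_imp_left.2 fun hno u hu => ?_
  push Not at hno
  have hsing : ∀ v, g.1 v = v → Q v = 0 := fun v hv => by
    by_contra hv0
    refine hno v hv0 ?_
    have h := refl_conj g v
    rw [hv] at h
    exact mul_inv_eq_iff_eq_mul.1 h
  set T := g.1.toLinearMap with hT
  set K := LinearMap.ker (T - 1)
  set R := LinearMap.range (T - 1)
  have hKmem : ∀ x, x ∈ K ↔ g.1 x = x := fun x => by
    rw [LinearMap.mem_ker, LinearMap.sub_apply, Module.End.one_apply, sub_eq_zero]; rfl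
  have hdisj : Disjoint K R := by
    rw [Submodule.disjoint_def]
    rintro x hx ⟨z, rfl⟩
    have hx' := (hKmem _).1 hx
    have hiter : ∀ i : ℕ, (g ^ i).1 z = z + (i : F) • (T - 1) z := fun i => by
      induction i with
      | zero => simp
      | succ i ih =>
        rw [pow_succ']
        show g.1 ((g ^ i).1 z) = _
        rw [ih, map_add, map_smul, hx', Nat.cast_succ, add_smul, one_smul,
          show (T - 1) z = g.1 z - z from rfl]
        abel
    have h := hiter r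
    rw [hg] at h
    change z = z + _ at h
    exact (smul_eq_zero.1 (left_eq_add.1 h)).resolve_left hr0
  have hcompl : K ⊔ R = ⊤ := by
    refine Submodule.eq_top_of_finrank_eq ?_
    have h1 := Submodule.finrank_sup_add_finrank_inf_eq K R
    rw [hdisj.eq_bot, finrank_bot, add_zero] at h1
    rw [h1, add_comm]
    exact LinearMap.finrank_range_add_finrank_ker (T - 1)
  refine hQ.1 u fun w => ?_
  obtain ⟨a, ha, b, ⟨z, rfl⟩, rfl⟩ := Submodule.mem_sup.1 (hcompl.symm ▸ Submodule.mem_top : w ∈ K ⊔ R)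
  rw [map_add, QuadraticMap.polarBilin_apply_apply, QuadraticMap.polarBilin_apply_apply,
    show (T - 1) z = g.1 z - z from rfl, QuadraticMap.polar_sub_right]
  have e1 : QuadraticMap.polar Q u a = 0 := by
    rw [QuadraticMap.polar, hsing _ hu, hsing _ ((hKmem a).1 ha),
      hsing _ (show g.1 (u + a) = u + a by rw [map_add, hu, (hKmem a).1 ha])]
    ring
  have e2 : QuadraticMap.polar Q u (g.1 z) = QuadraticMap.polar Q u z := by
    conv_lhs => rw [← hu]
    exact polar_oGroup g u z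
  rw [e1, e2, sub_self, add_zero]

end Elements

theorem poAut_le_pgoAut : Cfsg.poAut F ⇑Q ≤ Cfsg.pgoAut F ⇑Q := by
  rw [pgoAut_eq, Cfsg.poAut, Cfsg.autSubgroupOf, Subgroup.closure_le]
  rintro β ⟨g, hg, hβ⟩
  obtain ⟨S, hσ, rfl⟩ := exists_semi_of_mem (Q := Q) (g := g) ⟨1, fun v => by
    rw [Units.val_one, one_mul]; exact hg v v⟩
  exact ⟨S, mem_simGroup.mpr hσ, ((induced_iff S).mp (by rw [hσ]; exact hβ)).symm⟩

theorem pomHom_iso_mem_poAut (k : oGroup Q) : pomHom Q (isoHom Q k) ∈ Cfsg.poAut F ⇑Q := by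
  obtain ⟨⟨g, hg⟩, rfl⟩ := (isoGroupEquiv Q).surjective k
  have hmat : (isoHom Q (isoGroupEquiv Q ⟨g, hg⟩)).mat = g :=
    Semi.mat_eq fun v => isoGroupEquiv_apply Q ⟨g, hg⟩ v
  refine Subgroup.subset_closure ⟨g, hg, ?_⟩
  have h := (induced_iff (isoHom Q (isoGroupEquiv Q ⟨g, hg⟩))).mpr rfl
  rwa [hmat] at h

/-! ## The fusion -/

variable {n : ℕ} (X : SignChar Q n) (hQ : Big Q) (h2 : (2 : F) ≠ 0) {r : ℕ} (hr : r.Prime) (hro : Odd r)
  (hr0 : (r : F) ≠ 0)

include X hQ h2 hro hr0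

theorem exists_centralizing_simil {g : oGroup Q} (hg : g ^ r = 1) (c : Fˣ) :
    ∃ S : Semi Q, S ∈ X.dir ∧ S.c = c ∧ Commute S (isoHom Q g) := by
  classical
  obtain ⟨S0, hσ0, hc0⟩ := X.mult c
  have hσi : ∀ k : oGroup Q, (isoHom Q k).σ = RingEquiv.refl F := fun k => rfl
  have hTmat : ∀ k : oGroup Q, ∀ v, k.1 v = ((isoHom Q k).mat : Matrix ι ι F) *ᵥ v := fun k v =>
    (isoHom Q k).T_eq_mulVec_of_refl (hσi k) v
  have hpow : ∀ i : ℕ, ((isoHom Q g).mat : Matrix ι ι F) ^ i = ((isoHom Q (g ^ i)).mat : Matrix ι ι F) := fun i => by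
    induction i with
    | zero =>
      refine Matrix.ext_iff_smul.mpr fun v => ?_
      rw [pow_zero, pow_zero, Matrix.smul_eq_mulVec, Matrix.smul_eq_mulVec, Matrix.one_mulVec, ← hTmat]
      rfl
    | succ i ih =>
      rw [pow_succ, pow_succ, ih, map_mul, Semi.mat_mul, hσi]
      simp
  set g' := S0.oEquiv g
  have hXA : (S0.mat : Matrix ι ι F) * ((isoHom Q g).mat : Matrix ι ι F) =
      ((isoHom Q g').mat : Matrix ι ι F) * (S0.mat : Matrix ι ι F) := by
    have h := congrArg (fun S : Semi Q => (S.mat : Matrix ι ι F)) (mul_inv_eq_iff_eq_mul.1 (S0.conj_iso g))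
    simp only [Semi.mat_mul, hσ0, hσi] at h
    simpa using h
  obtain ⟨k, hk, hkc⟩ := CfsgLib.SemiConj.exists_orth_conj Q hQ.nd hr0 hro
    (A := ((isoHom Q g).mat : Matrix ι ι F)) (B := ((isoHom Q g').mat : Matrix ι ι F))
    (X := (S0.mat : Matrix ι ι F)) (by rw [hpow, hg]; exact (by
      refine Matrix.ext_iff_smul.mpr fun v => ?_
      rw [Matrix.smul_eq_mulVec, Matrix.smul_eq_mulVec, Matrix.one_mulVec, ← hTmat]
      rfl))
    (fun v => by rw [← hTmat]; exact g.2 v) (fun v => by rw [← hTmat]; exact g'.2 v) S0.mat.isUnit hXA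
  let k' : oGroup Q := ⟨k, hk⟩
  have hkg : k' * g = g' * k' := Subtype.ext (LinearEquiv.ext fun v => by
    show k (g.1 v) = g'.1 (k v)
    rw [hTmat g, hkc, ← hTmat])
  set S := (isoHom Q k')⁻¹ * S0 with hSdef
  have hSsim : S ∈ simGroup Q := mul_mem (inv_mem (mem_simGroup.mpr rfl)) (mem_simGroup.mpr hσ0)
  have hSc : S.c = c := by
    refine Units.ext ?_
    rw [hSdef, ← map_inv, Semi.mul_c, hσi, ← hc0]
    change (1 : F) * _ = _
    rw [one_mul]; rfl
  have hcomm : Commute S (isoHom Q g) := by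
    show S * _ = _ * S
    rw [hSdef, mul_assoc, mul_inv_eq_iff_eq_mul.1 (S0.conj_iso g), ← mul_assoc, ← mul_assoc, ← map_inv,
      ← map_mul, ← map_mul]
    refine congrArg (fun w => isoHom Q w * S0) ?_
    rw [inv_mul_eq_iff_eq_mul, ← mul_assoc, hkg, mul_inv_cancel_right]
  rcases Int.units_eq_one_or (X.sgn ⟨S, hSsim⟩) with hs | hs
  · exact ⟨S, X.mem_dir.mpr ⟨hSsim, hs⟩, hSc, hcomm⟩
  rcases exists_refl_or_fpf hQ.nd h2 hro hr0 hg with ⟨v, hv, hvc⟩ | hfpf
  · refine ⟨isoHom Q (refl Q v) * S, X.mem_dir.mpr ⟨mul_mem (mem_simGroup.mpr rfl) hSsim, ?_⟩, ?_, ?_⟩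
    · rw [show (⟨isoHom Q (refl Q v) * S, _⟩ : ↥(simGroup Q)) =
        ⟨isoHom Q (refl Q v), mem_simGroup.mpr rfl⟩ * ⟨S, hSsim⟩ from rfl, map_mul, X.sgn_refl v hv, hs]
      rfl
    · refine Units.ext ?_
      rw [Semi.mul_c, hSc]
      exact one_mul _
    · exact (hvc.symm.map (isoHom Q)).mul_left hcomm
  exfalso
  set T := g.1.toLinearMap with hT
  let B : LinearMap.BilinForm F (ι → F) := QuadraticMap.polarBilin Q
  let A : LinearMap.BilinForm F (ι → F) :=
    LinearMap.BilinForm.comp B T LinearMap.id - LinearMap.BilinForm.comp B LinearMap.id T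
  have hA : ∀ x y, A x y = QuadraticMap.polar Q (g.1 x) y - QuadraticMap.polar Q x (g.1 y) := fun x y => rfl
  have halt : A.IsAlt := fun x => by rw [hA, QuadraticMap.polar_comm Q (g.1 x) x, sub_self]
  have hnd : ∀ x, (∀ y, A x y = 0) → x = 0 := by
    intro x hx
    have hinv : g.1 (g⁻¹.1 x) = x := g.1.apply_symm_apply x
    have h1 : g.1 x = g⁻¹.1 x := by
      refine sub_eq_zero.1 (hQ.nd.1 _ fun y => ?_)
      rw [QuadraticMap.polarBilin_apply_apply, QuadraticMap.polar_sub_left]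
      have e : QuadraticMap.polar Q (g⁻¹.1 x) y = QuadraticMap.polar Q x (g.1 y) := by
        rw [← polar_oGroup g, hinv]
      rw [e, ← hA]
      exact hx y
    have h3 : (g ^ 2).1 x = x := by
      rw [sq]
      show g.1 (g.1 x) = x
      rw [h1, hinv]
    refine hfpf x ?_
    obtain ⟨j, hj⟩ := hro
    have h4 : ∀ i : ℕ, ((g ^ 2) ^ i).1 x = x := fun i => by
      induction i with
      | zero => rfl
      | succ i ih =>
        rw [pow_succ']
        show (g ^ 2).1 (((g ^ 2) ^ i).1 x) = x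
        rw [ih, h3]
    have h5 : (g ^ 2) ^ (j + 1) = g := by
      rw [← pow_mul, show 2 * (j + 1) = r + 1 by omega, pow_succ, hg, one_mul]
    have h6 := h4 (j + 1)
    rwa [h5] at h6
  have hTS : ∀ x, S.T (g.1 x) = g.1 (S.T x) := fun x => congrArg (fun W : Semi Q => W.T x) hcomm.eq
  have hσS := mem_simGroup.mp hSsim
  have hL : ∀ x, Matrix.toLin' (S.mat : Matrix ι ι F) x = S.T x := fun x => by
    rw [Matrix.toLin'_apply, S.T_eq_mulVec_of_refl hσS]
  have hsim : ∀ x y, QuadraticMap.polar Q (S.T x) (S.T y) = (S.c : F) * QuadraticMap.polar Q x y := fun x y => by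
    rw [S.polar_map, hσS]; rfl
  have hdet := det_of_alt_simil halt hnd (n := n) (c := (S.c : F))
    (by rw [Module.finrank_fintype_fun_eq_card, X.card]) S.c.ne_zero
    (L := Matrix.toLin' (S.mat : Matrix ι ι F)) fun x y => by
      rw [hA, hA, hL, hL, ← hTS, ← hTS, hsim, hsim, mul_sub]
  rw [LinearMap.det_toLin', X.det_eq ⟨S, hSsim⟩, hs] at hdet
  change ((-1 : ℤ) : F) * (S.c : F) ^ n = (S.c : F) ^ n at hdet
  have h7 := pow_ne_zero n S.c.ne_zero
  rw [Int.cast_neg, Int.cast_one] at hdet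
  exact mul_ne_zero h2 h7 (by linear_combination -hdet)

include hr

set_option maxHeartbeats 800000 in
/-- Fusion for an element of odd prime order induced by a similarity. -/
theorem fusion {x : MulAut (Cfsg.POmega F ⇑Q)} (hx : x ∈ Cfsg.pgoAut F ⇑Q) (hxr : orderOf x = r)
    (y : MulAut (Cfsg.POmega F ⇑Q)) :
    ((Cfsg.IsConjUnder (Cfsg.Inn (Cfsg.POmega F ⇑Q)) x y ↔ Cfsg.IsConjUnder (X.dir.map (pomHom Q)) x y) ∧
      (Cfsg.IsConjUnder (Cfsg.psoAut F ⇑Q) x y ↔ Cfsg.IsConjUnder (X.dir.map (pomHom Q)) x y)) ∧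
    (Cfsg.IsConjUnder (Cfsg.poAut F ⇑Q) x y ↔ Cfsg.IsConjUnder (Cfsg.pgoAut F ⇑Q) x y) := by
  classical
  obtain ⟨j, hj⟩ := hro
  have hn : 2 ≤ finrank F (ι → F) := by have := hQ.dim; omega
  obtain ⟨θ, hθ⟩ := exists_spinor hQ.nd h2 hn
  obtain ⟨φ, -, hφ⟩ := X.exists_pgo_mod_pso hQ h2
  have hxr1 : x ^ r = 1 := hxr ▸ pow_orderOf_eq_one x
  have hxp : x ∈ Cfsg.psoAut F ⇑Q := by
    have h1 : φ ⟨x, hx⟩ = 1 := by
      have e : (⟨x, hx⟩ : ↥(Cfsg.pgoAut F ⇑Q)) ^ r = 1 := Subtype.ext hxr1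
      have h := congrArg φ e
      rw [map_pow, map_one, hj, pow_succ, pow_mul] at h
      have hsq : ∀ z : Multiplicative (ZMod 2 × ZMod 2), z ^ 2 = 1 := by decide
      rwa [hsq, one_pow, one_mul] at h
    have h2' : (⟨x, hx⟩ : ↥(Cfsg.pgoAut F ⇑Q)) ∈ φ.ker := h1
    rw [hφ] at h2'
    exact Subgroup.mem_subgroupOf.1 h2'
  rw [psoAut_eq] at hxp
  obtain ⟨_, ⟨h, hh, rfl⟩, rfl⟩ := hxp
  set g := h ^ (r + 1) with hgdef
  have hge : g = (h ^ 2) ^ (j + 1) := by rw [← pow_mul, hgdef]; congr 1; omega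
  have hgOm : g ∈ Om Q := by
    rw [hge]
    refine pow_mem ((mem_commutator_iff hQ.nd h2 hn hθ _).2 ⟨?_, ?_⟩) _
    · rw [map_pow, MonoidHom.mem_ker.1 hh, one_pow]
    · rw [map_pow, Int.units_sq]
  have hsc : ∃ u : Fˣ, isoHom Q (h ^ r) = scalarHom Q u := by
    rw [← map_pow, ← map_pow] at hxr1
    exact (mem_ker_pgHom hQ).1 (pomHom_eq_one_iff.1 hxr1)
  obtain ⟨u, hu⟩ := hsc
  have hu2 : (u : F) * u = 1 := by
    have := congrArg (fun S : Semi Q => (S.c : F)) hu
    exact this.symm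
  have hh2 : h ^ (2 * r) = 1 := by
    refine isoHom_injective ?_
    rw [two_mul, pow_add, map_mul, hu, ← map_mul, map_one, ← map_one (scalarHom Q)]
    exact congrArg _ (Units.ext (by rw [Units.val_mul, hu2, Units.val_one]))
  have hg : g ^ r = 1 := by
    rw [hge, ← pow_mul, ← pow_mul, show 2 * ((j + 1) * r) = 2 * r * (j + 1) by ring, pow_mul, hh2, one_pow]
  have hxg : pomHom Q (isoHom Q g) = pomHom Q (isoHom Q h) := by
    rw [hgdef, map_pow, map_pow, pow_succ, hxr1, one_mul]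
  have hne : g ≠ 1 := fun e => hr.one_lt.ne' (by rw [← hxr, ← hxg, e, map_one, map_one, orderOf_one])
  rw [← hxg]
  set x' := pomHom Q (isoHom Q g)
  have hro' : Odd r := ⟨j, hj⟩
  obtain ⟨w, hwc, hwd, hwθ⟩ := exists_centralizing_of_order hQ.nd h2 hro' hr0 hg hne hθ
  have hcomm : ∀ Z : Semi Q, Commute Z (isoHom Q g) → ∀ K : MulAut (Cfsg.POmega F ⇑Q),
      K * pomHom Q Z * x' * (K * pomHom Q Z)⁻¹ = K * x' * K⁻¹ := fun Z hZ K => by
    rw [mul_assoc K, (hZ.map (pomHom Q)).eq]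
    group
    rfl
  have hinn : ∀ k : oGroup Q, detO Q k = 1 → ∃ K ∈ Cfsg.Inn (Cfsg.POmega F ⇑Q),
      pomHom Q (isoHom Q k) * x' * (pomHom Q (isoHom Q k))⁻¹ = K * x' * K⁻¹ := by
    intro k hk
    have hin : ∀ k : oGroup Q, detO Q k = 1 → θ k = 1 →
        pomHom Q (isoHom Q k) ∈ Cfsg.Inn (Cfsg.POmega F ⇑Q) := fun k h1 h2' =>
      (pomHom_mem_inn_iff hQ).2 ⟨1, ⟨k, (mem_commutator_iff hQ.nd h2 hn hθ k).2 ⟨h1, h2'⟩⟩,
        by rw [map_one, one_mul]⟩
    rcases Int.units_eq_one_or (θ k) with h1 | h1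
    · exact ⟨_, hin k hk h1, rfl⟩
    · refine ⟨_, hin (k * w⁻¹) (by rw [map_mul, map_inv, hk, hwd, inv_one, mul_one])
        (by rw [map_mul, map_inv, h1, hwθ]; rfl), ?_⟩
      conv_lhs => rw [← inv_mul_cancel_right k w, map_mul, map_mul]
      exact hcomm _ (hwc.symm.map (isoHom Q)) _
  have hsplit : ∀ S ∈ simGroup Q, ∃ (k : oGroup Q) (Z : Semi Q), Z ∈ X.dir ∧ Commute Z (isoHom Q g) ∧
      S = isoHom Q k * Z := by
    intro S hS
    obtain ⟨Z, hZd, hZc, hZ⟩ := exists_centralizing_simil X hQ h2 hro' hr0 hg S.c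
    have hZs := mem_simGroup.mp (X.dir_le hZd)
    obtain ⟨k, hk⟩ := Semi.eq_iso (S := S * Z⁻¹) (mem_simGroup.mp (mul_mem hS (inv_mem (X.dir_le hZd))))
      (Units.ext (by
        have h1 := Semi.mul_c (S * Z⁻¹) Z
        rw [inv_mul_cancel_right, mem_simGroup.mp (mul_mem hS (inv_mem (X.dir_le hZd))), hZc] at h1
        change (S.c : F) = _ * (S.c : F) at h1
        rw [Units.val_one]
        exact (mul_eq_right₀ S.c.ne_zero).1 h1.symm))
    exact ⟨k, Z, hZd, hZ, by rw [← hk, inv_mul_cancel_right]⟩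
  have hInn : Cfsg.Inn (Cfsg.POmega F ⇑Q) ≤ Cfsg.psoAut F ⇑Q := inn_le_psoAut
  have hpso : Cfsg.psoAut F ⇑Q ≤ X.dir.map (pomHom Q) := by
    rw [psoAut_eq]
    refine Subgroup.map_mono ?_
    rintro _ ⟨k, hk, rfl⟩
    exact X.mem_dir.mpr ⟨mem_simGroup.mpr rfl, (X.sgn_isoHom_eq_one h2).2 hk⟩
  have hdir : ∀ y, Cfsg.IsConjUnder (X.dir.map (pomHom Q)) x' y →
      Cfsg.IsConjUnder (Cfsg.Inn (Cfsg.POmega F ⇑Q)) x' y := by
    rintro _ ⟨_, ⟨S, hS, rfl⟩, rfl⟩
    obtain ⟨hSs, hsg⟩ := X.mem_dir.mp hS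
    obtain ⟨k, Z, hZd, hZ, rfl⟩ := hsplit S hSs
    have hk : detO Q k = 1 := by
      refine (X.sgn_isoHom_eq_one h2).1 ?_
      obtain ⟨hZs, hZg⟩ := X.mem_dir.mp hZd
      rw [show (⟨isoHom Q k * Z, hSs⟩ : ↥(simGroup Q)) =
        ⟨isoHom Q k, mem_simGroup.mpr rfl⟩ * ⟨Z, hZs⟩ from rfl, map_mul, hZg, mul_one] at hsg
      exact hsg
    obtain ⟨K, hK, hKe⟩ := hinn k hk
    exact ⟨K, hK, by rw [map_mul, hcomm Z hZ, hKe]⟩
  refine ⟨⟨⟨fun ⟨h, hh, e⟩ => ⟨h, hpso (hInn hh), e⟩, hdir y⟩,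
    ⟨fun ⟨h, hh, e⟩ => ⟨h, hpso hh, e⟩, fun hy => let ⟨h, hh, e⟩ := hdir y hy; ⟨h, hInn hh, e⟩⟩⟩, ?_, ?_⟩
  · rintro ⟨h', hh', e⟩
    exact ⟨h', (poAut_le_pgoAut : Cfsg.poAut F ⇑Q ≤ Cfsg.pgoAut F ⇑Q) hh', e⟩
  · rintro ⟨_, hh', rfl⟩
    rw [pgoAut_eq] at hh'
    obtain ⟨S, hS, rfl⟩ := hh'
    obtain ⟨k, Z, hZd, hZ, rfl⟩ := hsplit S hS
    exact ⟨pomHom Q (isoHom Q k), pomHom_iso_mem_poAut k, by rw [map_mul, hcomm Z hZ]⟩

/-- The fusion for a form given as a function. -/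
theorem fusion_class (q : (ι → F) → F) (hq : ⇑Q = q) (P : Matrix ι ι F → Prop)
    (hP : ∀ L : ↥(simGroup Q), P (L.1.mat : Matrix ι ι F) ↔ X.sgn L = 1)
    (x : MulAut (Cfsg.POmega F q)) (hx : x ∈ Cfsg.pgoAut F q) (hxr : orderOf x = r) :
    (∀ y : MulAut (Cfsg.POmega F q),
      (Cfsg.IsConjUnder (Cfsg.Inn (Cfsg.POmega F q)) x y ↔ Cfsg.IsConjUnder (classAut F q P) x y) ∧
      (Cfsg.IsConjUnder (Cfsg.psoAut F q) x y ↔ Cfsg.IsConjUnder (classAut F q P) x y)) ∧
    ∀ y : MulAut (Cfsg.POmega F q),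
      Cfsg.IsConjUnder (Cfsg.poAut F q) x y ↔ Cfsg.IsConjUnder (Cfsg.pgoAut F q) x y := by
  subst hq
  rw [X.classAut_eq_map hP]
  exact ⟨fun y => (fusion X hQ h2 hr hro hr0 hx hxr y).1, fun y => (fusion X hQ h2 hr hro hr0 hx hxr y).2⟩

end CfsgLib.Geo.FormClasses
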