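import Cfsg.Agent.Classical.InvolutionRing
import Cfsg.Agent.Geo.NilForms
import Mathlib

/-!
# Isometries of symmetric and alternating forms: the primary decomposition at `1`, `-1` and the rest

An isometry `T` of an `η`-symmetric non-degenerate form splits the space orthogonally into the generalised
eigenspaces of `1` and `-1` and a rest, where `T * T - 1` is invertible. On the rest, linear similarity
already gives an isometric similarity.
-/

set_option autoImplicit false
set_option linter.style.haveILetI false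
set_option linter.unusedSectionVars false

namespace CfsgLib.Geo.FormClasses

open Module

variable {F : Type*} [Field F] {V : Type*} [AddCommGroup V] [Module F V] [FiniteDimensional F V]
  {η : F} {B : LinearMap.BilinForm F V} {T : V →ₗ[F] V}

/-- An `η`-symmetric non-degenerate form. -/
structure IsForm (η : F) (B : LinearMap.BilinForm F V) : Prop where
  sq : η * η = 1
  swap : ∀ x y, B y x = η * B x y
  nd : ∀ x, (∀ y, B x y = 0) → x = 0

/-- An isometry of the form. -/
def IsIsom (B : LinearMap.BilinForm F V) (T : V →ₗ[F] V) : Prop := ∀ x y, B (T x) (T y) = B x y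

/-- Isometrically similar pairs. -/
def Similar {V' : Type*} [AddCommGroup V'] [Module F V'] (B : LinearMap.BilinForm F V) (T : V →ₗ[F] V)
    (B' : LinearMap.BilinForm F V') (T' : V' →ₗ[F] V') : Prop :=
  ∃ e : V ≃ₗ[F] V', (∀ x, e (T x) = T' (e x)) ∧ ∀ x y, B' (e x) (e y) = B x y

theorem IsForm.nondeg (hB : IsForm η B) : B.Nondegenerate :=
  ⟨fun x hx => hB.nd x hx, fun x hx => hB.nd x fun y => by rw [hB.swap y x, hx, mul_zero]⟩

theorem IsIsom.injective (hB : IsForm η B) (hT : IsIsom B T) : Function.Injective T := by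
  rw [← LinearMap.ker_eq_bot, Submodule.eq_bot_iff]
  intro x hx
  refine hB.nd x fun y => ?_
  rw [← hT, LinearMap.mem_ker.1 hx, map_zero, LinearMap.zero_apply]

theorem IsIsom.pow (hT : IsIsom B T) (a : ℕ) : IsIsom B (T ^ a) := by
  induction a with
  | zero => intro x y; simp
  | succ a ih => intro x y; rw [pow_succ, Module.End.mul_apply, Module.End.mul_apply, ih, hT]

/-! ## The parts -/

/-- Generalised eigenspace. -/
noncomputable def part (T : V →ₗ[F] V) (ε : F) : Submodule F V :=
  LinearMap.ker ((T - ε • 1) ^ finrank F V)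

/-- The part without eigenvalues `1` and `-1`. -/
noncomputable def rest (T : V →ₗ[F] V) : Submodule F V :=
  LinearMap.range ((T * T - 1) ^ finrank F V)

theorem part_inv (ε : F) : ∀ x ∈ part T ε, T x ∈ part T ε := by
  intro x hx
  have hc : Commute T ((T - ε • 1) ^ finrank F V) :=
    ((Commute.refl T).sub_right ((Commute.one_right T).smul_right ε)).pow_right _
  rw [part, LinearMap.mem_ker, ← Module.End.mul_apply, ← hc.eq, Module.End.mul_apply, LinearMap.mem_ker.1 hx,
    map_zero]

theorem rest_inv : ∀ x ∈ rest T, T x ∈ rest T := by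
  rintro _ ⟨w, rfl⟩
  have hc : Commute T ((T * T - 1) ^ finrank F V) :=
    (((Commute.refl T).mul_right (Commute.refl T)).sub_right (Commute.one_right T)).pow_right _
  exact ⟨T w, by rw [← Module.End.mul_apply, ← hc.eq, Module.End.mul_apply]⟩

theorem sq_sub_one : T * T - 1 = (T - (1 : F) • 1) * (T - (-1 : F) • 1) := by
  rw [one_smul, neg_one_smul, sub_mul, mul_sub, mul_sub]
  simp
  abel

theorem ker_sq_pow (h2 : (2 : F) ≠ 0) :
    LinearMap.ker ((T * T - 1) ^ finrank F V) = part T 1 ⊔ part T (-1) := by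
  set N := finrank F V
  have hc : IsCoprime ((Polynomial.X - Polynomial.C (1 : F)) ^ N) ((Polynomial.X - Polynomial.C (-1 : F)) ^ N) :=
    (Polynomial.isCoprime_X_sub_C_of_isUnit_sub (by
      rw [sub_neg_eq_add, one_add_one_eq_two]; exact isUnit_iff_ne_zero.2 h2)).pow
  have h := Polynomial.sup_ker_aeval_eq_ker_aeval_mul_of_coprime T hc
  simp only [map_mul, map_pow, map_sub, Polynomial.aeval_X, Polynomial.aeval_C, Algebra.algebraMap_eq_smul_one] at h
  unfold part
  rw [h, ← ((((Commute.refl T).sub_right ((Commute.one_right T).smul_right (-1 : F))).sub_left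
    (((Commute.one_left _).smul_left (1 : F))))).mul_pow, ← sq_sub_one]

theorem disjoint_parts (h2 : (2 : F) ≠ 0) : part T 1 ⊓ part T (-1) = ⊥ := by
  set N := finrank F V
  have hc : IsCoprime ((Polynomial.X - Polynomial.C (1 : F)) ^ N) ((Polynomial.X - Polynomial.C (-1 : F)) ^ N) :=
    (Polynomial.isCoprime_X_sub_C_of_isUnit_sub (by
      rw [sub_neg_eq_add, one_add_one_eq_two]; exact isUnit_iff_ne_zero.2 h2)).pow
  have h := Polynomial.disjoint_ker_aeval_of_isCoprime T hc
  simp only [map_pow, map_sub, Polynomial.aeval_X, Polynomial.aeval_C, Algebra.algebraMap_eq_smul_one] at h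
  exact disjoint_iff.1 h

theorem isCompl_rest : IsCompl (LinearMap.ker ((T * T - 1) ^ finrank F V)) (rest T) := by
  set f := (T * T - 1 : V →ₗ[F] V)
  set N := finrank F V
  have hd : LinearMap.ker (f ^ N) ⊓ LinearMap.range (f ^ N) = ⊥ := by
    rw [Submodule.eq_bot_iff]
    rintro _ ⟨hx, w, rfl⟩
    have h1 : w ∈ LinearMap.ker (f ^ (N + N)) := by
      rw [LinearMap.mem_ker, pow_add, Module.End.mul_apply]; exact hx
    rw [Module.End.ker_pow_eq_ker_pow_finrank_of_le (show finrank F V ≤ N + N from Nat.le_add_right _ _)] at h1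
    exact h1
  refine ⟨disjoint_iff.2 hd, codisjoint_iff.2 (Submodule.eq_top_of_finrank_eq ?_)⟩
  have h1 := Submodule.finrank_sup_add_finrank_inf_eq (LinearMap.ker (f ^ N)) (rest T)
  rw [show LinearMap.ker (f ^ N) ⊓ rest T = ⊥ from hd, finrank_bot] at h1
  have h2 := (f ^ N).finrank_range_add_finrank_ker
  change finrank F (rest T) + _ = _ at h2
  omega

theorem top_eq (h2 : (2 : F) ≠ 0) : part T 1 ⊔ part T (-1) ⊔ rest T = ⊤ := by
  rw [← ker_sq_pow h2]; exact (isCompl_rest (T := T)).sup_eq_top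

theorem orth_of_ker_pow (hT : IsIsom B T) {ε : F} (hε : ε * ε = 1) :
    ∀ (a : ℕ) (x z : V), ((T - ε • 1) ^ a) x = 0 → B x (((T - ε • 1) ^ a) z) = 0 := by
  intro a
  induction a with
  | zero =>
    intro x z hx
    rw [pow_zero, Module.End.one_apply] at hx
    rw [hx, map_zero, LinearMap.zero_apply]
  | succ a ih =>
    intro x z hx
    rw [pow_succ, Module.End.mul_apply] at hx
    have key : ∀ w, B (T x) (((T - ε • 1) ^ (a + 1)) w) = -ε * B ((T - ε • 1) x) (((T - ε • 1) ^ a) w) := by
      intro w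
      rw [pow_succ', Module.End.mul_apply]
      set w' := ((T - ε • 1) ^ a) w
      have hT' : ∀ x y, B (T x) (T y) = B x y := hT
      simp only [LinearMap.sub_apply, LinearMap.smul_apply, Module.End.one_apply, map_sub, map_smul,
        smul_eq_mul, hT']
      linear_combination (-B x w') * hε
    have h1 : ∀ w, B (T x) (((T - ε • 1) ^ (a + 1)) w) = 0 := fun w => by rw [key, ih _ _ hx, mul_zero]
    have h2 := h1 (T z)
    have hc : Commute T ((T - ε • 1) ^ (a + 1)) :=
      ((Commute.refl T).sub_right ((Commute.one_right T).smul_right ε)).pow_right _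
    rw [← Module.End.mul_apply, ← hc.eq, Module.End.mul_apply, hT] at h2
    exact h2

theorem part_orth_range (hT : IsIsom B T) {ε : F} (hε : ε * ε = 1) {x : V} (hx : x ∈ part T ε) (z : V) :
    B x (((T - ε • 1) ^ finrank F V) z) = 0 :=
  orth_of_ker_pow hT hε _ x z (LinearMap.mem_ker.1 hx)

theorem part_orth_rest (hT : IsIsom B T) {ε : F} (hε : ε = 1 ∨ ε = -1) {x : V}
    (hx : x ∈ part T ε) {y : V} (hy : y ∈ rest T) : B x y = 0 := by
  obtain ⟨w, rfl⟩ := hy
  have hc : Commute (T - (1 : F) • 1) (T - (-1 : F) • 1) :=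
    ((Commute.refl T).sub_right ((Commute.one_right T).smul_right _)).sub_left
      ((Commute.one_left _).smul_left _)
  rcases hε with rfl | rfl
  · rw [sq_sub_one, hc.mul_pow, Module.End.mul_apply]
    exact part_orth_range hT (one_mul 1) hx _
  · rw [sq_sub_one, hc.mul_pow, (hc.pow_pow _ _).eq, Module.End.mul_apply]
    exact part_orth_range hT (by ring) hx _

theorem parts_orth (h2 : (2 : F) ≠ 0) (hT : IsIsom B T) {x : V} (hx : x ∈ part T 1) {y : V}
    (hy : y ∈ part T (-1)) : B x y = 0 := by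
  set N := finrank F V
  have hc : IsCoprime ((Polynomial.X - Polynomial.C (1 : F)) ^ N) ((Polynomial.X - Polynomial.C (-1 : F)) ^ N) :=
    (Polynomial.isCoprime_X_sub_C_of_isUnit_sub (by
      rw [sub_neg_eq_add, one_add_one_eq_two]; exact isUnit_iff_ne_zero.2 h2)).pow
  obtain ⟨u, v, huv⟩ := hc
  have h1 := congrArg (fun P => Polynomial.aeval T P y) huv
  simp only [map_add, map_mul, map_pow, map_sub, Polynomial.aeval_X, Polynomial.aeval_C,
    Algebra.algebraMap_eq_smul_one, map_one, LinearMap.add_apply, Module.End.mul_apply, Module.End.one_apply] at h1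
  have hy' : ((T - (-1 : F) • 1) ^ N) y = 0 := LinearMap.mem_ker.1 hy
  rw [hy', map_zero, add_zero] at h1
  have hcu : Commute (Polynomial.aeval T u) ((T - (1 : F) • 1) ^ N) := by
    refine Commute.pow_right ?_ _
    refine Commute.sub_right ?_ ((Commute.one_right _).smul_right _)
    have := (Commute.all u Polynomial.X).map (Polynomial.aeval T)
    simpa using this
  simp only [one_smul] at hcu h1
  rw [← h1, ← Module.End.mul_apply, hcu.eq, Module.End.mul_apply]
  rw [← one_smul F (1 : V →ₗ[F] V)]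
  exact part_orth_range hT (one_mul 1) hx _

/-! ## Restrictions -/

/-- An orthogonal piece is non-degenerate. -/
theorem IsForm.restrict (hB : IsForm η B) {W W' : Submodule F V} (htop : W ⊔ W' = ⊤)
    (horth : ∀ x ∈ W, ∀ y ∈ W', B x y = 0) : IsForm η (B.restrict W) := by
  refine ⟨hB.sq, fun x y => hB.swap (x : V) (y : V), fun x hx => Subtype.ext (hB.nd _ fun y => ?_)⟩
  obtain ⟨a, ha, b, hb, rfl⟩ := Submodule.mem_sup.1 (htop ▸ Submodule.mem_top : y ∈ W ⊔ W')
  rw [map_add, horth _ x.2 b hb, add_zero]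
  exact hx ⟨a, ha⟩

theorem isForm_parts (h2 : (2 : F) ≠ 0) (hB : IsForm η B) (hT : IsIsom B T) :
    IsForm η (B.restrict (part T 1)) ∧ IsForm η (B.restrict (part T (-1))) ∧ IsForm η (B.restrict (rest T)) := by
  have hsw : ∀ {x y : V}, B x y = 0 → B y x = 0 := fun {x y} h => by rw [hB.swap x y, h, mul_zero]
  refine ⟨hB.restrict (W' := part T (-1) ⊔ rest T) (by rw [← sup_assoc, top_eq h2]) fun x hx y hy => ?_,
    hB.restrict (W' := part T 1 ⊔ rest T) (by rw [← sup_assoc, sup_comm (part T (-1)), top_eq h2]) fun x hx y hy => ?_,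
    hB.restrict (W' := part T 1 ⊔ part T (-1)) (by rw [sup_comm, top_eq h2]) fun x hx y hy => ?_⟩
  · obtain ⟨a, ha, b, hb, rfl⟩ := Submodule.mem_sup.1 hy
    rw [map_add, parts_orth h2 hT hx ha, part_orth_rest hT (Or.inl rfl) hx hb, add_zero]
  · obtain ⟨a, ha, b, hb, rfl⟩ := Submodule.mem_sup.1 hy
    rw [map_add, hsw (parts_orth h2 hT ha hx), part_orth_rest hT (Or.inr rfl) hx hb, add_zero]
  · obtain ⟨a, ha, b, hb, rfl⟩ := Submodule.mem_sup.1 hy
    rw [map_add, hsw (part_orth_rest hT (Or.inl rfl) ha hx),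
      hsw (part_orth_rest hT (Or.inr rfl) hb hx), add_zero]

/-- The restriction of `T`. -/
def resT (T : V →ₗ[F] V) {W : Submodule F V} (h : ∀ x ∈ W, T x ∈ W) : W →ₗ[F] W := T.restrict h

theorem isIsom_res (hT : IsIsom B T) {W : Submodule F V} (h : ∀ x ∈ W, T x ∈ W) :
    IsIsom (B.restrict W) (resT T h) := fun x y => hT (x : V) (y : V)

theorem resT_part_nilpotent (ε : F) :
    (resT T (part_inv (T := T) ε) - ε • 1) ^ finrank F V = 0 := by
  refine LinearMap.ext fun x => Subtype.ext ?_
  have h : ∀ (a : ℕ) (y : part T ε), ((((resT T (part_inv ε) - ε • 1) ^ a) y : part T ε) : V) =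
      ((T - ε • 1) ^ a) (y : V) := by
    intro a
    induction a with
    | zero => intro y; simp
    | succ a ih =>
      intro y
      rw [pow_succ, pow_succ, Module.End.mul_apply, Module.End.mul_apply, ih]
      rfl
  rw [h]
  exact LinearMap.mem_ker.1 x.2

theorem rest_no_eigen (x : rest T) (h : resT T rest_inv (resT T rest_inv x) = x) : x = 0 := by
  refine Subtype.ext ?_
  have h' : T (T (x : V)) = x := congrArg Subtype.val h
  have hN : 1 ≤ finrank F V ∨ finrank F V = 0 := by omega
  rcases hN with hN | hN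
  · have hk : (x : V) ∈ LinearMap.ker ((T * T - 1) ^ finrank F V) := by
      obtain ⟨M, hM⟩ := Nat.exists_eq_add_of_le hN
      rw [LinearMap.mem_ker, hM, add_comm, pow_succ, Module.End.mul_apply, LinearMap.sub_apply,
        Module.End.mul_apply, h', Module.End.one_apply, sub_self, map_zero]
    have := Submodule.disjoint_def.1 (isCompl_rest (T := T)).disjoint _ hk x.2
    exact this
  · haveI : Subsingleton V := Module.finrank_zero_iff.1 hN
    exact Subsingleton.elim _ _

/-- Similar parts give similar pairs. -/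
theorem similar_of_parts {V' : Type*} [AddCommGroup V'] [Module F V'] [FiniteDimensional F V']
    {B' : LinearMap.BilinForm F V'} {T' : V' →ₗ[F] V'} (h2 : (2 : F) ≠ 0) (hB : IsForm η B) (hB' : IsForm η B')
    (hT : IsIsom B T) (hT' : IsIsom B' T')
    (hp : Similar (B.restrict (part T 1)) (resT T (part_inv 1)) (B'.restrict (part T' 1)) (resT T' (part_inv 1)))
    (hm : Similar (B.restrict (part T (-1))) (resT T (part_inv (-1))) (B'.restrict (part T' (-1)))
      (resT T' (part_inv (-1))))
    (hr : Similar (B.restrict (rest T)) (resT T rest_inv) (B'.restrict (rest T')) (resT T' rest_inv)) :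
    Similar B T B' T' := by
  obtain ⟨e1, h1, i1⟩ := hp
  obtain ⟨e2, h2', i2⟩ := hm
  obtain ⟨e3, h3, i3⟩ := hr
  let f : (part T 1 × part T (-1)) × rest T →ₗ[F] V :=
    LinearMap.coprod (LinearMap.coprod (part T 1).subtype (part T (-1)).subtype) (rest T).subtype
  let f' : (part T' 1 × part T' (-1)) × rest T' →ₗ[F] V' :=
    LinearMap.coprod (LinearMap.coprod (part T' 1).subtype (part T' (-1)).subtype) (rest T').subtype
  have hf : Function.Bijective f := by
    constructor
    · rw [← LinearMap.ker_eq_bot, Submodule.eq_bot_iff]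
      rintro ⟨⟨a, b⟩, c⟩ habc
      simp only [f, LinearMap.mem_ker, LinearMap.coprod_apply, Submodule.subtype_apply] at habc
      have hab : (a : V) + b ∈ LinearMap.ker ((T * T - 1) ^ finrank F V) := by
        rw [ker_sq_pow h2]; exact Submodule.add_mem_sup a.2 b.2
      have hc0 : (c : V) = 0 := Submodule.disjoint_def.1 (isCompl_rest (T := T)).disjoint _
        (by rw [eq_neg_of_add_eq_zero_right habc]; exact neg_mem hab) c.2
      rw [hc0, add_zero] at habc
      have ha : (a : V) ∈ part T 1 ⊓ part T (-1) :=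
        ⟨a.2, by rw [eq_neg_of_add_eq_zero_left habc]; exact neg_mem b.2⟩
      rw [disjoint_parts h2, Submodule.mem_bot] at ha
      rw [ha, zero_add] at habc
      exact Prod.ext (Prod.ext (Subtype.ext ha) (Subtype.ext habc)) (Subtype.ext hc0)
    · intro x
      obtain ⟨u, hu, c, hc, rfl⟩ := Submodule.mem_sup.1 (top_eq (T := T) h2 ▸ Submodule.mem_top :
        x ∈ part T 1 ⊔ part T (-1) ⊔ rest T)
      obtain ⟨a, ha, b, hb, rfl⟩ := Submodule.mem_sup.1 hu
      exact ⟨⟨⟨⟨a, ha⟩, ⟨b, hb⟩⟩, ⟨c, hc⟩⟩, rfl⟩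
  have hf' : Function.Bijective f' := by
    constructor
    · rw [← LinearMap.ker_eq_bot, Submodule.eq_bot_iff]
      rintro ⟨⟨a, b⟩, c⟩ habc
      simp only [f', LinearMap.mem_ker, LinearMap.coprod_apply, Submodule.subtype_apply] at habc
      have hab : (a : V') + b ∈ LinearMap.ker ((T' * T' - 1) ^ finrank F V') := by
        rw [ker_sq_pow h2]; exact Submodule.add_mem_sup a.2 b.2
      have hc0 : (c : V') = 0 := Submodule.disjoint_def.1 (isCompl_rest (T := T')).disjoint _
        (by rw [eq_neg_of_add_eq_zero_right habc]; exact neg_mem hab) c.2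
      rw [hc0, add_zero] at habc
      have ha : (a : V') ∈ part T' 1 ⊓ part T' (-1) :=
        ⟨a.2, by rw [eq_neg_of_add_eq_zero_left habc]; exact neg_mem b.2⟩
      rw [disjoint_parts h2, Submodule.mem_bot] at ha
      rw [ha, zero_add] at habc
      exact Prod.ext (Prod.ext (Subtype.ext ha) (Subtype.ext habc)) (Subtype.ext hc0)
    · intro x
      obtain ⟨u, hu, c, hc, rfl⟩ := Submodule.mem_sup.1 (top_eq (T := T') h2 ▸ Submodule.mem_top :
        x ∈ part T' 1 ⊔ part T' (-1) ⊔ rest T')
      obtain ⟨a, ha, b, hb, rfl⟩ := Submodule.mem_sup.1 hu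
      exact ⟨⟨⟨⟨a, ha⟩, ⟨b, hb⟩⟩, ⟨c, hc⟩⟩, rfl⟩
  let Φ := LinearEquiv.ofBijective f hf
  let Φ' := LinearEquiv.ofBijective f' hf'
  let e := (Φ.symm.trans ((e1.prodCongr e2).prodCongr e3)).trans Φ'
  have he : ∀ (a : part T 1) (b : part T (-1)) (c : rest T),
      e ((a : V) + b + c) = (e1 a : V') + e2 b + e3 c := by
    intro a b c
    have : Φ.symm ((a : V) + b + c) = ((a, b), c) := (LinearEquiv.symm_apply_eq Φ).2 rfl
    simp only [e, LinearEquiv.trans_apply, this, LinearEquiv.prodCongr_apply]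
    rfl
  have hsplit : ∀ x : V, ∃ (a : part T 1) (b : part T (-1)) (c : rest T), x = (a : V) + b + c := fun x => by
    obtain ⟨⟨⟨a, b⟩, c⟩, rfl⟩ := hf.2 x
    exact ⟨a, b, c, rfl⟩
  refine ⟨e, fun x => ?_, fun x y => ?_⟩
  · obtain ⟨a, b, c, rfl⟩ := hsplit x
    have h4 : T ((a : V) + b + c) = ((resT T (part_inv 1) a : part T 1) : V) +
        ((resT T (part_inv (-1)) b : part T (-1)) : V) + ((resT T rest_inv c : rest T) : V) := by
      simp only [map_add]; rfl
    rw [h4, he, he, h1, h2', h3]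
    simp only [map_add]; rfl
  · obtain ⟨a, b, c, rfl⟩ := hsplit x
    obtain ⟨a', b', c', rfl⟩ := hsplit y
    rw [he, he]
    have hsw : ∀ {x y : V}, B x y = 0 → B y x = 0 := fun {x y} h => by rw [hB.swap x y, h, mul_zero]
    have hsw' : ∀ {x y : V'}, B' x y = 0 → B' y x = 0 := fun {x y} h => by rw [hB'.swap x y, h, mul_zero]
    have k1 : B' (e1 a : V') (e1 a' : V') = B (a : V) a' := i1 a a'
    have k2 : B' (e2 b : V') (e2 b' : V') = B (b : V) b' := i2 b b'
    have k3 : B' (e3 c : V') (e3 c' : V') = B (c : V) c' := i3 c c'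
    simp only [map_add, LinearMap.add_apply, k1, k2, k3,
      parts_orth h2 hT a.2 b'.2, part_orth_rest hT (Or.inl rfl) a.2 c'.2, part_orth_rest hT (Or.inr rfl) b.2 c'.2,
      hsw (parts_orth h2 hT a'.2 b.2), hsw (part_orth_rest hT (Or.inl rfl) a'.2 c.2),
      hsw (part_orth_rest hT (Or.inr rfl) b'.2 c.2),
      parts_orth h2 hT' (e1 a).2 (e2 b').2, part_orth_rest hT' (Or.inl rfl) (e1 a).2 (e3 c').2,
      part_orth_rest hT' (Or.inr rfl) (e2 b).2 (e3 c').2,
      hsw' (parts_orth h2 hT' (e1 a').2 (e2 b).2), hsw' (part_orth_rest hT' (Or.inl rfl) (e1 a').2 (e3 c).2),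
      hsw' (part_orth_rest hT' (Or.inr rfl) (e2 b').2 (e3 c).2)]

/-! ## The rest -/

section Rest

variable [Finite F]

/-- The left adjoint. -/
noncomputable def adjE (hB : IsForm η B) (M : V →ₗ[F] V) : V →ₗ[F] V :=
  (B.toDual hB.nondeg).symm.toLinearMap.comp (M.dualMap.comp (B.toDual hB.nondeg).toLinearMap)

theorem adjE_apply (hB : IsForm η B) (M : V →ₗ[F] V) (x y : V) : B (adjE hB M x) y = B x (M y) := by
  show B ((B.toDual hB.nondeg).symm (M.dualMap (B.toDual hB.nondeg x))) y = _
  rw [LinearMap.BilinForm.apply_toDual_symm_apply]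
  rfl

theorem adjE_unique (hB : IsForm η B) {M N : V →ₗ[F] V} (h : ∀ x y, B (N x) y = B x (M y)) : adjE hB M = N :=
  LinearMap.ext fun x => sub_eq_zero.1 (hB.nd _ fun y => by
    rw [map_sub, LinearMap.sub_apply, adjE_apply, h, sub_self])

variable {V' : Type*} [AddCommGroup V'] [Module F V'] [FiniteDimensional F V'] {B' : LinearMap.BilinForm F V'}
  {T' : V' →ₗ[F] V'}

/-- Without eigenvalues `1` and `-1`, linearly similar isometries are isometrically similar. -/
theorem similar_of_linear (hB : IsForm η B) (hB' : IsForm η B') (hT : IsIsom B T) (hT' : IsIsom B' T')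
    (hne : ∀ x, T (T x) = x → x = 0) (e : V ≃ₗ[F] V') (he : ∀ x, e (T x) = T' (e x)) : Similar B T B' T' := by
  classical
  let Te := LinearEquiv.ofInjectiveEndo T (hT.injective hB)
  set Ti : V →ₗ[F] V := Te.symm.toLinearMap with hTi
  have hTe : ∀ x, Te x = T x := fun x => rfl
  have hTTi : T * Ti = 1 := LinearMap.ext fun x => by
    rw [Module.End.mul_apply, ← hTe]; exact Te.apply_symm_apply x
  have hTiT : Ti * T = 1 := LinearMap.ext fun x => by
    rw [Module.End.mul_apply, ← hTe]; exact Te.symm_apply_apply x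
  have hTiB : ∀ x y, B (Ti x) y = B x (T y) := fun x y => by
    rw [← hT (Ti x) y, ← Module.End.mul_apply, hTTi, Module.End.one_apply]
  have hTB : ∀ x y, B (T x) y = B x (Ti y) := fun x y => by
    rw [← hT x (Ti y), ← Module.End.mul_apply T Ti, hTTi, Module.End.one_apply]
  let S : V →ₗ[F] V := (B.toDual hB.nondeg).symm.toLinearMap.comp (B'.compl₁₂ e.toLinearMap e.toLinearMap)
  have hSdef : ∀ x y, B (S x) y = B' (e x) (e y) := fun x y => by
    show B ((B.toDual hB.nondeg).symm (B'.compl₁₂ e.toLinearMap e.toLinearMap x)) y = _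
    rw [LinearMap.BilinForm.apply_toDual_symm_apply]
    rfl
  have hSB : ∀ x y, B (S x) y = B x (S y) := fun x y => by
    rw [hB.swap (S y) x, hSdef, hSdef, hB'.swap (e x) (e y), ← mul_assoc, hB.sq, one_mul]
  have hST : S * T = T * S := LinearMap.ext fun x => sub_eq_zero.1 (hB.nd _ fun y => by
    simp only [Module.End.mul_apply, map_sub, LinearMap.sub_apply]
    rw [hSdef, hTB, hSdef, he]
    rw [show e y = T' (e (Ti y)) by rw [← he, ← Module.End.mul_apply, hTTi, Module.End.one_apply], hT',
      sub_self])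
  have hSTi : S * Ti = Ti * S := by
    calc S * Ti = Ti * (T * S) * Ti := by rw [← mul_assoc, hTiT, one_mul]
      _ = Ti * (S * (T * Ti)) := by rw [← hST, mul_assoc, mul_assoc]
      _ = Ti * S := by rw [hTTi, mul_one]
  set s : Set (V →ₗ[F] V) := {T, Ti, S} with hs
  have hcomm : ∀ a ∈ s, ∀ b ∈ s, a * b = b * a := by
    rintro a (rfl | rfl | rfl) b (rfl | rfl | rfl) <;>
      first | rfl | exact hST | exact hST.symm | exact hSTi | exact hSTi.symm | rw [hTTi, hTiT]
  set R := Algebra.adjoin F s with hR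
  letI : CommRing R := Algebra.adjoinCommRingOfComm F hcomm
  haveI : Finite (V →ₗ[F] V) := Module.finite_of_finite F
  have hadd : ∀ M N : V →ₗ[F] V, adjE hB (M + N) = adjE hB M + adjE hB N := fun M N =>
    adjE_unique hB fun x y => by
      simp only [LinearMap.add_apply, map_add, adjE_apply]
  have hmul : ∀ M N : V →ₗ[F] V, adjE hB (M * N) = adjE hB N * adjE hB M := fun M N =>
    adjE_unique hB fun x y => by rw [Module.End.mul_apply, adjE_apply, adjE_apply, Module.End.mul_apply]
  have halg : ∀ c : F, adjE hB (algebraMap F _ c) = algebraMap F _ c := fun c =>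
    adjE_unique hB fun x y => by simp [Algebra.algebraMap_eq_smul_one]
  have hadjT : adjE hB T = Ti := adjE_unique hB hTiB
  have hadjTi : adjE hB Ti = T := adjE_unique hB hTB
  have hadjS : adjE hB S = S := adjE_unique hB hSB
  have hmem : ∀ M ∈ R, adjE hB M ∈ R ∧ adjE hB (adjE hB M) = M := by
    intro M hM
    induction hM using Algebra.adjoin_induction with
    | mem x hx =>
      rcases hx with rfl | rfl | rfl
      · exact ⟨by rw [hadjT]; exact Algebra.subset_adjoin (Or.inr (Or.inl rfl)), by rw [hadjT, hadjTi]⟩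
      · exact ⟨by rw [hadjTi]; exact Algebra.subset_adjoin (Or.inl rfl), by rw [hadjTi, hadjT]⟩
      · exact ⟨by rw [hadjS]; exact Algebra.subset_adjoin (Or.inr (Or.inr rfl)), by rw [hadjS, hadjS]⟩
    | algebraMap c => exact ⟨by rw [halg]; exact Subalgebra.algebraMap_mem _ _, by rw [halg, halg]⟩
    | add x y _ _ hx hy => exact ⟨by rw [hadd]; exact add_mem hx.1 hy.1, by rw [hadd, hadd, hx.2, hy.2]⟩
    | mul x y _ _ hx hy => exact ⟨by rw [hmul]; exact mul_mem hy.1 hx.1, by rw [hmul, hmul, hx.2, hy.2]⟩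
  have hcR : ∀ a b : R, (a : V →ₗ[F] V) * b = b * a := fun a b => congrArg Subtype.val (mul_comm a b)
  let τ : R ≃+* R :=
    { toFun := fun a => ⟨adjE hB a.1, (hmem _ a.2).1⟩
      invFun := fun a => ⟨adjE hB a.1, (hmem _ a.2).1⟩
      left_inv := fun a => Subtype.ext (hmem _ a.2).2
      right_inv := fun a => Subtype.ext (hmem _ a.2).2
      map_mul' := fun a b => Subtype.ext (by
        show adjE hB (a.1 * b.1) = adjE hB a.1 * adjE hB b.1
        rw [hmul]
        exact hcR ⟨_, (hmem _ b.2).1⟩ ⟨_, (hmem _ a.2).1⟩)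
      map_add' := fun a b => Subtype.ext (hadd a.1 b.1) }
  have hτ : ∀ x, τ (τ x) = x := fun x => Subtype.ext (hmem _ x.2).2
  have hunit : ∀ a : R, Function.Injective (a : V →ₗ[F] V) → IsUnit a := by
    intro a ha
    refine IsUnit.isUnit_iff_mulLeft_bijective.2 ?_
    refine (Finite.injective_iff_bijective).1 fun b c hbc => Subtype.ext (LinearMap.ext fun x => ha ?_)
    exact LinearMap.congr_fun (congrArg Subtype.val hbc) x
  set d : R := ⟨T, Algebra.subset_adjoin (Or.inl rfl)⟩ with hd
  have hdu : IsUnit (d - τ d) := by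
    refine hunit _ ?_
    rw [← LinearMap.ker_eq_bot, Submodule.eq_bot_iff]
    intro x hx
    have h1 : T x - Ti x = 0 := by
      have h0 : (T - adjE hB T) x = 0 := LinearMap.mem_ker.1 hx
      rwa [hadjT, LinearMap.sub_apply] at h0
    refine hne x ?_
    rw [sub_eq_zero.1 h1, ← Module.End.mul_apply, hTTi, Module.End.one_apply]
  set h : R := ⟨S, Algebra.subset_adjoin (Or.inr (Or.inr rfl))⟩ with hh
  have hhu : IsUnit h := hunit h (by
    rw [← LinearMap.ker_eq_bot, Submodule.eq_bot_iff]
    intro x hx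
    refine e.map_eq_zero_iff.1 (hB'.nd _ fun y => ?_)
    obtain ⟨y, rfl⟩ := e.surjective y
    rw [← hSdef, show S x = 0 from LinearMap.mem_ker.1 hx, map_zero, LinearMap.zero_apply])
  obtain ⟨z, hz⟩ := CfsgLib.InvolRing.exists_norm τ hτ hdu (h := h) (Subtype.ext hadjS) hhu
  have hz' : (z : V →ₗ[F] V) * adjE hB (z : V →ₗ[F] V) = S := congrArg Subtype.val hz
  have hzu : IsUnit z := isUnit_of_mul_isUnit_left (by rw [hz]; exact hhu)
  have hzinj : Function.Injective (z : V →ₗ[F] V) := by
    obtain ⟨w, hw⟩ := hzu.exists_left_inv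
    intro x y hxy
    have h1 := LinearMap.congr_fun (congrArg Subtype.val hw)
    have h2 := congrArg (w : V →ₗ[F] V) hxy
    rwa [← Module.End.mul_apply, ← Module.End.mul_apply,
      show (w : V →ₗ[F] V) * (z : V →ₗ[F] V) = 1 from congrArg Subtype.val hw, Module.End.one_apply,
      Module.End.one_apply] at h2
  let Z := LinearEquiv.ofInjectiveEndo (z : V →ₗ[F] V) hzinj
  have hZ : ∀ x, Z x = (z : V →ₗ[F] V) x := fun x => rfl
  refine ⟨Z.symm.trans e, fun x => ?_, fun x y => ?_⟩
  · obtain ⟨x, rfl⟩ := Z.surjective x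
    simp only [LinearEquiv.trans_apply, Z.symm_apply_apply]
    rw [hZ, ← Module.End.mul_apply, show T * (z : V →ₗ[F] V) = (z : V →ₗ[F] V) * T from hcR d z,
      Module.End.mul_apply, ← hZ, Z.symm_apply_apply, he]
  · obtain ⟨x, rfl⟩ := Z.surjective x
    obtain ⟨y, rfl⟩ := Z.surjective y
    simp only [LinearEquiv.trans_apply, Z.symm_apply_apply]
    rw [← hSdef, ← hz', hZ, hZ, ← adjE_apply hB (z : V →ₗ[F] V), hcR z ⟨_, (hmem _ z.2).1⟩]
    rfl

end Rest

end CfsgLib.Geo.FormClasses
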