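import Cfsg.Agent.Geo.FormClasses.Split
import Cfsg.Agent.Geo.SpUnipClasses

/-!
# Signed partitions of unipotent isometries

A unipotent isometry of an `η`-symmetric form, `η = -(-1) ^ δ`, has a signed partition; isometries with
equal signed partitions are isometrically similar.
-/

set_option autoImplicit false
set_option linter.style.haveILetI false
set_option linter.unusedSectionVars false

namespace CfsgLib.Geo.FormClasses

open Matrix Module CfsgLib.Geo.NilForms CfsgLib.Geo.SpUnipClasses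

variable {F : Type*} [Field F] {δ D : ℕ} {ν : F}

/-- Signed partitions as multiplicities; a sign is allowed on sizes of parity `δ`. -/
structure Signed (δ : ℕ) (D : ℕ) (c : Fin (D + 1) → ℕ) (s : Fin (D + 1) → Bool) : Prop where
  zero : c 0 = 0
  par : ∀ j : Fin (D + 1), Odd ((j : ℕ) + δ) → Even (c j)
  sign : ∀ j : Fin (D + 1), s j = true → Even ((j : ℕ) + δ) ∧ 0 < c j

/-- The dimension of a signed partition. -/
def size {L : ℕ} (c : Fin L → ℕ) : ℕ := ∑ j, c j * (j : ℕ)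

/-- Canonical Gram matrices for the parity `δ`. -/
def nfs {L : ℕ} (δ : ℕ) (ν : F) (c : Fin L → ℕ) (s : Fin L → Bool) (n : ℕ) :
    Matrix (Ht (ht c) n) (Ht (ht c) n) F :=
  if h : n < L then
    (normalForm ν (c ⟨n, h⟩) (n + δ) (s ⟨n, h⟩)).submatrix (htEquiv c ⟨n, h⟩).symm (htEquiv c ⟨n, h⟩).symm
  else 0

theorem nfs_fin {L : ℕ} (c : Fin L → ℕ) (s : Fin L → Bool) (j : Fin L) :
    nfs δ ν c s (j : ℕ) =
      (normalForm ν (c j) ((j : ℕ) + δ) (s j)).submatrix (htEquiv c j).symm (htEquiv c j).symm := by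
  rw [nfs, dif_pos j.isLt]

theorem nfs_det_ne {L : ℕ} (hν : ν ≠ 0) {c : Fin L → ℕ} (s : Fin L → Bool)
    (hpar : ∀ j : Fin L, Odd ((j : ℕ) + δ) → Even (c j)) (n : ℕ) : (nfs δ ν c s n).det ≠ 0 := by
  rcases Nat.lt_or_ge n L with hn | hn
  · rw [show n = ((⟨n, hn⟩ : Fin L) : ℕ) from rfl, nfs_fin, Matrix.det_submatrix_equiv_self]
    exact normalForm_det_ne hν _ _ _ (hpar ⟨n, hn⟩)
  · haveI := isEmpty_ht c hn
    rw [Matrix.det_isEmpty]; exact one_ne_zero

theorem nfs_transpose {L : ℕ} (c : Fin L → ℕ) (s : Fin L → Bool) (n : ℕ) :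
    (nfs δ ν c s n)ᵀ = (-1 : F) ^ (n + δ) • nfs δ ν c s n := by
  rcases Nat.lt_or_ge n L with hn | hn
  · rw [show n = ((⟨n, hn⟩ : Fin L) : ℕ) from rfl, nfs_fin, Matrix.transpose_submatrix, normalForm_transpose]
    rfl
  · haveI := isEmpty_ht c hn
    exact Subsingleton.elim _ _

section Spaces

variable {V : Type*} [AddCommGroup V] [Module F V] [FiniteDimensional F V] {η : F}
  {B : LinearMap.BilinForm F V}

/-- `X` has the signed partition `(c, s)` for `B`. -/
def HasType (δ : ℕ) (ν : F) (B : LinearMap.BilinForm F V) (X : V →ₗ[F] V) {L : ℕ} (c : Fin L → ℕ)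
    (s : Fin L → Bool) : Prop :=
  ∃ v, IsGen B X (ht c) v ∧ ∀ n, gram B X (ht c) v n = nfs δ ν c s n

theorem exists_type [Finite F] (h2 : (2 : F) ≠ 0) (hν : ¬IsSquare ν) (hη : η = -(-1 : F) ^ δ) {X : V →ₗ[F] V}
    (hS : Skew η B X) (hn : IsNilpotent X) (hD : finrank F V ≤ D) :
    ∃ c s, Signed δ D c s ∧ size c = finrank F V ∧ HasType δ ν B X c s := by
  classical
  obtain ⟨r, k, v, g⟩ := exists_gen hS hn
  have hk : ∀ i, k i < D + 1 := fun i => by
    have h1 := Finset.single_le_sum (fun b _ => Nat.zero_le (k b)) (Finset.mem_univ i)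
    rw [g.card] at h1
    omega
  let c : Fin (D + 1) → ℕ := fun j => Fintype.card (Ht k (j : ℕ))
  have hcard : ∀ n, Fintype.card (Ht (ht c) n) = Fintype.card (Ht k n) := fun n => by
    rcases Nat.lt_or_ge n (D + 1) with h | h
    · exact card_ht_idx c ⟨n, h⟩
    · haveI := isEmpty_ht c h
      haveI : IsEmpty (Ht k n) := ⟨fun p => by have := hk p.1; have := p.2; omega⟩
      rw [Fintype.card_eq_zero, Fintype.card_eq_zero]
  have hnf : ∀ j : Fin (D + 1), (Odd ((j : ℕ) + δ) → Even (c j)) ∧ ∃ σ : Bool,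
      (σ = true → Even ((j : ℕ) + δ) ∧ 0 < c j) ∧ (1 ≤ (j : ℕ) → ∃ P : Matrix (Ht k (j : ℕ)) (Fin (c j)) F,
        Pᵀ * gram B X k v j * P = normalForm ν (c j) ((j : ℕ) + δ) σ) := by
    intro j
    rcases Nat.eq_zero_or_pos (j : ℕ) with hj | hj
    · have hc0 : c j = 0 := Fintype.card_eq_zero_iff.2 ⟨fun p => by have := g.pos p.1; have := p.2; omega⟩
      exact ⟨fun _ => by rw [hc0]; exact Even.zero, false, by simp, fun h => absurd h (by omega)⟩
    let e : Fin (c j) ≃ Ht k (j : ℕ) := (Fintype.equivFin _).symm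
    obtain ⟨ho, P, σ, hσ, hP⟩ := exists_normalForm h2 hν (c j) ((j : ℕ) + δ)
      ((gram B X k v j).submatrix e e)
      (by
        rw [Matrix.transpose_submatrix, gram_transpose hS hj,
          show -(η * (-1 : F) ^ (j : ℕ)) = (-1) ^ ((j : ℕ) + δ) by rw [hη, pow_add]; ring]
        rfl)
      (by rw [Matrix.det_submatrix_equiv_self]; exact g.det _)
    refine ⟨ho, σ, hσ, fun _ => ⟨P.submatrix e.symm id, ?_⟩⟩
    rw [← hP]
    conv_lhs => rw [← Matrix.submatrix_id_id (gram B X k v j)]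
    rw [Matrix.transpose_submatrix, show (gram B X k v j).submatrix id id =
      ((gram B X k v j).submatrix e e).submatrix e.symm e.symm by
        rw [Matrix.submatrix_submatrix, Equiv.self_comp_symm],
      Matrix.submatrix_mul_equiv, Matrix.submatrix_mul_equiv, Matrix.submatrix_id_id]
  choose hpar σ hσ hP using hnf
  obtain ⟨w, gw, hw⟩ := exists_change g (k' := ht c) hcard (nfs δ ν c σ)
    (nfs_det_ne (fun h => hν (by rw [h]; exact IsSquare.zero)) σ hpar) (by
      intro n hn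
      rcases Nat.lt_or_ge n (D + 1) with h | h
      · obtain ⟨P, hP'⟩ := hP ⟨n, h⟩ hn
        refine ⟨P.submatrix id (htEquiv c ⟨n, h⟩).symm, ?_⟩
        rw [show nfs δ ν c σ n = nfs δ ν c σ ((⟨n, h⟩ : Fin (D + 1)) : ℕ) from rfl, nfs_fin, ← hP']
        rw [Matrix.transpose_submatrix]
        conv_lhs => rw [← Matrix.submatrix_id_id (gram B X k v n)]
        rw [← Matrix.submatrix_mul _ _ _ id id Function.bijective_id,
          ← Matrix.submatrix_mul _ _ _ id _ Function.bijective_id]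
      · haveI := isEmpty_ht c h
        exact ⟨0, Subsingleton.elim _ _⟩)
  refine ⟨c, σ, ⟨?_, hpar, hσ⟩, ?_, w, gw, hw⟩
  · exact Fintype.card_eq_zero_iff.2 ⟨fun p => by
      have := g.pos p.1; have h : k p.1 = ((0 : Fin (D + 1)) : ℕ) := p.2; simp at h; omega⟩
  · refine Eq.trans ?_ gw.card
    rw [Fintype.sum_sigma]
    simp [size, ht, mul_comm]

/-! ## The Cayley transform -/

/-- The Cayley transform. -/
noncomputable def cay (U : V →ₗ[F] V) : V →ₗ[F] V := (U - 1) * Ring.inverse (U + 1)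

theorem isUnit_add_one (h2 : (2 : F) ≠ 0) {U : V →ₗ[F] V} {a : ℕ} (hU : (U - 1) ^ a = 0) : IsUnit (U + 1) := by
  have h : IsUnit ((2 : F) • (1 : V →ₗ[F] V) + (U - 1)) := by
    refine IsNilpotent.isUnit_add_left_of_commute ⟨a, hU⟩ ?_ ((Commute.one_right _).smul_right _)
    exact IsUnit.of_mul_eq_one ((2 : F)⁻¹ • (1 : V →ₗ[F] V)) (by
      rw [mul_smul_comm, smul_mul_assoc, one_mul, smul_smul, inv_mul_cancel₀ h2, one_smul])
  rwa [show (2 : F) • (1 : V →ₗ[F] V) + (U - 1) = U + 1 by rw [two_smul]; abel] at h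

theorem cay_add_one (h2 : (2 : F) ≠ 0) {U : V →ₗ[F] V} {a : ℕ} (hU : (U - 1) ^ a = 0) (x : V) :
    cay U ((U + 1) x) = (U - 1) x := by
  rw [← Module.End.mul_apply, cay, mul_assoc, Ring.inverse_mul_cancel _ (isUnit_add_one h2 hU), mul_one]

theorem surj_add_one (h2 : (2 : F) ≠ 0) {U : V →ₗ[F] V} {a : ℕ} (hU : (U - 1) ^ a = 0) (y : V) :
    ∃ x, (U + 1) x = y :=
  ⟨Ring.inverse (U + 1) y, by
    rw [← Module.End.mul_apply, Ring.mul_inverse_cancel _ (isUnit_add_one h2 hU), Module.End.one_apply]⟩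

theorem cay_nilpotent (h2 : (2 : F) ≠ 0) {U : V →ₗ[F] V} {a : ℕ} (hU : (U - 1) ^ a = 0) :
    IsNilpotent (cay U) := by
  refine ⟨a, ?_⟩
  obtain ⟨w, hw⟩ := isUnit_add_one h2 hU
  have hc : Commute (U - 1) (↑w⁻¹ : V →ₗ[F] V) := by
    refine Commute.units_inv_right ?_
    rw [hw]
    exact (((Commute.refl U).add_right (Commute.one_right U)).sub_left (Commute.one_left _))
  rw [cay, ← hw, Ring.inverse_unit, hc.mul_pow, hU, zero_mul]

theorem cay_skew (h2 : (2 : F) ≠ 0) (hB : IsForm η B) {U : V →ₗ[F] V} (hi : IsIsom B U) {a : ℕ}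
    (hU : (U - 1) ^ a = 0) : Skew η B (cay U) := by
  refine ⟨hB.sq, hB.swap, hB.nd, fun x y => ?_⟩
  obtain ⟨x, rfl⟩ := surj_add_one h2 hU x
  obtain ⟨y, rfl⟩ := surj_add_one h2 hU y
  have hi' : ∀ x y, B (U x) (U y) = B x y := hi
  rw [cay_add_one h2 hU, cay_add_one h2 hU]
  simp only [LinearMap.add_apply, LinearMap.sub_apply, Module.End.one_apply, map_add, map_sub, hi']
  ring

theorem intertwine_of_cay (h2 : (2 : F) ≠ 0) {V' : Type*} [AddCommGroup V'] [Module F V'] [FiniteDimensional F V']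
    {U : V →ₗ[F] V} {U' : V' →ₗ[F] V'} {a a' : ℕ} (hU : (U - 1) ^ a = 0) (hU' : (U' - 1) ^ a' = 0)
    (e : V ≃ₗ[F] V') (he : ∀ x, e (cay U x) = cay U' (e x)) (x : V) : e (U x) = U' (e x) := by
  have h1 := he ((U + 1) x)
  obtain ⟨b, hb⟩ := surj_add_one h2 hU' (e ((U + 1) x))
  rw [cay_add_one h2 hU, ← hb, cay_add_one h2 hU'] at h1
  simp only [LinearMap.add_apply, LinearMap.sub_apply, Module.End.one_apply, map_add, map_sub] at h1 hb
  have h3 : (2 : F) • (b - e x) = 0 := by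
    rw [two_smul]
    linear_combination (norm := abel) hb + h1
  have h4 : b = e x := sub_eq_zero.1 ((smul_eq_zero.1 h3).resolve_left h2)
  rw [h4] at hb
  exact (add_right_cancel hb).symm

/-- A sign `ε` times a unipotent isometry. -/
theorem isIsom_smul {T : V →ₗ[F] V} (hT : IsIsom B T) {ε : F} (hε : ε * ε = 1) : IsIsom B (ε • T) := fun x y => by
  have hT' : ∀ x y, B (T x) (T y) = B x y := hT
  simp only [LinearMap.smul_apply, map_smul, smul_eq_mul, hT', ← mul_assoc, hε, one_mul]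

theorem smul_nilpotent {T : V →ₗ[F] V} {ε : F} (hε : ε * ε = 1) {a : ℕ} (h : (T - ε • 1) ^ a = 0) :
    (ε • T - 1) ^ a = 0 := by
  have : ε • T - 1 = ε • (T - ε • 1) := by rw [smul_sub, smul_smul, hε, one_smul]
  rw [this, _root_.smul_pow, h, smul_zero]

end Spaces

/-- Equal signed partitions give similar pairs. -/
theorem similar_of_type {V V' : Type*} [AddCommGroup V] [Module F V] [FiniteDimensional F V] [AddCommGroup V']
    [Module F V'] [FiniteDimensional F V'] {η : F} {B : LinearMap.BilinForm F V}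
    {B' : LinearMap.BilinForm F V'} (h2 : (2 : F) ≠ 0) (hB : IsForm η B) (hB' : IsForm η B')
    {T : V →ₗ[F] V} {T' : V' →ₗ[F] V'} (hT : IsIsom B T) (hT' : IsIsom B' T') {ε : F} (hε : ε * ε = 1) {a a' : ℕ}
    (ha : (T - ε • 1) ^ a = 0) (ha' : (T' - ε • 1) ^ a' = 0) {L : ℕ} {c : Fin L → ℕ} {s : Fin L → Bool}
    (hd : HasType δ ν B (cay (ε • T)) c s) (hd' : HasType δ ν B' (cay (ε • T')) c s) : Similar B T B' T' := by
  obtain ⟨v, g, hv⟩ := hd
  obtain ⟨v', g', hv'⟩ := hd'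
  obtain ⟨e, h1, h2'⟩ := exists_isometry h2 (cay_skew h2 hB (isIsom_smul hT hε) (smul_nilpotent hε ha))
    (cay_skew h2 hB' (isIsom_smul hT' hε) (smul_nilpotent hε ha')) g g' fun n => by rw [hv, hv']
  refine ⟨e, fun x => ?_, h2'⟩
  have h3 := intertwine_of_cay h2 (smul_nilpotent hε ha) (smul_nilpotent hε ha') e h1 x
  simp only [LinearMap.smul_apply, map_smul] at h3
  have h4 := congrArg (fun z => ε • z) h3
  simpa [smul_smul, hε] using h4

end CfsgLib.Geo.FormClasses
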